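import Mathlib
import Cfsg.Prelude.Def_Transfer
import Cfsg.Agent.Lib.SmallElements
import Cfsg.Agent.Lib.UniqueSubgroup
import Cfsg.Agent.Lib.Elementary

/-! Odd `p`-groups with a cyclic maximal subgroup, `Ω₁`, normal `(p,p)` subgroups. -/

set_option autoImplicit false

open scoped commutatorElement

namespace CfsgLib.CyclicMax

universe u

variable {R : Type u} [Group R] {p : ℕ} [hp : Fact p.Prime]

/-- Central commutators of exponent `p` make the `p`-th power map a homomorphism. -/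
theorem mul_pow_of_central_commutators (hodd : p ≠ 2) (hc : commutator R ≤ Subgroup.center R)
    (he : ∀ c ∈ commutator R, c ^ p = 1) (a b : R) : (a * b) ^ p = a ^ p * b ^ p := by
  have hd : b * a = a * b * ⁅b⁻¹, a⁻¹⁆ := by rw [commutatorElement_def]; group
  have hm : ⁅b⁻¹, a⁻¹⁆ ∈ commutator R := Subgroup.commutator_mem_commutator (Subgroup.mem_top _) (Subgroup.mem_top _)
  have hcen := Subgroup.mem_center_iff.mp (hc hm)
  obtain ⟨k, hk⟩ : p ∣ p.choose 2 := hp.out.dvd_choose_self (by norm_num) (by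
    have := hp.out.two_le; omega)
  rw [CfsgLib.Small.mul_pow_class_two hd (hcen a).symm (hcen b).symm p, hk, pow_mul, he _ hm, one_pow, mul_one]

theorem normal_of_index_prime [Finite R] (hR : IsPGroup p R) {C : Subgroup R} (hC : C.index = p) : C.Normal := by
  refine Subgroup.normal_of_index_eq_minFac_card ?_
  obtain ⟨n, hn⟩ := hR.exists_card_eq
  have hn0 : n ≠ 0 := fun h0 => hp.out.not_dvd_one (by
    have := C.index_dvd_card
    rwa [hC, hn, h0, pow_zero] at this)
  rw [hC, hn, Nat.pow_minFac hn0, hp.out.minFac_eq]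

/-- Decomposition with respect to a cyclic subgroup of index `p`. -/
theorem exists_decomp [Finite R] {C : Subgroup R} [C.Normal] (hC : C.index = p) {a b : R}
    (ha : C = Subgroup.zpowers a) (hb : b ∉ C) (x : R) : ∃ i j : ℤ, x = a ^ i * b ^ j := by
  have hcard : Nat.card (R ⧸ C) = p := hC
  have hb1 : (QuotientGroup.mk b : R ⧸ C) ≠ 1 := fun h => hb ((QuotientGroup.eq_one_iff b).mp h)
  obtain ⟨j, hj⟩ := Subgroup.mem_zpowers_iff.mp
    ((zpowers_eq_top_of_prime_card hcard hb1).symm ▸ Subgroup.mem_top (QuotientGroup.mk x : R ⧸ C))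
  rw [← QuotientGroup.mk_zpow] at hj
  have h2 : x * (b ^ j)⁻¹ ∈ C := by
    rw [← QuotientGroup.eq_one_iff, QuotientGroup.mk_mul, QuotientGroup.mk_inv, hj, mul_inv_cancel]
  rw [ha] at h2
  obtain ⟨i, hi⟩ := Subgroup.mem_zpowers_iff.mp h2
  exact ⟨i, j, by rw [hi, inv_mul_cancel_right]⟩

/-- With a cyclic subgroup of index `p`, `p` odd: commutators are central of exponent `p`. -/
theorem commutator_central [Finite R] (hR : IsPGroup p R) (hodd : p ≠ 2) {C : Subgroup R}
    (hC : IsCyclic C) (hCi : C.index = p) :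
    commutator R ≤ Subgroup.center R ∧ ∀ c ∈ commutator R, c ^ p = 1 := by
  haveI := normal_of_index_prime hR hCi
  obtain ⟨a, ha⟩ := (Subgroup.isCyclic_iff_exists_zpowers_eq_top (H := C)).mp hC
  obtain ⟨b, hb⟩ : ∃ b, b ∉ C := by
    by_contra h
    push Not at h
    rw [Subgroup.index_eq_one.mpr (eq_top_iff.mpr fun x _ => h x)] at hCi
    exact hp.out.ne_one hCi.symm
  have hconj : ∀ i : ℤ, ∀ r : ℤ, b * a * b⁻¹ = a ^ r → b * a ^ i * b⁻¹ = a ^ (r * i) := fun i r h => by
    rw [zpow_mul, ← h, conj_zpow]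
  obtain ⟨r, hr⟩ : ∃ r : ℤ, b * a * b⁻¹ = a ^ r := by
    have h1 : b * a * b⁻¹ ∈ C := (inferInstance : C.Normal).conj_mem a (ha ▸ Subgroup.mem_zpowers a) b
    rw [← ha] at h1
    obtain ⟨r, hr⟩ := Subgroup.mem_zpowers_iff.mp h1
    exact ⟨r, hr.symm⟩
  obtain ⟨e, he⟩ := IsPGroup.iff_orderOf.1 hR a
  set c := a ^ (r - 1) with hcdef
  have hpow : ∀ n : ℕ, b ^ n * a * (b ^ n)⁻¹ = a ^ (r ^ n) := by
    intro n
    induction n with
    | zero => simp
    | succ n ih =>
      calc b ^ (n + 1) * a * (b ^ (n + 1))⁻¹ = b * (b ^ n * a * (b ^ n)⁻¹) * b⁻¹ := by rw [pow_succ']; group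
        _ = _ := by rw [ih, hconj _ r hr, pow_succ']
  have hbp : b ^ p ∈ C := by
    rw [← QuotientGroup.eq_one_iff, QuotientGroup.mk_pow, ← hCi, Subgroup.index_eq_card, pow_card_eq_one']
  have hrp : ((orderOf a : ℕ) : ℤ) ∣ r ^ p - 1 := by
    rw [orderOf_dvd_iff_zpow_eq_one, zpow_sub, zpow_one, ← hpow p, mul_inv_eq_one]
    rw [← ha] at hbp
    obtain ⟨j, hj⟩ := Subgroup.mem_zpowers_iff.mp hbp
    rw [← hj]; group
  have hsq : c ^ p = 1 ∧ b * c * b⁻¹ = c := by
    rcases e with _ | m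
    · have ha1 : a = 1 := orderOf_eq_one_iff.mp (by rw [he, pow_zero])
      simp [hcdef, ha1]
    · rw [he, Nat.cast_pow] at hrp
      have hp1 : (p : ℤ) ∣ r - 1 := by
        have h1 : (p : ℤ) ∣ r ^ p - 1 := (dvd_pow_self _ (Nat.succ_ne_zero m)).trans hrp
        rw [← ZMod.intCast_zmod_eq_zero_iff_dvd] at h1 ⊢
        push_cast at h1 ⊢
        rwa [ZMod.pow_card] at h1
      have hm := CfsgLib.UniqueSubgroup.pow_sub_one_dvd (hp.out.odd_of_ne_two hodd) hp1 hrp
      refine ⟨?_, ?_⟩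
      · rw [← zpow_natCast, hcdef, ← zpow_mul, ← orderOf_dvd_iff_zpow_eq_one, he, Nat.cast_pow, pow_succ]
        exact mul_dvd_mul hm dvd_rfl
      · rw [hcdef, hconj _ r hr, ← mul_inv_eq_one, ← zpow_sub, ← orderOf_dvd_iff_zpow_eq_one, he, Nat.cast_pow,
          show r * (r - 1) - (r - 1) = (r - 1) * (r - 1) by ring, pow_succ]
        exact mul_dvd_mul hm hp1
  have hcb : Commute b c := mul_inv_eq_iff_eq_mul.mp hsq.2
  have hca : Commute a c := Commute.self_zpow a _
  have hcen : c ∈ Subgroup.center R := Subgroup.mem_center_iff.mpr fun x => by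
    obtain ⟨i, j, rfl⟩ := exists_decomp hCi ha.symm hb x
    exact ((hca.zpow_left i).mul_left (hcb.zpow_left j)).eq
  set N := Subgroup.zpowers c with hN
  haveI hNn : N.Normal := ⟨fun n hn g => by
    have h := Subgroup.mem_center_iff.mp (Subgroup.zpowers_le.mpr hcen hn) g
    rwa [h, mul_inv_cancel_right]⟩
  have hle : commutator R ≤ N := by
    rw [commutator_def, Subgroup.commutator_le]
    intro x _ y _
    obtain ⟨i, j, rfl⟩ := exists_decomp hCi ha.symm hb x
    obtain ⟨k, l, rfl⟩ := exists_decomp hCi ha.symm hb y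
    rw [← QuotientGroup.eq_one_iff]
    show (QuotientGroup.mk' N) _ = 1
    rw [map_commutatorElement, commutatorElement_eq_one_iff_mul_comm]
    have hab : Commute (QuotientGroup.mk' N b) (QuotientGroup.mk' N a) := by
      show _ * _ = _ * _
      rw [← map_mul, ← map_mul]
      rw [QuotientGroup.mk'_apply, QuotientGroup.mk'_apply, QuotientGroup.eq_iff_div_mem,
        show b * a / (a * b) = b * a * b⁻¹ * a⁻¹ by simp [div_eq_mul_inv, mul_assoc], hr, ← zpow_neg_one, ← zpow_add,
        show r + -1 = r - 1 by ring]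
      exact Subgroup.mem_zpowers c
    simp only [map_mul, map_zpow]
    exact ((((Commute.refl _).zpow_zpow i k).mul_left (hab.zpow_zpow j k)).mul_right
      ((hab.symm.zpow_zpow i l).mul_left ((Commute.refl _).zpow_zpow j l))).eq
  refine ⟨hle.trans (Subgroup.zpowers_le.mpr hcen), fun w hw => ?_⟩
  obtain ⟨i, rfl⟩ := Subgroup.mem_zpowers_iff.mp (hle hw)
  rw [← zpow_natCast, ← zpow_mul, mul_comm, zpow_mul, zpow_natCast, hsq.1, one_zpow]

/-- `Ω₁` of a non-cyclic group with a cyclic subgroup of index `p`, `p` odd. -/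
theorem omega_cyclic_index [Finite R] (hR : IsPGroup p R) (hodd : p ≠ 2) (hnc : ¬ IsCyclic R) {C : Subgroup R}
    (hC : IsCyclic C) (hCi : C.index = p) :
    ∃ K : Subgroup R, (∀ x, x ∈ K ↔ x ^ p = 1) ∧ Cfsg.IsElementaryAbelian p K ∧ Nat.card K = p ^ 2 := by
  haveI := normal_of_index_prime hR hCi
  obtain ⟨hcen, hexp⟩ := commutator_central hR hodd hC hCi
  let f : R →* R := MonoidHom.mk' (fun x => x ^ p) (mul_pow_of_central_commutators hodd hcen hexp)
  obtain ⟨a, ha⟩ := (Subgroup.isCyclic_iff_exists_zpowers_eq_top (H := C)).mp hC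
  obtain ⟨b, hb⟩ : ∃ b, b ∉ C := by
    by_contra h
    push Not at h
    rw [Subgroup.index_eq_one.mpr (eq_top_iff.mpr fun x _ => h x)] at hCi
    exact hp.out.ne_one hCi.symm
  obtain ⟨e, he⟩ := IsPGroup.iff_orderOf.1 hR a
  have hcard : Nat.card R = p ^ (e + 1) := by
    rw [← C.card_mul_index, hCi, ← ha, Nat.card_zpowers, he, pow_succ]
  have he0 : e ≠ 0 := fun h => hnc (isCyclic_of_prime_card (p := p) (by rw [hcard, h, zero_add, pow_one]))
  have hrange : f.range = Subgroup.zpowers (a ^ p) := by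
    refine le_antisymm ?_ (Subgroup.zpowers_le.mpr ⟨a, rfl⟩)
    rintro _ ⟨x, rfl⟩
    obtain ⟨i, j, rfl⟩ := exists_decomp hCi ha.symm hb x
    have hbC : b ^ p ∈ Subgroup.zpowers a := by
      rw [ha, ← QuotientGroup.eq_one_iff, QuotientGroup.mk_pow, ← hCi, Subgroup.index_eq_card, pow_card_eq_one']
    obtain ⟨k, hk⟩ := Subgroup.mem_zpowers_iff.mp hbC
    have hpk : (p : ℤ) ∣ k := by
      by_contra hpk
      apply hnc
      refine isCyclic_of_orderOf_eq_card b ?_
      have hb1 : b ≠ 1 := fun h => hb (h ▸ C.one_mem)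
      obtain ⟨e', he'⟩ := IsPGroup.iff_orderOf.1 hR b
      rcases e' with _ | e'
      · exact absurd (orderOf_eq_one_iff.mp (he'.trans (pow_zero p))) hb1
      have h1 : orderOf (b ^ p) = p ^ e' := by
        rw [orderOf_pow_of_dvd hp.out.ne_zero (he' ▸ dvd_pow_self p (Nat.succ_ne_zero e')), he', pow_succ,
          Nat.mul_div_cancel _ hp.out.pos]
      have h3 : Subgroup.zpowers (a ^ k) = Subgroup.zpowers a := by
        refine le_antisymm (Subgroup.zpowers_le.mpr (Subgroup.zpow_mem _ (Subgroup.mem_zpowers a) k)) (Subgroup.zpowers_le.mpr ?_)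
        obtain ⟨u, v, huv⟩ : IsCoprime k ((orderOf a : ℕ) : ℤ) := by
          rw [he, Nat.cast_pow]
          exact ((Int.prime_iff_natAbs_prime.mpr (by simpa using hp.out)).coprime_iff_not_dvd.mpr hpk).symm.pow_right
        refine ⟨u, ?_⟩
        show (a ^ k) ^ u = a
        calc (a ^ k) ^ u = a ^ (u * k) := by rw [← zpow_mul, mul_comm]
          _ = a ^ (u * k + v * (orderOf a : ℤ)) := by
            rw [zpow_add, mul_comm v, zpow_mul a (orderOf a : ℤ), zpow_natCast, pow_orderOf_eq_one, one_zpow, mul_one]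
          _ = a := by rw [huv, zpow_one]
      have h4 : Nat.card (Subgroup.zpowers (b ^ p)) = p ^ e := by rw [← hk, h3, Nat.card_zpowers, he]
      rw [Nat.card_zpowers, h1] at h4
      rw [he', hcard, Nat.pow_right_injective hp.out.two_le h4]
    obtain ⟨q, rfl⟩ := hpk
    show (a ^ i * b ^ j) ^ p ∈ _
    rw [mul_pow_of_central_commutators hodd hcen hexp]
    refine Subgroup.mul_mem _ ⟨i, ?_⟩ ⟨q * j, ?_⟩
    · show (a ^ p) ^ i = _
      rw [← zpow_natCast, ← zpow_natCast (a ^ i), ← zpow_mul, ← zpow_mul, mul_comm]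
    · show (a ^ p) ^ (q * j) = _
      rw [← zpow_natCast a, ← zpow_natCast (b ^ j), ← zpow_mul, ← zpow_mul, mul_comm j, zpow_mul b, zpow_natCast, ← hk,
        ← zpow_mul, mul_assoc]
  have hker : Nat.card f.ker = p ^ 2 := by
    have h1 := f.ker.card_mul_index
    rw [Subgroup.index_ker, hrange, Nat.card_zpowers,
      orderOf_pow_of_dvd hp.out.ne_zero (he ▸ dvd_pow_self p he0), he, hcard] at h1
    obtain ⟨m, rfl⟩ := Nat.exists_eq_succ_of_ne_zero he0
    rw [pow_succ p m, Nat.mul_div_cancel _ hp.out.pos] at h1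
    exact Nat.eq_of_mul_eq_mul_right (pow_pos hp.out.pos m) (h1.trans (by rw [Nat.succ_eq_add_one]; ring))
  exact ⟨f.ker, fun x => MonoidHom.mem_ker, ⟨IsPGroup.isMulCommutative_of_card_eq_prime_sq hker,
    fun x hx => MonoidHom.mem_ker.mp hx⟩, hker⟩

/-- A nontrivial normal subgroup of a `p`-group has a normal subgroup of index `p`. -/
theorem exists_normal_index [Finite R] (hR : IsPGroup p R) (S : Subgroup R) [S.Normal] (hS : S ≠ ⊥) :
    ∃ M : Subgroup R, M.Normal ∧ M < S ∧ M.relIndex S = p := by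
  -- an `R`-invariant subgroup of index `p` in `S`
  obtain ⟨M, ⟨hMn, hMS⟩, hmax⟩ := (Set.toFinite {M : Subgroup R | M.Normal ∧ M < S}).exists_maximal
    ⟨⊥, inferInstance, bot_lt_iff_ne_bot.mpr hS⟩
  haveI := hMn
  haveI := hR.isNilpotent
  have hidx : M.relIndex S = p := by
    set π := QuotientGroup.mk' M
    have hSb : S.map π ≠ ⊥ := fun h => hMS.not_ge (by
      rw [Subgroup.map_eq_bot_iff, QuotientGroup.ker_mk'] at h; exact h)
    haveI : (S.map π).Normal := Subgroup.Normal.map inferInstance _ (QuotientGroup.mk'_surjective M)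
    have hZ := CfsgLib.inf_center_ne_bot_of_nilpotent (N := S.map π) hSb
    obtain ⟨k, hk⟩ := ((hR.to_quotient M).to_subgroup (S.map π ⊓ Subgroup.center (R ⧸ M))).exists_card_eq
    obtain ⟨z, hz⟩ := exists_prime_orderOf_dvd_card' p (show p ∣ Nat.card ↥(S.map π ⊓ Subgroup.center (R ⧸ M)) by
      rw [hk]
      exact dvd_pow_self p fun h0 => hZ (Subgroup.card_eq_one.mp (by rw [hk, h0, pow_zero])))
    set L := (Subgroup.zpowers (z : R ⧸ M)).comap π with hL
    haveI hLn : L.Normal := by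
      refine Subgroup.Normal.comap ⟨fun n hn g => ?_⟩ π
      have h := Subgroup.mem_center_iff.mp (Subgroup.zpowers_le.mpr z.2.2 hn) g
      rwa [h, mul_inv_cancel_right]
    have hML : M < L := by
      refine lt_of_le_of_ne (fun m hm => ?_) fun h => ?_
      · show π m ∈ Subgroup.zpowers (z : R ⧸ M)
        rw [show π m = 1 from (QuotientGroup.eq_one_iff m).mpr hm]; exact one_mem _
      · obtain ⟨x, hx⟩ := QuotientGroup.mk'_surjective M (z : R ⧸ M)
        have hxM : x ∈ M := h.symm ▸ (show π x ∈ Subgroup.zpowers (z : R ⧸ M) from hx.symm ▸ Subgroup.mem_zpowers _)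
        have h1 : (z : R ⧸ M) = 1 := hx ▸ (QuotientGroup.eq_one_iff x).mpr hxM
        rw [← Subgroup.orderOf_coe, h1, orderOf_one] at hz
        exact hp.out.ne_one hz.symm
    have hLS : L ≤ S := by
      intro x hx
      have h1 : π x ∈ S.map π := Subgroup.zpowers_le.mpr z.2.1 hx
      obtain ⟨s, hs, e⟩ := h1
      have h2 : s⁻¹ * x ∈ M := QuotientGroup.eq.mp e
      simpa using S.mul_mem hs (hMS.le h2)
    have hLeq : L = S := by
      by_contra h
      exact hML.not_ge (hmax (y := L) ⟨hLn, lt_of_le_of_ne hLS h⟩ hML.le)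
    have h3 : Nat.card (S.map π) = p := by
      rw [← hLeq, hL, Subgroup.map_comap_eq_self_of_surjective (QuotientGroup.mk'_surjective M), Nat.card_zpowers,
        Subgroup.orderOf_coe, hz]
    calc M.relIndex S = (M.subgroupOf S).index := rfl
      _ = Nat.card (π.comp S.subtype).range := by
        rw [← Subgroup.index_ker]
        congr 1
        ext x
        simp [π, Subgroup.mem_subgroupOf]
      _ = p := by rw [MonoidHom.range_comp, Subgroup.range_subtype, h3]
  exact ⟨M, hMn, hMS, hidx⟩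

/-- A normal non-cyclic subgroup contains a normal elementary abelian subgroup of order `p ^ 2`. -/
theorem exists_normal_sq [Finite R] (hR : IsPGroup p R) (hodd : p ≠ 2) (S : Subgroup R) [S.Normal]
    (hS : ¬ IsCyclic S) :
    ∃ A : Subgroup R, A ≤ S ∧ A.Normal ∧ Cfsg.IsElementaryAbelian p A ∧ Nat.card A = p ^ 2 := by
  induction hn : Nat.card S using Nat.strong_induction_on generalizing S with
  | _ n ih =>
  obtain ⟨M, hMn, hMS, hidx⟩ := exists_normal_index hR S fun h => hS (by rw [h]; infer_instance)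
  haveI := hMn
  by_cases hMc : IsCyclic M
  · have hC : IsCyclic (M.subgroupOf S) := (Subgroup.subgroupOfEquivOfLe hMS.le).isCyclic.mpr hMc
    obtain ⟨K, hK, ⟨hKab, hKe⟩, hKc⟩ := omega_cyclic_index (hR.to_subgroup S) hodd hS hC hidx
    refine ⟨K.map S.subtype, Subgroup.map_subtype_le _, ⟨?_⟩, ⟨Subgroup.map_isMulCommutative _ _, ?_⟩,
      by rw [Subgroup.card_map_of_injective S.subtype_injective, hKc]⟩
    · rintro _ ⟨x, hx, rfl⟩ g
      refine ⟨⟨g * x * g⁻¹, (inferInstance : S.Normal).conj_mem x x.2 g⟩, (hK _).mpr (Subtype.ext ?_), rfl⟩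
      show (g * (x : R) * g⁻¹) ^ p = 1
      rw [conj_pow, show (x : R) ^ p = 1 from congrArg Subtype.val (hKe x hx), mul_one, mul_inv_cancel]
    · rintro _ ⟨x, hx, rfl⟩
      exact congrArg Subtype.val (hKe x hx)
  · have hlt : Nat.card M < n := by
      rw [← hn]
      exact lt_of_le_of_ne (Nat.le_of_dvd Nat.card_pos (Subgroup.card_dvd_of_le hMS.le))
        fun h => hMS.ne (Subgroup.eq_of_le_of_card_ge hMS.le h.ge)
    obtain ⟨A, hA, hrest⟩ := ih _ hlt M hMc rfl
    exact ⟨A, hA.trans hMS.le, hrest⟩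

end CfsgLib.CyclicMax
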