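import Mathlib

/-!
Alperin's lemma on maximal abelian normal subgroups of bounded exponent.
-/

set_option autoImplicit false
set_option linter.unusedSectionVars false

namespace CfsgLib.PGroupAlperin

open scoped commutatorElement

variable {G : Type*} [Group G] [Finite G] {p : ℕ} [Fact p.Prime]

theorem conj_pow_two {x m c d : G} (h : x * m * x⁻¹ = c * m) (hc : x * c * x⁻¹ = d * c) (hd : x * d * x⁻¹ = d)
    (hcd : Commute c d) (k : ℕ) : x ^ k * m * (x ^ k)⁻¹ = d ^ k.choose 2 * c ^ k * m := by
  induction k with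
  | zero => simp
  | succ k ih =>
    have hdp : ∀ j : ℕ, x * d ^ j * x⁻¹ = d ^ j := fun j => by rw [← conj_pow, hd]
    have hcp : x * c ^ k * x⁻¹ = d ^ k * c ^ k := by rw [← conj_pow, hc, hcd.symm.mul_pow]
    calc x ^ (k + 1) * m * (x ^ (k + 1))⁻¹ = x * (x ^ k * m * (x ^ k)⁻¹) * x⁻¹ := by rw [pow_succ']; group
      _ = (x * d ^ k.choose 2 * x⁻¹) * (x * c ^ k * x⁻¹) * (x * m * x⁻¹) := by rw [ih]; group
      _ = d ^ (k + 1).choose 2 * c ^ (k + 1) * m := by
        rw [hdp, hcp, h, Nat.choose_succ_succ, Nat.choose_one_right, add_comm k (k.choose 2), pow_add,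
          pow_succ c]
        group

theorem mul_pow_central {u v e : G} (hvu : v * u = e * (u * v)) (hu : Commute e u) (hv : Commute e v) (k : ℕ) :
    (u * v) ^ k = u ^ k * v ^ k * e ^ k.choose 2 := by
  induction k with
  | zero => simp
  | succ k ih =>
    have hswap : v ^ k * u = e ^ k * (u * v ^ k) := by
      clear ih
      induction k with
      | zero => simp
      | succ k ih =>
        calc v ^ (k + 1) * u = v ^ k * (v * u) := by rw [pow_succ, mul_assoc]
          _ = v ^ k * (e * (u * v)) := by rw [hvu]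
          _ = (v ^ k * e) * (u * v) := by group
          _ = (e * v ^ k) * (u * v) := by rw [(hv.pow_right k).eq]
          _ = e * (v ^ k * u) * v := by group
          _ = e * (e ^ k * (u * v ^ k)) * v := by rw [ih]
          _ = e ^ (k + 1) * (u * v ^ (k + 1)) := by rw [pow_succ' e, pow_succ v]; group
    have hC : Commute (e ^ k.choose 2) (u * v) := (hu.mul_right hv).pow_left _
    calc (u * v) ^ (k + 1) = u ^ k * v ^ k * (e ^ k.choose 2 * (u * v)) := by rw [pow_succ, ih]; group
      _ = u ^ k * (v ^ k * u) * v * e ^ k.choose 2 := by rw [hC.eq]; group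
      _ = u ^ k * (e ^ k * (u * v ^ k)) * v * e ^ k.choose 2 := by rw [hswap]
      _ = u ^ k * u * (v ^ k * v) * e ^ k * e ^ k.choose 2 := by
        have h1 : e ^ k * (u * (v ^ k * v)) = (u * (v ^ k * v)) * e ^ k :=
          ((hu.mul_right ((hv.pow_right k).mul_right hv)).pow_left k).eq
        calc u ^ k * (e ^ k * (u * v ^ k)) * v * e ^ k.choose 2
            = u ^ k * (e ^ k * (u * (v ^ k * v))) * e ^ k.choose 2 := by group
          _ = u ^ k * ((u * (v ^ k * v)) * e ^ k) * e ^ k.choose 2 := by rw [h1]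
          _ = _ := by group
      _ = u ^ (k + 1) * v ^ (k + 1) * e ^ (k + 1).choose 2 := by
        rw [Nat.choose_succ_succ, Nat.choose_one_right, pow_add, pow_succ u, pow_succ v]; group

theorem dvd_choose_two (n : ℕ) (hn : p ^ n ≠ 2) : p ∣ (p ^ n).choose 2 := by
  have hp := (Fact.out : p.Prime)
  rcases Nat.eq_zero_or_pos n with rfl | h
  · simp
  · have := Nat.Prime.dvd_choose_pow hp (n := n) (k := 2) two_ne_zero (fun e => hn e.symm)
    exact this

theorem mem_of_centralizing (hG : IsPGroup p G) (n : ℕ) (hn : p ^ n ≠ 2) (A : Subgroup G) [A.Normal]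
    (hA : IsMulCommutative A) (hAe : ∀ a ∈ A, a ^ p ^ n = 1)
    (hmax : ∀ B : Subgroup G, B.Normal → IsMulCommutative B → (∀ b ∈ B, b ^ p ^ n = 1) → A ≤ B → B = A) :
    ∀ x : G, x ∈ Subgroup.centralizer (A : Set G) → x ^ p ^ n = 1 → x ∈ A := by
  have hp := (Fact.out : p.Prime)
  haveI : Group.IsNilpotent G := hG.isNilpotent
  intro x
  induction hk : Nat.card ↥(Subgroup.normalClosure {x} ⊔ A) using Nat.strong_induction_on generalizing x with
  | _ k ih =>
  subst hk
  intro hx hxn
  by_contra hxA
  set N := Subgroup.normalClosure {x} ⊔ A with hN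
  set C := Subgroup.centralizer (A : Set G) with hC
  have hNC : N ≤ C := sup_le (Subgroup.normalClosure_le_normal (Set.singleton_subset_iff.2 hx))
    (fun a ha b hb => Subgroup.mul_comm_of_mem_isMulCommutative A hb ha)
  set M := ⁅N, (⊤ : Subgroup G)⁆ ⊔ A with hM
  have hMN : M ≤ N := sup_le (Subgroup.commutator_le_left N ⊤) le_sup_right
  have hxN : x ∈ N := Subgroup.mem_sup_left (Subgroup.subset_normalClosure rfl)
  have hxM : x ∉ M := by
    intro h
    have hNM : N ≤ M := sup_le (Subgroup.normalClosure_le_normal (Set.singleton_subset_iff.2 h)) le_sup_right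
    have hall : ∀ j, N ≤ (⊤ : Subgroup G).lowerCentralSeries j ⊔ A := by
      intro j
      induction j with
      | zero => rw [Subgroup.lowerCentralSeries_zero]; exact le_trans le_top le_sup_left
      | succ j ihj =>
        refine hNM.trans (sup_le ((Subgroup.commutator_mono ihj le_rfl).trans ?_) le_sup_right)
        refine Subgroup.commutator_le.2 fun z hz g _ => ?_
        rw [Subgroup.mem_sup_of_normal_right] at hz
        obtain ⟨u, hu, a, ha, rfl⟩ := hz
        rw [show ⁅u * a, g⁆ = u * ⁅a, g⁆ * u⁻¹ * ⁅u, g⁆ by simp only [commutatorElement_def]; group]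
        refine Subgroup.mul_mem _ (Subgroup.mem_sup_right ((inferInstance : A.Normal).conj_mem _ ?_ u))
          (Subgroup.mem_sup_left ?_)
        · exact (Subgroup.commutator_le_left A ⊤) (Subgroup.commutator_mem_commutator ha (Subgroup.mem_top g))
        · rw [Subgroup.lowerCentralSeries_succ]
          exact Subgroup.commutator_mem_commutator hu (Subgroup.mem_top g)
    obtain ⟨j, hj⟩ := Subgroup.nilpotent_iff_lowerCentralSeries.mp (inferInstance : Group.IsNilpotent G)
    have := hall j hxN
    rw [hj, bot_sup_eq] at this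
    exact hxA this
  -- smaller elements lie in `A`
  have hsmall : ∀ y : G, y ∈ C → y ^ p ^ n = 1 → ∀ N' : Subgroup G, N'.Normal → y ∈ N' → N' ≤ N → A ≤ N' →
      x ∉ N' → y ∈ A := by
    intro y hy hyn N' hN'n hyN' hle hAN' hxN'
    refine ih _ ?_ y rfl hy hyn
    have hle' : Subgroup.normalClosure {y} ⊔ A ≤ N' :=
      sup_le (Subgroup.normalClosure_le_normal (Set.singleton_subset_iff.2 hyN')) hAN'
    refine lt_of_le_of_ne (Subgroup.card_le_of_le (hle'.trans hle)) fun e => hxN' ?_
    exact hle' ((Subgroup.eq_of_le_of_card_ge (hle'.trans hle) e.ge).ge hxN)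
  have hMsmall : ∀ y ∈ M, y ^ p ^ n = 1 → y ∈ A := fun y hy hyn =>
    hsmall y (hNC (hMN hy)) hyn M inferInstance hy hMN le_sup_right hxM
  -- `x ^ p ∈ A`
  have hxp : x ^ p ∈ A := by
    set q := QuotientGroup.mk' M with hq
    have hcen : q x ∈ Subgroup.center (G ⧸ M) := Subgroup.mem_center_iff.2 fun y => by
      obtain ⟨g, rfl⟩ := QuotientGroup.mk'_surjective M y
      have h1 : ⁅g, x⁆ ∈ M := by
        rw [← commutatorElement_inv]
        exact inv_mem (Subgroup.mem_sup_left (Subgroup.commutator_mem_commutator hxN (Subgroup.mem_top g)))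
      have h2 : q ⁅g, x⁆ = 1 := (QuotientGroup.eq_one_iff _).2 h1
      rw [map_commutatorElement, commutatorElement_eq_one_iff_mul_comm] at h2
      exact h2
    set Z := Subgroup.zpowers (q x ^ p)
    haveI : Z.Normal := ⟨fun z hz g => by
      obtain ⟨i, rfl⟩ := hz
      show g * (q x ^ p) ^ i * g⁻¹ ∈ Z
      rw [Subgroup.mem_center_iff.1 (Subgroup.zpow_mem _ (Subgroup.pow_mem _ hcen p) i) g, mul_inv_cancel_right]
      exact ⟨i, rfl⟩⟩
    refine hsmall (x ^ p) (Subgroup.pow_mem _ hx p) ?_ (Z.comap q ⊓ N) inferInstance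
      ⟨?_, Subgroup.pow_mem _ hxN p⟩ inf_le_right (le_inf (fun a ha => ?_) le_sup_right) ?_
    · rw [← pow_mul, mul_comm, pow_mul, hxn, one_pow]
    · show q (x ^ p) ∈ Z
      rw [map_pow]; exact Subgroup.mem_zpowers _
    · show q a ∈ Z
      rw [show q a = 1 from (QuotientGroup.eq_one_iff a).2 (Subgroup.mem_sup_right ha)]; exact one_mem _
    · rintro ⟨⟨i, hi⟩, -⟩
      have h1 : (q x) ^ ((p : ℤ) * i - 1) = 1 := by
        rw [zpow_sub, zpow_mul, zpow_natCast, zpow_one, show (q x ^ p) ^ i = q x from hi, mul_inv_cancel]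
      have h2 := orderOf_dvd_iff_zpow_eq_one.2 h1
      obtain ⟨k, hk⟩ := hG x
      obtain ⟨j, -, hj⟩ := (Nat.dvd_prime_pow hp).1 ((orderOf_map_dvd q x).trans (orderOf_dvd_of_pow_eq_one hk))
      rcases j with _ | j
      · have hq1 : q x = 1 := orderOf_eq_one_iff.1 (by rw [hj, pow_zero])
        exact hxM ((QuotientGroup.eq_one_iff x).1 hq1)
      · have h3 : (p : ℤ) ∣ (p : ℤ) * i - 1 := by
          refine dvd_trans ?_ h2
          rw [hj]; push_cast; exact dvd_pow_self _ (Nat.succ_ne_zero j)
        have h4 : (p : ℤ) ∣ (1 : ℤ) := by simpa using (dvd_sub (dvd_mul_right (p : ℤ) i) h3)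
        exact hp.not_dvd_one (Int.natCast_dvd_natCast.1 (by simpa using h4))
  have hAC : ∀ a ∈ A, ∀ z ∈ C, Commute a z := fun a ha z hz => hz a ha
  have hch : ∀ {d : G}, d ^ p = 1 → d ^ (p ^ n).choose 2 = 1 := fun {d} hd => by
    obtain ⟨m, hm⟩ := dvd_choose_two (p := p) n hn
    rw [hm, pow_mul, hd, one_pow]
  -- a commutator with `x` falling into `A` has order dividing `p`
  have hord : ∀ m ∈ C, ⁅x, m⁆ ∈ A → ⁅x, m⁆ ^ p = 1 := by
    intro m hm hc
    have h := conj_pow_two (x := x) (m := m) (c := ⁅x, m⁆) (d := 1)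
      (by rw [commutatorElement_def]; group)
      (by rw [one_mul, ← (hAC _ hc x hx).eq, mul_inv_cancel_right]) (by simp) (Commute.one_right _) p
    rw [(hAC _ hxp m hm).eq, one_pow, one_mul, mul_inv_cancel_right] at h
    exact right_eq_mul.1 h
  have hseries : ∀ m ∈ M, ⁅x, m⁆ ∈ A := by
    have hdown : ∀ j, ∀ m ∈ M, m ∈ (⊤ : Subgroup G).lowerCentralSeries j → ⁅x, m⁆ ∈ A := by
      obtain ⟨t, ht⟩ := Subgroup.nilpotent_iff_lowerCentralSeries.mp (inferInstance : Group.IsNilpotent G)
      have key : ∀ i j, t ≤ j + i → ∀ m ∈ M, m ∈ (⊤ : Subgroup G).lowerCentralSeries j → ⁅x, m⁆ ∈ A := by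
        intro i
        induction i with
        | zero =>
          intro j hj m _ hm
          have := Subgroup.lowerCentralSeries_antitone _ (show t ≤ j by omega) hm
          rw [ht, Subgroup.mem_bot] at this
          rw [this, commutatorElement_one_right]; exact one_mem A
        | succ i ihi =>
          intro j hj m hmM hm
          set c := ⁅x, m⁆ with hc
          have hcM : c ∈ M := Subgroup.mem_sup_left (Subgroup.commutator_mem_commutator hxN (Subgroup.mem_top m))
          have hcj : c ∈ (⊤ : Subgroup G).lowerCentralSeries (j + 1) := by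
            rw [Subgroup.lowerCentralSeries_succ, hc, ← commutatorElement_inv]
            exact inv_mem (Subgroup.commutator_mem_commutator hm (Subgroup.mem_top x))
          set d := ⁅x, c⁆ with hd
          have hdA : d ∈ A := ihi (j + 1) (by omega) c hcM hcj
          have hdp : d ^ p = 1 := hord c (hNC (hMN hcM)) hdA
          refine hMsmall c hcM ?_
          have h := conj_pow_two (x := x) (m := m) (c := c) (d := d)
            (by rw [hc, commutatorElement_def]; group) (by rw [hd, commutatorElement_def]; group)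
            (by rw [← (hAC d hdA x hx).eq, mul_inv_cancel_right]) (hAC d hdA c (hNC (hMN hcM))).symm (p ^ n)
          rw [hxn, hch hdp, one_mul, one_mul, inv_one, mul_one] at h
          exact right_eq_mul.1 h
      exact fun j m hm hmj => key t j (by omega) m hm hmj
    exact fun m hm => hdown 0 m hm (by rw [Subgroup.lowerCentralSeries_zero]; trivial)
  -- conjugates of `x` are congruent to `x` modulo `A`
  have hconj : ∀ g : G, g * x * g⁻¹ * x⁻¹ ∈ A := by
    intro g
    set m := g * x * g⁻¹ * x⁻¹ with hm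
    have hmM : m ∈ M := by
      rw [show m = ⁅x, g⁆⁻¹ by rw [hm, commutatorElement_def]; group]
      exact inv_mem (Subgroup.mem_sup_left (Subgroup.commutator_mem_commutator hxN (Subgroup.mem_top g)))
    refine hMsmall m hmM ?_
    have he := hseries m hmM
    have hep := hord m (hNC (hMN hmM)) he
    have h := mul_pow_central (u := m) (v := x) (e := ⁅x, m⁆) (by rw [commutatorElement_def]; group)
      (hAC _ he m (hNC (hMN hmM))) (hAC _ he x hx) (p ^ n)
    rw [hxn, hch hep, mul_one, mul_one, show m * x = g * x * g⁻¹ by rw [hm]; group, conj_pow, hxn,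
      mul_one, mul_inv_cancel] at h
    exact h.symm
  refine hxA ?_
  set B := A ⊔ Subgroup.zpowers x with hB
  haveI : B.Normal := by
    refine ⟨fun b hb g => ?_⟩
    have hle : B ≤ B.comap (MulAut.conj g).toMonoidHom := sup_le
      (fun a ha => Subgroup.mem_sup_left ((inferInstance : A.Normal).conj_mem a ha g))
      (Subgroup.zpowers_le.2 (by
        show g * x * g⁻¹ ∈ B
        have := B.mul_mem (Subgroup.mem_sup_left (hconj g) : g * x * g⁻¹ * x⁻¹ ∈ B)
          (Subgroup.mem_sup_right (Subgroup.mem_zpowers x))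
        simpa using this))
    exact hle hb
  have hgen : ∀ u ∈ (A : Set G) ∪ {x}, ∀ v ∈ (A : Set G) ∪ {x}, u * v = v * u := by
    rintro u (hu | rfl) v (hv | rfl)
    · exact Subgroup.mul_comm_of_mem_isMulCommutative A hu hv
    · exact (hAC u hu _ hx).eq
    · exact (hAC v hv _ hx).eq.symm
    · rfl
  have hBeq : B = Subgroup.closure ((A : Set G) ∪ {x}) := by
    rw [Subgroup.closure_union, Subgroup.closure_eq, ← Subgroup.zpowers_eq_closure]
  haveI hBc : IsMulCommutative B := hBeq ▸ Subgroup.isMulCommutative_closure hgen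
  have hBe : ∀ b ∈ B, b ^ p ^ n = 1 := by
    intro b hb
    have hb' := hb
    rw [hBeq] at hb'
    induction hb' using Subgroup.closure_induction with
    | mem u hu =>
      rcases hu with hu | rfl
      · exact hAe u hu
      · exact hxn
    | one => exact one_pow _
    | mul u v hu hv h1 h2 =>
      rw [(show Commute u v from Subgroup.mul_comm_of_mem_isMulCommutative B (hBeq ▸ hu) (hBeq ▸ hv)).mul_pow,
        h1 (hBeq ▸ hu), h2 (hBeq ▸ hv), one_mul]
    | inv u hu h1 => rw [inv_pow, h1 (hBeq ▸ hu), inv_one]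
  rw [← hmax B inferInstance hBc hBe le_sup_left]
  exact Subgroup.mem_sup_right (Subgroup.mem_zpowers x)

end CfsgLib.PGroupAlperin
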