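import Mathlib
import Cfsg.Agent.Lib.Elementary
import Cfsg.Agent.Lib.PSolvable
import Cfsg.Agent.Lib.PGroup.Alperin

/-!
Normal elementary abelian subgroups of small order in `p`-groups, `p` odd.
-/

set_option autoImplicit false
set_option linter.unusedSectionVars false

namespace CfsgLib.PGroupRankTwo

variable {G : Type*} [Group G] [Finite G] {p : ℕ} [Fact p.Prime]

theorem exists_normal_step (hG : IsPGroup p G) {M N : Subgroup G} [M.Normal] [N.Normal] (h : M < N) :
    ∃ M' : Subgroup G, M'.Normal ∧ M ≤ M' ∧ M' ≤ N ∧ Nat.card M' = Nat.card M * p := by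
  set q := QuotientGroup.mk' M with hq
  haveI : (N.map q).Normal := Subgroup.Normal.map inferInstance q (QuotientGroup.mk'_surjective M)
  haveI : Group.IsNilpotent (G ⧸ M) := (hG.to_quotient M).isNilpotent
  have hne : N.map q ≠ ⊥ := by
    intro hb
    rw [Subgroup.map_eq_bot_iff, hq, QuotientGroup.ker_mk'] at hb
    exact not_le_of_gt h hb
  have hI := CfsgLib.inf_center_ne_bot_of_nilpotent hne
  obtain ⟨k, hk⟩ := IsPGroup.iff_card.1 ((hG.to_quotient M).to_subgroup (N.map q ⊓ Subgroup.center (G ⧸ M)))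
  have hk0 : k ≠ 0 := by
    intro e
    rw [e, pow_zero] at hk
    exact hI (Subgroup.eq_bot_of_card_eq _ hk)
  obtain ⟨w, hw⟩ := exists_prime_orderOf_dvd_card' (G := ↥(N.map q ⊓ Subgroup.center (G ⧸ M))) p
    (by rw [hk]; exact dvd_pow_self p hk0)
  have hwN : (w : G ⧸ M) ∈ N.map q := w.2.1
  have hwc : (w : G ⧸ M) ∈ Subgroup.center (G ⧸ M) := w.2.2
  set W := Subgroup.zpowers (w : G ⧸ M) with hW
  haveI : W.Normal := ⟨fun n hn g => by
    have hc : n ∈ Subgroup.center (G ⧸ M) := (Subgroup.zpowers_le.2 hwc) hn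
    rw [Subgroup.mem_center_iff.1 hc g, mul_inv_cancel_right]
    exact hn⟩
  refine ⟨W.comap q, inferInstance, ?_, ?_, ?_⟩
  · intro x hx
    show q x ∈ W
    rw [show q x = 1 from (QuotientGroup.eq_one_iff x).2 hx]; exact one_mem _
  · calc W.comap q ≤ (N.map q).comap q := Subgroup.comap_mono (Subgroup.zpowers_le.2 hwN)
      _ = N := by rw [Subgroup.comap_map_eq, hq, QuotientGroup.ker_mk']; exact sup_eq_left.2 h.le
  · rw [hq, CfsgLib.card_comap_mk, hW, Nat.card_zpowers, orderOf_coe_eq, hw]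
where
  orderOf_coe_eq {K : Subgroup (G ⧸ M)} {w : K} : orderOf (w : G ⧸ M) = orderOf w := Subgroup.orderOf_coe w

theorem exists_normal_card (hG : IsPGroup p G) (N : Subgroup G) [N.Normal] (k : ℕ) (hk : p ^ k ≤ Nat.card N) :
    ∃ M : Subgroup G, M.Normal ∧ M ≤ N ∧ Nat.card M = p ^ k := by
  induction k with
  | zero => exact ⟨⊥, inferInstance, bot_le, by simp⟩
  | succ k ih =>
    have hp := (Fact.out : p.Prime)
    have hlt : p ^ k < p ^ (k + 1) := Nat.pow_lt_pow_right hp.one_lt (Nat.lt_succ_self k)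
    obtain ⟨M, hMn, hMN, hM⟩ := ih (by omega)
    haveI := hMn
    have hlt' : M < N := lt_of_le_of_ne hMN (fun e => by rw [e] at hM; omega)
    obtain ⟨M', h1, -, h3, h4⟩ := exists_normal_step hG hlt'
    exact ⟨M', h1, h3, by rw [h4, hM, pow_succ]⟩

theorem step_central (hG : IsPGroup p G) {B A : Subgroup G} [B.Normal] [A.Normal] (hBA : B ≤ A)
    (hc : Nat.card A = Nat.card B * p) (g : G) {b : G} (hb : b ∈ A) : b⁻¹ * (g * b * g⁻¹) ∈ B := by
  set q := QuotientGroup.mk' B with hq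
  haveI : (A.map q).Normal := Subgroup.Normal.map inferInstance q (QuotientGroup.mk'_surjective B)
  haveI : Group.IsNilpotent (G ⧸ B) := (hG.to_quotient B).isNilpotent
  have hA : Nat.card (A.map q) = p := by
    have h1 : (A.map q).comap q = A := by
      rw [Subgroup.comap_map_eq, hq, QuotientGroup.ker_mk']; exact sup_eq_left.2 hBA
    have h2 := CfsgLib.card_comap_mk B (A.map q)
    rw [← hq, h1, hc] at h2
    exact (Nat.eq_of_mul_eq_mul_left Nat.card_pos h2).symm
  have hne : A.map q ≠ ⊥ := by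
    intro e
    rw [e, Subgroup.card_bot] at hA
    exact (Fact.out : p.Prime).one_lt.ne hA
  have hle : A.map q ≤ Subgroup.center (G ⧸ B) := by
    have hI := CfsgLib.inf_center_ne_bot_of_nilpotent hne
    have hd : Nat.card ↥(A.map q ⊓ Subgroup.center (G ⧸ B)) ∣ p := hA ▸ Subgroup.card_dvd_of_le inf_le_left
    rcases (Nat.dvd_prime (Fact.out : p.Prime)).1 hd with h | h
    · exact absurd (Subgroup.eq_bot_of_card_eq _ h) hI
    · exact inf_eq_left.1 (Subgroup.eq_of_le_of_card_ge inf_le_left (by omega))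
  have hcz := Subgroup.mem_center_iff.1 (hle ⟨b, hb, rfl⟩) (q g)
  apply (QuotientGroup.eq_one_iff _).1
  show q (b⁻¹ * (g * b * g⁻¹)) = 1
  rw [map_mul, map_mul, map_mul, hcz, map_inv, map_inv]
  group

theorem sup_eq_of_step {B A : Subgroup G} [B.Normal] (hBA : B ≤ A) (hc : Nat.card A = Nat.card B * p) {b : G}
    (hb : b ∈ A) (hb' : b ∉ B) : B ⊔ Subgroup.zpowers b = A := by
  have hp := (Fact.out : p.Prime)
  have hle : B ⊔ Subgroup.zpowers b ≤ A := sup_le hBA (Subgroup.zpowers_le.2 hb)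
  refine Subgroup.eq_of_le_of_card_ge hle ?_
  obtain ⟨j, hj⟩ := Subgroup.card_dvd_of_le (le_sup_left : B ≤ B ⊔ Subgroup.zpowers b)
  have hd := Subgroup.card_dvd_of_le hle
  rw [hj, hc] at hd
  have hjp : j ∣ p := Nat.dvd_of_mul_dvd_mul_left Nat.card_pos hd
  rcases (Nat.dvd_prime hp).1 hjp with rfl | rfl
  · have heq : B = B ⊔ Subgroup.zpowers b := Subgroup.eq_of_le_of_card_ge le_sup_left (by rw [hj, mul_one])
    exact absurd (heq.symm ▸ Subgroup.mem_sup_right (Subgroup.mem_zpowers b)) hb'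
  · omega

theorem exists_range (E1 : Subgroup G) (b : G) (B1 : Subgroup G)
    (hfix : ∀ e ∈ E1, ∀ c ∈ B1, Commute e c) (hmap : ∀ e ∈ E1, b⁻¹ * (e * b * e⁻¹) ∈ B1) :
    ∃ R : Subgroup G, R ≤ B1 ∧ (∀ c ∈ R, ∃ e ∈ E1, b⁻¹ * (e * b * e⁻¹) = c) ∧
      Nat.card E1 = Nat.card ↥(E1 ⊓ Subgroup.centralizer {b}) * Nat.card R := by
  let f : ↥E1 →* G :=
    { toFun := fun e => b⁻¹ * ((e : G) * b * (e : G)⁻¹)
      map_one' := by simp
      map_mul' := fun e f => by
        have h := hfix e e.2 _ (hmap f f.2)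
        have h2 : (e : G) * (b⁻¹ * ((f : G) * b * (f : G)⁻¹)) * (e : G)⁻¹ = b⁻¹ * ((f : G) * b * (f : G)⁻¹) := by
          rw [h.eq]; group
        calc b⁻¹ * (((e * f : ↥E1) : G) * b * ((e * f : ↥E1) : G)⁻¹)
            = b⁻¹ * ((e : G) * b * (e : G)⁻¹) * ((e : G) * (b⁻¹ * ((f : G) * b * (f : G)⁻¹)) * (e : G)⁻¹) := by
              rw [Subgroup.coe_mul]; group
          _ = _ := by rw [h2] }
  refine ⟨f.range, ?_, ?_, ?_⟩
  · rintro _ ⟨e, rfl⟩; exact hmap e e.2
  · rintro _ ⟨e, rfl⟩; exact ⟨e, e.2, rfl⟩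
  · have hker : f.ker = (E1 ⊓ Subgroup.centralizer {b}).subgroupOf E1 := by
      ext e
      rw [MonoidHom.mem_ker, Subgroup.mem_subgroupOf, Subgroup.mem_inf, Subgroup.mem_centralizer_singleton_iff]
      show b⁻¹ * ((e : G) * b * (e : G)⁻¹) = 1 ↔ _
      rw [inv_mul_eq_one, eq_mul_inv_iff_mul_eq]
      exact ⟨fun h => ⟨e.2, h.symm⟩, fun h => h.2.symm⟩
    have h1 := Subgroup.card_mul_index f.ker
    rw [Subgroup.index_ker, hker, Nat.card_congr (Subgroup.subgroupOfEquivOfLe inf_le_left).toEquiv] at h1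
    exact h1.symm

theorem exists_maximal (hG : IsPGroup p G) : ∃ A : Subgroup G, A.Normal ∧ IsMulCommutative A ∧
    (∀ a ∈ A, a ^ p ^ 1 = 1) ∧
    ∀ B : Subgroup G, B.Normal → IsMulCommutative B → (∀ b ∈ B, b ^ p ^ 1 = 1) → A ≤ B → B = A := by
  haveI : Finite (Subgroup G) := inferInstance
  obtain ⟨A, hA, hmax⟩ := (Set.toFinite {A : Subgroup G | A.Normal ∧ IsMulCommutative A ∧ ∀ a ∈ A, a ^ p ^ 1 = 1}).exists_maximal
    ⟨⊥, inferInstance, ⟨⟨fun a b => Subsingleton.elim _ _⟩⟩, fun a ha => by rw [Subgroup.mem_bot.1 ha, one_pow]⟩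
  exact ⟨A, hA.1, hA.2.1, hA.2.2, fun B h1 h2 h3 h4 => le_antisymm (hmax ⟨h1, h2, h3⟩ h4) h4⟩

theorem inter_centralizer_le (hG : IsPGroup p G) (hp2 : p ≠ 2) {A : Subgroup G} [A.Normal]
    (hA : IsMulCommutative A) (hAe : ∀ a ∈ A, a ^ p ^ 1 = 1)
    (hmax : ∀ B : Subgroup G, B.Normal → IsMulCommutative B → (∀ b ∈ B, b ^ p ^ 1 = 1) → A ≤ B → B = A)
    {x : G} (hx : x ∈ Subgroup.centralizer (A : Set G)) (hxp : x ^ p = 1) : x ∈ A :=
  CfsgLib.PGroupAlperin.mem_of_centralizing hG 1 (by rw [pow_one]; exact hp2) A hA hAe hmax x hx (by rw [pow_one]; exact hxp)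

variable (hG : IsPGroup p G)

include hG in
/-- An elementary abelian subgroup against a normal elementary abelian subgroup of order `p ^ 3`. -/
theorem structure_three {A : Subgroup G} [A.Normal] (hA : IsMulCommutative A) (hA3 : Nat.card A = p ^ 3)
    (hAC : ∀ x ∈ Subgroup.centralizer (A : Set G), x ^ p = 1 → x ∈ A) {E : Subgroup G} (hE : IsMulCommutative E)
    (hEe : ∀ e ∈ E, e ^ p = 1) :
    Nat.card E ≤ p ^ 4 ∧ (Nat.card E = p ^ 4 → ∃ (B : Subgroup G) (a : G), B.Normal ∧ B ≤ A ∧ B ≤ E ∧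
      E ⊓ Subgroup.centralizer (A : Set G) = B ∧ Nat.card B = p ^ 2 ∧ a ∈ A ∧ a ∉ B ∧
      ∀ c ∈ B, ∃ e ∈ E, a⁻¹ * (e * a * e⁻¹) = c) := by
  have hp := (Fact.out : p.Prime)
  obtain ⟨B1, hB1n, hB1A, hB1⟩ := exists_normal_card hG A 1 (by rw [hA3]; exact Nat.pow_le_pow_right hp.pos (by omega))
  haveI := hB1n
  have hlt : B1 < A := lt_of_le_of_ne hB1A (fun e => by
    rw [e, hA3] at hB1
    have := Nat.pow_right_injective hp.two_le hB1
    omega)
  obtain ⟨B2, hB2n, hB12, hB2A, hB2⟩ := exists_normal_step hG hlt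
  haveI := hB2n
  have hcA : Nat.card A = Nat.card B2 * p := by rw [hB2, hB1, hA3]; ring
  have hB2c : Nat.card B2 = p ^ 2 := by rw [hB2, hB1]; ring
  obtain ⟨b, hb2, hb1⟩ := SetLike.exists_of_lt (lt_of_le_of_ne hB12 (fun e => by
    rw [← e, hB1] at hB2c
    have := Nat.pow_right_injective hp.two_le hB2c
    omega))
  have hb1' : B1 ⊔ Subgroup.zpowers b = B2 := sup_eq_of_step hB12 hB2 hb2 hb1
  have hcen1 : ∀ g : G, ∀ c ∈ B1, Commute g c := fun g c hc => by
    have h := step_central hG (bot_le : (⊥ : Subgroup G) ≤ B1) (by rw [hB1, Subgroup.card_bot]; ring) g hc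
    rw [Subgroup.mem_bot, inv_mul_eq_one, eq_mul_inv_iff_mul_eq] at h
    exact h.symm
  obtain ⟨R1, hR1, hR1', hc1⟩ := exists_range E b B1 (fun e _ => hcen1 e)
    (fun e _ => step_central hG hB12 hB2 e hb2)
  set E1 := E ⊓ Subgroup.centralizer {b} with hE1
  have hfix2 : ∀ e ∈ E1, ∀ c ∈ B2, Commute e c := by
    intro e he c hc
    have hle : B2 ≤ Subgroup.centralizer {e} := by
      rw [← hb1']
      refine sup_le (fun c hc => Subgroup.mem_centralizer_singleton_iff.2 (hcen1 e c hc).eq.symm) (Subgroup.zpowers_le.2 ?_)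
      exact Subgroup.mem_centralizer_singleton_iff.2 (Subgroup.mem_centralizer_singleton_iff.1 he.2).symm
    exact (Subgroup.mem_centralizer_singleton_iff.1 (hle hc)).symm
  have key : ∀ a ∈ A, a ∉ B2 → ∃ R2 : Subgroup G, R2 ≤ B2 ∧ (∀ c ∈ R2, ∃ e ∈ E1, a⁻¹ * (e * a * e⁻¹) = c) ∧
      Nat.card E = Nat.card ↥(E ⊓ Subgroup.centralizer (A : Set G)) * Nat.card R2 * Nat.card R1 := by
    intro a ha ha'
    obtain ⟨R2, h1, h2, h3⟩ := exists_range E1 a B2 hfix2 (fun e _ => step_central hG hB2A hcA e ha)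
    refine ⟨R2, h1, h2, ?_⟩
    have : E1 ⊓ Subgroup.centralizer {a} = E ⊓ Subgroup.centralizer (A : Set G) := by
      apply le_antisymm
      · intro e he
        refine ⟨he.1.1, ?_⟩
        have hle : A ≤ Subgroup.centralizer {e} := by
          rw [← sup_eq_of_step hB2A hcA ha ha']
          refine sup_le (fun c hc => Subgroup.mem_centralizer_singleton_iff.2 (hfix2 e he.1 c hc).eq.symm) (Subgroup.zpowers_le.2 ?_)
          exact Subgroup.mem_centralizer_singleton_iff.2 (Subgroup.mem_centralizer_singleton_iff.1 he.2).symm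
        exact fun c hc => Subgroup.mem_centralizer_singleton_iff.1 (hle hc)
      · intro e he
        exact ⟨⟨he.1, Subgroup.mem_centralizer_singleton_iff.2 (he.2 b (hB2A hb2)).symm⟩,
          Subgroup.mem_centralizer_singleton_iff.2 (he.2 a ha).symm⟩
    rw [hc1, h3, this]
  set E0 := E ⊓ Subgroup.centralizer (A : Set G) with hE0
  have hE0A : E0 ≤ A := fun e he => hAC e he.2 (hEe e he.1)
  obtain ⟨a, haA, ha2⟩ := SetLike.exists_of_lt (lt_of_le_of_ne hB2A (fun e => by
    rw [e, hA3] at hB2c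
    have := Nat.pow_right_injective hp.two_le hB2c
    omega))
  obtain ⟨R2, hR2, hR2', hc⟩ := key a haA ha2
  obtain ⟨i, hi, hi'⟩ := (Nat.dvd_prime_pow hp).1 (hA3 ▸ Subgroup.card_dvd_of_le hE0A)
  obtain ⟨j, hj, hj'⟩ := (Nat.dvd_prime_pow hp).1 (hB2c ▸ Subgroup.card_dvd_of_le hR2)
  obtain ⟨k, hk, hk'⟩ := (Nat.dvd_prime_pow hp).1 (hB1 ▸ Subgroup.card_dvd_of_le hR1)
  have hcard : Nat.card E = p ^ (i + j + k) := by rw [hc, hi', hj', hk', pow_add, pow_add]
  have hfull : i = 3 → Nat.card E = p ^ 3 := by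
    intro h
    have heq : E0 = A := Subgroup.eq_of_le_of_card_ge hE0A (by rw [hi', h, hA3])
    have : E ≤ E0 := fun e he => ⟨he, fun c hc => (Subgroup.mul_comm_of_mem_isMulCommutative E he ((heq.symm.le hc).1)).symm⟩
    rw [le_antisymm this inf_le_left, heq, hA3]
  have hjk : j + k ≤ 2 := by
    by_contra hne
    have hk1 : R1 = B1 := Subgroup.eq_of_le_of_card_ge hR1 (by rw [hk', hB1, show k = 1 by omega])
    have hj2 : R2 = B2 := Subgroup.eq_of_le_of_card_ge hR2 (by rw [hj', hB2c, show j = 2 by omega])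
    obtain ⟨d, hd, hd1⟩ := SetLike.exists_of_lt (show (⊥ : Subgroup G) < B1 from bot_lt_iff_ne_bot.2 (fun e => by
      rw [e, Subgroup.card_bot, pow_one] at hB1; exact hp.one_lt.ne hB1))
    obtain ⟨e, heE, he⟩ := hR1' d (hk1.symm ▸ hd)
    obtain ⟨f, hf, hf'⟩ := hR2' b (hj2.symm ▸ hb2)
    have hec := step_central hG hB2A hcA e haA
    have hfc := hfix2 f hf _ hec
    have hcomm : Commute e f := Subgroup.mul_comm_of_mem_isMulCommutative E heE hf.1
    set c := a⁻¹ * (e * a * e⁻¹) with hcdef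
    have hbc : Commute b c := Subgroup.mul_comm_of_mem_isMulCommutative A (hB2A hb2) (hB2A hec)
    have h1 : e * a * e⁻¹ = a * c := by rw [hcdef]; group
    have h2 : f * a * f⁻¹ = a * b := by rw [← hf']; group
    have h3 : e * b * e⁻¹ = b * d := by rw [← he]; group
    have h4 : (e * f) * a * (e * f)⁻¹ = a * (b * c) * d := by
      calc (e * f) * a * (e * f)⁻¹ = e * (f * a * f⁻¹) * e⁻¹ := by group
        _ = (e * a * e⁻¹) * (e * b * e⁻¹) := by rw [h2]; group
        _ = a * (c * b) * d := by rw [h1, h3]; group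
        _ = _ := by rw [hbc.eq]
    have h5 : (f * e) * a * (f * e)⁻¹ = a * (b * c) := by
      calc (f * e) * a * (f * e)⁻¹ = f * (e * a * e⁻¹) * f⁻¹ := by group
        _ = (f * a * f⁻¹) * (f * c * f⁻¹) := by rw [h1]; group
        _ = _ := by rw [h2, hfc.eq, mul_inv_cancel_right, mul_assoc]
    rw [hcomm.eq, h5] at h4
    exact hd1 (Subgroup.mem_bot.2 (left_eq_mul.1 h4))
  refine ⟨?_, fun h4 => ?_⟩
  · by_cases h3 : i = 3
    · rw [hfull h3]; exact Nat.pow_le_pow_right hp.pos (by omega)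
    · rw [hcard]
      refine Nat.pow_le_pow_right hp.pos ?_
      omega
  have hsum : i + j + k = 4 := Nat.pow_right_injective hp.two_le (hcard.symm.trans h4)
  have hi2 : i = 2 := by
    by_contra hne
    have h3 := hfull (by omega)
    rw [h4] at h3
    have := Nat.pow_right_injective hp.two_le h3
    omega
  have hE02 : E0 = B2 := by
    refine Subgroup.eq_of_le_of_card_ge ?_ (by rw [hB2c, hi', hi2])
    intro x hx
    by_contra hx2
    obtain ⟨R, hR, hR', hcR⟩ := key x (hE0A hx) hx2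
    have hRbot : R = ⊥ := by
      rw [eq_bot_iff]
      intro c hc
      obtain ⟨e, he, he'⟩ := hR' c hc
      rw [Subgroup.mem_bot, ← he', Subgroup.mul_comm_of_mem_isMulCommutative E he.1 hx.1, mul_inv_cancel_right, inv_mul_cancel]
    rw [hRbot, Subgroup.card_bot, mul_one, hi', hk', ← pow_add, hcard] at hcR
    have := Nat.pow_right_injective hp.two_le hcR
    omega
  have hk0 : k = 0 := by
    have hbE : b ∈ E := ((hE02.symm.le hb2)).1
    have hR1bot : R1 = ⊥ := by
      rw [eq_bot_iff]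
      intro c hc
      obtain ⟨e, he, he'⟩ := hR1' c hc
      rw [Subgroup.mem_bot, ← he', Subgroup.mul_comm_of_mem_isMulCommutative E he hbE, mul_inv_cancel_right, inv_mul_cancel]
    rw [hR1bot, Subgroup.card_bot] at hk'
    exact (Nat.pow_eq_one.1 hk'.symm).resolve_left hp.one_lt.ne'
  have hR2B : R2 = B2 := Subgroup.eq_of_le_of_card_ge hR2 (by rw [hB2c, hj', show j = 2 by omega])
  exact ⟨B2, a, hB2n, hB2A, fun x hx => (hE02.symm.le hx).1, hE02, hB2c, haA, ha2,
    fun c hc => (hR2' c (hR2B.symm ▸ hc)).imp fun e h => ⟨h.1.1, h.2⟩⟩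

include hG in
theorem card_le_three_of_small {A : Subgroup G} [A.Normal] (hA : IsMulCommutative A) (hA2 : Nat.card A ≤ p ^ 2)
    (hAC : ∀ x ∈ Subgroup.centralizer (A : Set G), x ^ p = 1 → x ∈ A) {E : Subgroup G} (hE : IsMulCommutative E)
    (hEe : ∀ e ∈ E, e ^ p = 1) : Nat.card E ≤ p ^ 2 := by
  have hp := (Fact.out : p.Prime)
  set E0 := E ⊓ Subgroup.centralizer (A : Set G) with hE0
  have hE0A : E0 ≤ A := fun e he => hAC e he.2 (hEe e he.1)
  have hfull : E0 = A → Nat.card E ≤ p ^ 2 := by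
    intro heq
    have : E ≤ E0 := fun e he => ⟨he, fun c hc => (Subgroup.mul_comm_of_mem_isMulCommutative E he ((heq.symm.le hc).1)).symm⟩
    rw [le_antisymm this inf_le_left, heq]; exact hA2
  obtain ⟨n, hn⟩ := IsPGroup.iff_card.1 (hG.to_subgroup A)
  have hn2 : n ≤ 2 := (Nat.pow_le_pow_iff_right hp.one_lt).1 (hn ▸ hA2)
  by_cases hAc : A ≤ Subgroup.center G
  · have : E ≤ A := fun e he => hAC e (fun c hc => (Subgroup.mem_center_iff.1 (hAc hc) e).symm) (hEe e he)
    exact (Nat.le_of_dvd Nat.card_pos (Subgroup.card_dvd_of_le this)).trans hA2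
  have hn1 : n = 2 := by
    by_contra hne
    apply hAc
    intro a ha
    rcases (show n = 0 ∨ n = 1 by omega) with rfl | rfl
    · rw [pow_zero] at hn
      rw [Subgroup.eq_bot_of_card_eq _ hn, Subgroup.mem_bot] at ha
      rw [ha]; exact one_mem _
    · refine Subgroup.mem_center_iff.2 fun g => ?_
      have h := step_central hG (bot_le : (⊥ : Subgroup G) ≤ A) (by rw [hn, Subgroup.card_bot]; ring) g ha
      rw [Subgroup.mem_bot, inv_mul_eq_one, eq_mul_inv_iff_mul_eq] at h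
      exact h.symm
  subst hn1
  obtain ⟨B1, hB1n, hB1A, hB1⟩ := exists_normal_card hG A 1 (by rw [hn]; exact Nat.pow_le_pow_right hp.pos (by omega))
  haveI := hB1n
  have hcA : Nat.card A = Nat.card B1 * p := by rw [hn, hB1]; ring
  obtain ⟨b, hbA, hb⟩ := SetLike.exists_of_lt (lt_of_le_of_ne hB1A (fun e => by
    rw [e, hn] at hB1
    have := Nat.pow_right_injective hp.two_le hB1
    omega))
  have hcen1 : ∀ g : G, ∀ c ∈ B1, Commute g c := fun g c hc => by
    have h := step_central hG (bot_le : (⊥ : Subgroup G) ≤ B1) (by rw [hB1, Subgroup.card_bot]; ring) g hc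
    rw [Subgroup.mem_bot, inv_mul_eq_one, eq_mul_inv_iff_mul_eq] at h
    exact h.symm
  obtain ⟨R, hR, -, hc⟩ := exists_range E b B1 (fun e _ => hcen1 e) (fun e _ => step_central hG hB1A hcA e hbA)
  have hle : E ⊓ Subgroup.centralizer {b} ≤ E0 := by
    intro e he
    refine ⟨he.1, ?_⟩
    have hle : A ≤ Subgroup.centralizer {e} := by
      rw [← sup_eq_of_step hB1A hcA hbA hb]
      refine sup_le (fun c hc => Subgroup.mem_centralizer_singleton_iff.2 (hcen1 e c hc).eq.symm) (Subgroup.zpowers_le.2 ?_)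
      exact Subgroup.mem_centralizer_singleton_iff.2 (Subgroup.mem_centralizer_singleton_iff.1 he.2).symm
    exact fun c hc => Subgroup.mem_centralizer_singleton_iff.1 (hle hc)
  by_cases heq : E0 = A
  · exact hfull heq
  obtain ⟨i, hi, hi'⟩ := (Nat.dvd_prime_pow hp).1 (hn ▸ Subgroup.card_dvd_of_le hE0A)
  have hi1 : i ≤ 1 := by
    by_contra hne
    exact heq (Subgroup.eq_of_le_of_card_ge hE0A (by rw [hi', hn, show i = 2 by omega]))
  have h1 : Nat.card ↥(E ⊓ Subgroup.centralizer {b}) ≤ p ^ 1 :=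
    (Nat.le_of_dvd Nat.card_pos (Subgroup.card_dvd_of_le hle)).trans (hi' ▸ Nat.pow_le_pow_right hp.pos hi1)
  have h2 : Nat.card R ≤ p ^ 1 := hB1 ▸ Nat.le_of_dvd Nat.card_pos (Subgroup.card_dvd_of_le hR)
  rw [hc, show p ^ 2 = p ^ 1 * p ^ 1 by rw [← pow_add]]
  exact Nat.mul_le_mul h1 h2

include hG in
theorem rank_le_two (hp2 : p ≠ 2)
    (h : ∀ A : Subgroup G, A.Normal → IsMulCommutative A → (∀ a ∈ A, a ^ p = 1) → Nat.card A ≠ p ^ 3)
    (E : Subgroup G) (hE : IsMulCommutative E) (hEe : ∀ e ∈ E, e ^ p = 1) : Nat.card E ≤ p ^ 2 := by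
  obtain ⟨A, hAn, hA, hAe, hmax⟩ := exists_maximal hG
  haveI := hAn
  have hp := (Fact.out : p.Prime)
  refine card_le_three_of_small hG hA ?_ (fun x hx hxp => inter_centralizer_le hG hp2 hA hAe hmax hx hxp) hE hEe
  by_contra hne
  obtain ⟨n, hn⟩ := IsPGroup.iff_card.1 (hG.to_subgroup A)
  rw [hn] at hne
  have h3 : 3 ≤ n := by
    by_contra hh
    exact hne (Nat.pow_le_pow_right hp.pos (by omega))
  obtain ⟨M, hMn, hMA, hM⟩ := exists_normal_card hG A 3 (hn ▸ Nat.pow_le_pow_right hp.pos h3)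
  exact h M hMn ⟨⟨fun a b => Subtype.ext (Subgroup.mul_comm_of_mem_isMulCommutative A (hMA a.2) (hMA b.2))⟩⟩
    (fun a ha => by simpa using hAe a (hMA ha)) hM

include hG in
theorem exists_normal_four (hp2 : p ≠ 2) (E : Subgroup G) (hE : IsMulCommutative E) (hEe : ∀ e ∈ E, e ^ p = 1)
    (hE4 : Nat.card E = p ^ 4) :
    ∃ A : Subgroup G, A.Normal ∧ (IsMulCommutative A ∧ ∀ a ∈ A, a ^ p = 1) ∧ Nat.card A = p ^ 4 := by
  obtain ⟨A, hAn, hA, hAe, hmax⟩ := exists_maximal hG
  haveI := hAn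
  have hp := (Fact.out : p.Prime)
  have hAC : ∀ x ∈ Subgroup.centralizer (A : Set G), x ^ p = 1 → x ∈ A :=
    fun x hx hxp => inter_centralizer_le hG hp2 hA hAe hmax hx hxp
  obtain ⟨n, hn⟩ := IsPGroup.iff_card.1 (hG.to_subgroup A)
  by_cases h4 : 4 ≤ n
  · obtain ⟨M, hMn, hMA, hM⟩ := exists_normal_card hG A 4 (hn ▸ Nat.pow_le_pow_right hp.pos h4)
    exact ⟨M, hMn, ⟨⟨⟨fun a b => Subtype.ext (Subgroup.mul_comm_of_mem_isMulCommutative A (hMA a.2) (hMA b.2))⟩⟩,
      fun a ha => by simpa using hAe a (hMA ha)⟩, hM⟩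
  have hn3 : n = 3 := by
    by_contra hne
    have h := card_le_three_of_small hG hA (hn ▸ Nat.pow_le_pow_right hp.pos (by omega)) hAC hE hEe
    rw [hE4] at h
    have := (Nat.pow_le_pow_iff_right hp.one_lt).1 h
    omega
  subst hn3
  obtain ⟨B, a, hBn, hBA, hBE, hBeq, hB2, haA, haB, hsurj⟩ := (structure_three hG hA hn hAC hE hEe).2 hE4
  haveI := hBn
  have hcA : Nat.card A = Nat.card B * p := by rw [hn, hB2]; ring
  refine ⟨E, ?_, ⟨hE, hEe⟩, hE4⟩
  by_contra hnn
  haveI : Group.IsNilpotent G := hG.isNilpotent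
  have hnc : NormalizerCondition G := normalizerCondition_of_isNilpotent
  have hlt : Subgroup.normalizer (E : Set G) < ⊤ := lt_top_iff_ne_top.2 (fun e => hnn (Subgroup.normalizer_eq_top_iff.1 e))
  obtain ⟨g, hgN, hgE⟩ := SetLike.exists_of_lt (hnc _ hlt)
  set E' := E.map (MulAut.conj g).toMonoidHom with hE'
  have hE'c : Nat.card E' = p ^ 4 := by
    rw [hE', Subgroup.card_map_of_injective (MulAut.conj g).injective, hE4]
  have hBfix : ∀ x ∈ E', ∀ c ∈ B, Commute x c := by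
    rintro _ ⟨x, hx, rfl⟩ c hc
    have h1 : Commute x (g⁻¹ * c * g) := Subgroup.mul_comm_of_mem_isMulCommutative E hx (hBE (by simpa using hBn.conj_mem c hc g⁻¹))
    have h2 := h1.map (MulAut.conj g).toMonoidHom
    simpa [mul_assoc] using h2
  have hE'N : ∀ x ∈ E', x ∈ Subgroup.normalizer (E : Set G) := by
    rintro _ ⟨x, hx, rfl⟩
    exact (Subgroup.mem_normalizer_iff.1 hgN x).1 (Subgroup.le_normalizer hx)
  have hdec : ∀ x ∈ E', ∃ e ∈ E, ∃ a' ∈ A, x = e * a' := by
    intro x hx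
    obtain ⟨e, heE, he⟩ := hsurj _ (step_central hG hBA hcA x haA)
    refine ⟨e, heE, e⁻¹ * x, ?_, by group⟩
    have hkC : e⁻¹ * x ∈ Subgroup.centralizer (A : Set G) := by
      have hle : A ≤ Subgroup.centralizer {e⁻¹ * x} := by
        rw [← sup_eq_of_step hBA hcA haA haB]
        refine sup_le (fun c hc => Subgroup.mem_centralizer_singleton_iff.2 ?_) (Subgroup.zpowers_le.2 ?_)
        · have h1 : Commute e c := Subgroup.mul_comm_of_mem_isMulCommutative E heE (hBE hc)
          exact ((h1.inv_left).mul_left (hBfix x hx c hc)).eq.symm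
        · refine Subgroup.mem_centralizer_singleton_iff.2 ?_
          have h1 : x * a * x⁻¹ = e * a * e⁻¹ := (mul_left_cancel he).symm
          calc a * (e⁻¹ * x) = e⁻¹ * (e * a * e⁻¹) * x := by group
            _ = e⁻¹ * x * a := by rw [← h1]; group
      exact fun c hc => Subgroup.mem_centralizer_singleton_iff.1 (hle hc)
    have hkN : e⁻¹ * x ∈ Subgroup.normalizer (E : Set G) :=
      mul_mem (inv_mem (Subgroup.le_normalizer heE)) (hE'N x hx)
    set k := e⁻¹ * x with hk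
    set c := k * e * k⁻¹ * e⁻¹ with hcd
    have hcB : c ∈ B := by
      rw [← hBeq]
      refine Subgroup.mem_inf.2 ⟨mul_mem ((Subgroup.mem_normalizer_iff.1 hkN e).1 heE) (inv_mem heE), ?_⟩
      have : c = k * (e * k⁻¹ * e⁻¹) := by rw [hcd]; group
      rw [this]
      exact mul_mem hkC ((inferInstance : (Subgroup.centralizer (A : Set G)).Normal).conj_mem _ (inv_mem hkC) e)
    have hce : Commute c e := Subgroup.mul_comm_of_mem_isMulCommutative E (hBE hcB) heE
    have hck : Commute c k := hkC c (hBA hcB)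
    have hp' := CfsgLib.PGroupAlperin.mul_pow_central (u := e) (v := k) (e := c) (by rw [hcd]; group) hce hck p
    obtain ⟨m, hm⟩ := CfsgLib.PGroupAlperin.dvd_choose_two (p := p) 1 (by rw [pow_one]; exact hp2)
    rw [pow_one] at hm
    have hxp : x ^ p = 1 := by
      obtain ⟨y, hy, rfl⟩ := hx
      rw [← map_pow, hEe y hy, map_one]
    rw [show e * k = x by rw [hk]; group, hxp, hEe e heE, one_mul, hm, pow_mul, hEe c (hBE hcB), one_pow, mul_one] at hp'
    exact hAC k hkC hp'.symm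
  have hsub : E' ≤ E := by
    by_contra hns
    obtain ⟨x, hx, hxE⟩ := SetLike.not_le_iff_exists.1 hns
    obtain ⟨e, heE, a', ha', rfl⟩ := hdec x hx
    have ha'B : a' ∉ B := fun h => hxE (mul_mem heE (hBE h))
    have hgen := sup_eq_of_step hBA hcA ha' ha'B
    have hEB : E' ⊓ E ≤ B := by
      intro z hz
      rw [← hBeq]
      refine ⟨hz.2, ?_⟩
      have hE'comm : Commute z (e * a') := by
        obtain ⟨y, hy, hyz⟩ := hz.1
        obtain ⟨w, hw, hwx⟩ := hx
        rw [← hyz, ← hwx]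
        exact (show Commute y w from Subgroup.mul_comm_of_mem_isMulCommutative E hy hw).map _
      have hze : Commute z e := Subgroup.mul_comm_of_mem_isMulCommutative E hz.2 heE
      have hza : Commute z a' := by
        have := hze.inv_right.mul_right hE'comm
        rwa [inv_mul_cancel_left] at this
      have hle : A ≤ Subgroup.centralizer {z} := by
        rw [← hgen]
        refine sup_le (fun c hc => Subgroup.mem_centralizer_singleton_iff.2 (hBfix z hz.1 c hc).eq.symm) (Subgroup.zpowers_le.2 ?_)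
        exact Subgroup.mem_centralizer_singleton_iff.2 hza.eq.symm
      exact fun c hc => Subgroup.mem_centralizer_singleton_iff.1 (hle hc)
    have hle : E' ≤ B ⊔ Subgroup.zpowers (e * a') := by
      intro y hy
      obtain ⟨e1, he1, a1, ha1, rfl⟩ := hdec y hy
      rw [← hgen] at ha1
      obtain ⟨c, hc, w, hw, rfl⟩ := Subgroup.mem_sup_of_normal_left.1 ha1
      obtain ⟨i, rfl⟩ := Subgroup.mem_zpowers_iff.1 hw
      set L := (B : Subgroup G)
      have hmk : ∀ u : G, ∀ v ∈ A, ((v⁻¹ * (u * v * u⁻¹) : G) : G ⧸ B) = 1 := fun u v hv =>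
        (QuotientGroup.eq_one_iff _).2 (step_central hG hBA hcA u hv)
      have hcm : Commute (e : G ⧸ B) (a' : G ⧸ B) := by
        have h := hmk e a' ha'
        rw [QuotientGroup.mk_mul, QuotientGroup.mk_mul, QuotientGroup.mk_mul, QuotientGroup.mk_inv, QuotientGroup.mk_inv, inv_mul_eq_one, eq_mul_inv_iff_mul_eq] at h
        exact h.symm
      have hq : ((e1 * (c * a' ^ i) * (e * a') ^ (-i) : G) : G ⧸ B) = ((e1 * e ^ (-i) : G) : G ⧸ B) := by
        have hc1 : (c : G ⧸ B) = 1 := (QuotientGroup.eq_one_iff c).2 hc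
        simp only [QuotientGroup.mk_mul, QuotientGroup.mk_zpow]
        rw [hcm.mul_zpow, (hcm.zpow_zpow (-i) (-i)).eq, hc1, one_mul, mul_assoc, ← mul_assoc ((a' : G ⧸ B) ^ i), ← zpow_add, add_neg_cancel, zpow_zero, one_mul]
      have hz : e1 * (c * a' ^ i) * (e * a') ^ (-i) ∈ E := by
        have h1 := QuotientGroup.eq.1 hq.symm
        have h2 := mul_mem (mul_mem he1 (zpow_mem heE (-i))) (hBE h1)
        rwa [mul_inv_cancel_left] at h2
      have hzB := hEB ⟨mul_mem hy (zpow_mem hx _), hz⟩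
      have : e1 * (c * a' ^ i) = e1 * (c * a' ^ i) * (e * a') ^ (-i) * (e * a') ^ i := by
        rw [zpow_neg, inv_mul_cancel_right]
      rw [this]
      exact mul_mem (Subgroup.mem_sup_left hzB) (Subgroup.mem_sup_right (zpow_mem (Subgroup.mem_zpowers _) i))
    have h1 := (Nat.le_of_dvd Nat.card_pos (Subgroup.card_dvd_of_le hle))
    have h2 := Nat.le_of_dvd (Nat.mul_pos Nat.card_pos Nat.card_pos) (CfsgLib.card_sup_dvd_mul (Subgroup.zpowers (e * a')) B)
    rw [sup_comm] at h2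
    have h3 : Nat.card ↥(Subgroup.zpowers (e * a')) ≤ p := by
      rw [Nat.card_zpowers]
      refine Nat.le_of_dvd hp.pos (orderOf_dvd_of_pow_eq_one ?_)
      obtain ⟨w, hw, hwx⟩ := hx
      rw [← hwx, ← map_pow, hEe w hw, map_one]
    rw [hE'c] at h1
    rw [hB2] at h2
    have h4 : p ^ 4 ≤ p ^ 3 := by
      calc p ^ 4 ≤ _ := h1.trans h2
        _ ≤ p * p ^ 2 := Nat.mul_le_mul_right _ h3
        _ = p ^ 3 := by ring
    have := (Nat.pow_le_pow_iff_right hp.one_lt).1 h4
    omega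
  have heq : E' = E := Subgroup.eq_of_le_of_card_ge hsub (by rw [hE'c, hE4])
  refine hgE (Subgroup.mem_normalizer_iff.2 fun h => ⟨fun hh => heq ▸ ⟨h, hh, by simp⟩, fun hh => ?_⟩)
  obtain ⟨y, hy, hy'⟩ := (heq.symm ▸ hh : g * h * g⁻¹ ∈ E')
  have : y = h := (MulAut.conj g).injective hy'
  exact this ▸ hy

end CfsgLib.PGroupRankTwo
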