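import Mathlib
import Cfsg.Prelude.Def_CaseTheorems
import Cfsg.Agent.Lib.SmallElements
import Cfsg.Agent.Lib.PGroup.RankTwoNormal

/-!
Automorphisms of `p`-groups of rank at most two, `p` odd.
-/

set_option autoImplicit false
set_option linter.unusedSectionVars false

namespace CfsgLib.PGroupRankTwo

open scoped commutatorElement

variable {R : Type*} [Group R] [Finite R] {p : ℕ} [Fact p.Prime]

theorem card_exp_class_two_le (hR : IsPGroup p R) (hrk : Cfsg.PRankLE p 2 R) {D : Subgroup R}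
    (hDe : ∀ d ∈ D, d ^ p = 1) (hD2 : ∀ a ∈ D, ∀ b ∈ D, ∀ c ∈ D, Commute ⁅a, b⁆ c) : Nat.card D ≤ p ^ 3 := by
  classical
  have hp := (Fact.out : p.Prime)
  set Z := D ⊓ Subgroup.centralizer (D : Set R) with hZ
  have hZc : ∀ x ∈ Z, ∀ y ∈ D, Commute y x := fun x hx y hy => (Subgroup.mem_inf.1 hx).2 y hy
  obtain ⟨A, ⟨hZA, hAD, hAc⟩, hmax⟩ := (Set.toFinite {A : Subgroup R | Z ≤ A ∧ A ≤ D ∧ ∀ a ∈ A, ∀ b ∈ A, Commute a b}).exists_maximal
    ⟨Z, le_rfl, inf_le_left, fun a ha b hb => hZc b hb a (Subgroup.mem_inf.1 ha).1⟩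
  have hsat : ∀ x ∈ D, (∀ a ∈ A, Commute x a) → x ∈ A := by
    intro x hx hxa
    have hle : A ≤ Subgroup.closure ((A : Set R) ∪ {x}) := fun a ha => Subgroup.subset_closure (Or.inl ha)
    refine hmax ⟨hZA.trans hle, ?_, ?_⟩ hle (Subgroup.subset_closure (Or.inr rfl))
    · rw [Subgroup.closure_le]
      rintro y (hy | rfl)
      · exact hAD hy
      · exact hx
    · have hgen : ∀ a ∈ (A : Set R) ∪ {x}, ∀ b ∈ (A : Set R) ∪ {x}, Commute a b := by
        rintro a (ha | rfl) b (hb | rfl)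
        · exact hAc a ha b hb
        · exact (hxa a ha).symm
        · exact hxa b hb
        · exact Commute.refl _
      have h1 : ∀ a ∈ (A : Set R) ∪ {x}, ∀ b ∈ Subgroup.closure ((A : Set R) ∪ {x}), Commute a b := by
        intro a ha b hb
        have hle : Subgroup.closure ((A : Set R) ∪ {x}) ≤ Subgroup.centralizer {a} := by
          rw [Subgroup.closure_le]
          exact fun c hc => Subgroup.mem_centralizer_singleton_iff.2 (hgen c hc a ha).eq
        exact (Subgroup.mem_centralizer_singleton_iff.1 (hle hb)).symm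
      intro a ha b hb
      have hle : Subgroup.closure ((A : Set R) ∪ {x}) ≤ Subgroup.centralizer {b} := by
        rw [Subgroup.closure_le]
        exact fun c hc => Subgroup.mem_centralizer_singleton_iff.2 (h1 c hc b hb).eq
      exact Subgroup.mem_centralizer_singleton_iff.1 (hle ha)
  have hA2 : Nat.card A ≤ p ^ 2 :=
    hrk A ⟨⟨fun a b => Subtype.ext (hAc a a.2 b b.2).eq⟩⟩ (fun a ha => hDe a (hAD ha))
  by_cases hAZ : A ≤ Z
  · have hDA : D ≤ A := fun x hx => hsat x hx (fun a ha => hZc a (hAZ ha) x hx)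
    exact (Nat.le_of_dvd Nat.card_pos (Subgroup.card_dvd_of_le hDA)).trans
      (hA2.trans (Nat.pow_le_pow_right hp.pos (by omega)))
  obtain ⟨b, hbA, hbZ⟩ := SetLike.not_le_iff_exists.1 hAZ
  obtain ⟨n, hn⟩ := IsPGroup.iff_card.1 (hR.to_subgroup A)
  obtain ⟨j, hj⟩ := IsPGroup.iff_card.1 (hR.to_subgroup Z)
  have hjn : j < n := by
    by_contra hle
    exact hAZ (Subgroup.eq_of_le_of_card_ge hZA (by rw [hn, hj]; exact Nat.pow_le_pow_right hp.pos (not_lt.1 hle))).ge
  have hn2 : n ≤ 2 := (Nat.pow_le_pow_iff_right hp.one_lt).1 (hn ▸ hA2)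
  obtain ⟨Rg, hRg, -, hc⟩ := exists_range D b Z (fun e he c hc => hZc c hc e he) (by
    intro e he
    have hmem : b⁻¹ * (e * b * e⁻¹) = ⁅b⁻¹, e⁆ := by rw [commutatorElement_def]; group
    rw [hmem]
    refine Subgroup.mem_inf.2 ⟨?_, fun c hc => (hD2 _ (inv_mem (hAD hbA)) e he c hc).eq.symm⟩
    rw [commutatorElement_def]
    exact mul_mem (mul_mem (mul_mem (inv_mem (hAD hbA)) he) (inv_mem (inv_mem (hAD hbA)))) (inv_mem he))
  rcases (show j = 0 ∨ (j = 1 ∧ n = 2) by omega) with rfl | ⟨rfl, rfl⟩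
  · rw [pow_zero] at hj
    have hD : D ⊓ Subgroup.centralizer {b} = D := by
      refine Subgroup.eq_of_le_of_card_ge inf_le_left ?_
      rw [hc]
      have h1 : Nat.card Rg ≤ 1 := (Nat.le_of_dvd Nat.card_pos (Subgroup.card_dvd_of_le hRg)).trans hj.le
      exact (Nat.mul_le_mul_left _ h1).trans (mul_one _).le
    exfalso
    apply hbZ
    refine Subgroup.mem_inf.2 ⟨hAD hbA, fun x hx => ?_⟩
    exact Subgroup.mem_centralizer_singleton_iff.1 (Subgroup.mem_inf.1 (hD.ge hx)).2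
  have hgen : Z ⊔ Subgroup.zpowers b = A := by
    refine Subgroup.eq_of_le_of_card_ge (sup_le hZA (Subgroup.zpowers_le.2 hbA)) ?_
    obtain ⟨k, hk⟩ := IsPGroup.iff_card.1 (hR.to_subgroup (Z ⊔ Subgroup.zpowers b))
    rw [hn, hk]
    refine Nat.pow_le_pow_right hp.pos ?_
    by_contra hk2
    have heq : Z = Z ⊔ Subgroup.zpowers b := Subgroup.eq_of_le_of_card_ge le_sup_left (by
      rw [hk, hj]; exact Nat.pow_le_pow_right hp.pos (by omega))
    exact hbZ (heq.ge (Subgroup.mem_sup_right (Subgroup.mem_zpowers b)))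
  have hCA : D ⊓ Subgroup.centralizer {b} ≤ A := by
    intro x hx
    refine hsat x (Subgroup.mem_inf.1 hx).1 ?_
    intro a ha
    have hle : A ≤ Subgroup.centralizer {x} := by
      rw [← hgen]
      refine sup_le (fun z hz => Subgroup.mem_centralizer_singleton_iff.2 (hZc z hz x (Subgroup.mem_inf.1 hx).1).eq.symm)
        (Subgroup.zpowers_le.2 ?_)
      exact Subgroup.mem_centralizer_singleton_iff.2 (Subgroup.mem_centralizer_singleton_iff.1 (Subgroup.mem_inf.1 hx).2).symm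
    exact (Subgroup.mem_centralizer_singleton_iff.1 (hle ha)).symm
  rw [hc]
  calc Nat.card ↥(D ⊓ Subgroup.centralizer {b}) * Nat.card Rg ≤ p ^ 2 * p ^ 1 :=
        Nat.mul_le_mul ((Nat.le_of_dvd Nat.card_pos (Subgroup.card_dvd_of_le hCA)).trans hA2)
          ((Nat.le_of_dvd Nat.card_pos (Subgroup.card_dvd_of_le hRg)).trans hj.le)
    _ = p ^ 3 := by ring

theorem fixed_congr {q : ℕ} [Fact q.Prime] {D : Subgroup R} {α : MulAut R} (hαq : α ^ q = 1)
    (hD : ∀ d ∈ D, α d ∈ D) (F : Subgroup R) (hF : ∀ x : R, x ∈ F ↔ x ∈ D ∧ α x = x) :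
    Nat.card F ≡ Nat.card D [MOD q] := by
  classical
  haveI := Fintype.ofFinite R
  let σ : Equiv.Perm D := Equiv.ofBijective (fun d => ⟨α d, hD d d.2⟩)
    ((Finite.injective_iff_bijective).1 fun a b h => Subtype.ext (α.injective (congrArg Subtype.val h)))
  have hpow : ∀ (k : ℕ) (d : D), (((σ ^ k) d : D) : R) = (α ^ k) (d : R) := by
    intro k
    induction k with
    | zero => intro d; simp
    | succ k ih =>
      intro d
      rw [pow_succ', Equiv.Perm.mul_apply, pow_succ', MulAut.mul_apply, ← ih]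
      rfl
  have hσ : σ ^ q ^ 1 = 1 := by
    rw [pow_one]
    refine Equiv.ext fun d => Subtype.ext ?_
    rw [hpow, hαq]; rfl
  have h := Equiv.Perm.card_compl_support_modEq (p := q) hσ
  rw [← Nat.card_eq_fintype_card] at h
  have hFc : σ.supportᶜ.card = Nat.card F := by
    rw [Nat.card_eq_fintype_card, Fintype.card_subtype]
    refine Finset.card_bij (fun d _ => (d : R)) ?_ (fun a _ b _ h => Subtype.ext h) ?_
    · intro d hd
      rw [Finset.mem_compl, Equiv.Perm.notMem_support] at hd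
      exact Finset.mem_filter.2 ⟨Finset.mem_univ _, (hF d).2 ⟨d.2, congrArg Subtype.val hd⟩⟩
    · intro x hx
      obtain ⟨hxD, hxa⟩ := (hF x).1 (Finset.mem_filter.1 hx).2
      refine ⟨⟨x, hxD⟩, ?_, rfl⟩
      rw [Finset.mem_compl, Equiv.Perm.notMem_support]
      exact Subtype.ext hxa
  rwa [hFc] at h

theorem dvd_of_moved {q : ℕ} [Fact q.Prime] (hqp : q ≠ p) (hR : IsPGroup p R) {D : Subgroup R} {α : MulAut R}
    (hαq : α ^ q = 1) (hD : ∀ d ∈ D, α d ∈ D) (hmv : ∃ d ∈ D, α d ≠ d) {n : ℕ} (hn : Nat.card D = p ^ n)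
    (hfix : n ≤ 2 ∨ (n = 3 ∧ ∃ z ∈ D, z ≠ 1 ∧ α z = z)) : q ∣ p ^ 2 - 1 := by
  have hp := (Fact.out : p.Prime)
  let F : Subgroup R :=
    { carrier := {x | x ∈ D ∧ α x = x}
      one_mem' := ⟨one_mem D, map_one α⟩
      mul_mem' := fun {a b} ha hb => ⟨mul_mem ha.1 hb.1, by rw [map_mul, ha.2, hb.2]⟩
      inv_mem' := fun {a} ha => ⟨inv_mem ha.1, by rw [map_inv, ha.2]⟩ }
  obtain ⟨i, hi⟩ := IsPGroup.iff_card.1 (hR.to_subgroup F)
  have hcg := fixed_congr hαq hD F (fun x => Iff.rfl)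
  rw [hi, hn] at hcg
  obtain ⟨d, hdD, hd⟩ := hmv
  have hin : i < n := by
    by_contra hle
    have heq : F = D := Subgroup.eq_of_le_of_card_ge (fun x hx => hx.1) (by
      rw [hi, hn]; exact Nat.pow_le_pow_right hp.pos (not_lt.1 hle))
    exact hd ((heq.ge hdD).2)
  have hk : n - i = 1 ∨ n - i = 2 := by
    rcases hfix with h | ⟨h3, z, hzD, hz1, hza⟩
    · omega
    · have : i ≠ 0 := by
        intro h0
        rw [h0, pow_zero] at hi
        have := Subgroup.eq_bot_of_card_eq _ hi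
        exact hz1 (Subgroup.mem_bot.1 (this.le ⟨hzD, hza⟩))
      omega
  have hdvd : q ∣ p ^ i * (p ^ (n - i) - 1) := by
    rw [Nat.mul_sub, mul_one, ← pow_add, Nat.add_sub_of_le hin.le]
    exact (Nat.modEq_iff_dvd' (Nat.pow_le_pow_right hp.pos hin.le)).1 hcg
  rcases (Fact.out : q.Prime).dvd_mul.1 hdvd with h | h
  · exact absurd ((Nat.prime_dvd_prime_iff_eq Fact.out hp).1 ((Fact.out : q.Prime).dvd_of_dvd_pow h)) hqp
  · rcases hk with hk | hk <;> rw [hk] at h
    · exact h.trans (by simpa [pow_one] using nat_pow_sub_one_dvd p (by norm_num : 1 ∣ 2))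
    · exact h
where
  nat_pow_sub_one_dvd (p : ℕ) {a b : ℕ} (h : a ∣ b) : p ^ a - 1 ∣ p ^ b - 1 := Nat.pow_sub_one_dvd_pow_sub_one p h

theorem aut_prime_dvd (hp2 : p ≠ 2) (hR : IsPGroup p R) (hrk : Cfsg.PRankLE p 2 R) (q : ℕ) (hq : q.Prime)
    (hqp : q ≠ p) (hdvd : q ∣ Nat.card (MulAut R)) : q ∣ p ^ 2 - 1 ∧ q < p := by
  have hp := (Fact.out : p.Prime)
  haveI : Fact q.Prime := ⟨hq⟩
  haveI : Finite (MulAut R) := Finite.of_injective (fun f => (f : R → R)) DFunLike.coe_injective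
  obtain ⟨α, hα⟩ := exists_prime_orderOf_dvd_card' (G := MulAut R) q hdvd
  obtain ⟨C, hch, hcom, hpow, hcen⟩ := CfsgLib.Small.exists_critical hR
  haveI := hch
  have hs : CfsgLib.Small.smallExp p = p := by simp [CfsgLib.Small.smallExp, hp2]
  let D : Subgroup R :=
    { carrier := {x | x ∈ C ∧ x ^ p = 1}
      one_mem' := ⟨one_mem _, one_pow _⟩
      mul_mem' := fun {a b} ha hb => ⟨mul_mem ha.1 hb.1, by
        rw [CfsgLib.Small.mul_pow_of_central ha.1 hb.1 (fun u _ v hv w hw => (Subgroup.mem_centralizer_iff.mp (hcom u v hv).2 w hw).symm)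
          (fun u hu w hw => (Subgroup.mem_centralizer_iff.mp (hpow u hu).2 w hw).symm)
          (hp.dvd_choose_self two_ne_zero (by have := hp.two_le; omega)), ha.2, hb.2, one_mul]⟩
      inv_mem' := fun {a} ha => ⟨inv_mem ha.1, by rw [inv_pow, ha.2, inv_one]⟩ }
  have hDα : ∀ β : MulAut R, ∀ d ∈ D, β d ∈ D := fun β d hd =>
    ⟨(Subgroup.characteristic_iff_map_le.1 hch β) ⟨d, hd.1, rfl⟩, by rw [← map_pow, hd.2, map_one]⟩
  have hmv : ∃ d ∈ D, α d ≠ d := by
    by_contra hne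
    push_neg at hne
    have h1 := CfsgLib.Small.eq_one_of_fixes_critical hR hcom hpow hcen
      (α := α) (hα ▸ (Nat.coprime_primes hq hp).2 hqp) (fun c hc h => hne c ⟨hc, hs ▸ h⟩)
    rw [h1, orderOf_one] at hα
    exact hq.one_lt.ne hα
  have hαq : α ^ q = 1 := hα ▸ pow_orderOf_eq_one α
  have hcard : Nat.card D ≤ p ^ 3 := card_exp_class_two_le hR hrk (fun d hd => hd.2)
    (fun a _ b hb c hc => (Subgroup.mem_centralizer_iff.mp (hcom a b hb.1).2 c hc.1).symm)
  obtain ⟨n, hn⟩ := IsPGroup.iff_card.1 (hR.to_subgroup D)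
  have hn3 : n ≤ 3 := (Nat.pow_le_pow_iff_right hp.one_lt).1 (hn ▸ hcard)
  have main : q ∣ p ^ 2 - 1 := by
    by_cases h2 : n ≤ 2
    · exact dvd_of_moved hqp hR hαq (hDα α) hmv hn (Or.inl h2)
    set Z := D ⊓ Subgroup.centralizer (D : Set R) with hZ
    have hZα : ∀ z ∈ Z, α z ∈ Z := by
      intro z hz
      refine Subgroup.mem_inf.2 ⟨hDα α z (Subgroup.mem_inf.1 hz).1, fun c hc => ?_⟩
      have h1 : Commute (α.symm c) z := (Subgroup.mem_inf.1 hz).2 (α.symm c) (hDα α.symm c hc)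
      have h2 := (h1.map α.toMonoidHom).eq
      simpa using h2
    obtain ⟨j, hj⟩ := IsPGroup.iff_card.1 (hR.to_subgroup Z)
    have hj2 : j ≤ 2 := by
      refine (Nat.pow_le_pow_iff_right hp.one_lt).1 (hj ▸ hrk Z ?_ (fun z hz => (Subgroup.mem_inf.1 hz).1.2))
      exact ⟨⟨fun a b => Subtype.ext ((Subgroup.mem_inf.1 b.2).2 a (Subgroup.mem_inf.1 a.2).1)⟩⟩
    by_cases hZmv : ∃ z ∈ Z, α z ≠ z
    · exact dvd_of_moved hqp hR hαq hZα hZmv hj (Or.inl hj2)
    push_neg at hZmv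
    refine dvd_of_moved hqp hR hαq (hDα α) hmv hn (Or.inr ⟨by omega, ?_⟩)
    have hZne : ∃ z ∈ Z, z ≠ 1 := by
      by_contra hne
      push_neg at hne
      have hall : ∀ a ∈ D, ∀ b ∈ D, Commute a b := by
        intro a ha b hb
        rw [← commutatorElement_eq_one_iff_commute]
        refine hne _ (Subgroup.mem_inf.2 ⟨?_, fun c hc => Subgroup.mem_centralizer_iff.mp (hcom a b hb.1).2 c hc.1⟩)
        rw [commutatorElement_def]
        exact mul_mem (mul_mem (mul_mem ha hb) (inv_mem ha)) (inv_mem hb)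
      have h3 := hrk D ⟨⟨fun a b => Subtype.ext (hall a a.2 b b.2).eq⟩⟩ (fun d hd => hd.2)
      exact h2 ((Nat.pow_le_pow_iff_right hp.one_lt).1 (hn ▸ h3))
    obtain ⟨z, hz, hz1⟩ := hZne
    exact ⟨z, (Subgroup.mem_inf.1 hz).1, hz1, hZmv z hz⟩
  refine ⟨main, ?_⟩
  have hp1 : 3 ≤ p := by have := hp.two_le; omega
  have h' : q ∣ (p + 1) * (p - 1) := by
    rwa [← Nat.sq_sub_sq, one_pow]
  rcases hq.dvd_mul.1 h' with h | h
  · have hle := Nat.le_of_dvd (by omega) h
    rcases lt_trichotomy q p with hlt | heq | hgt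
    · exact hlt
    · exact absurd heq hqp
    · exfalso
      have hq1 : q = p + 1 := by omega
      have hodd : p % 2 = 1 := (hp.eq_two_or_odd).resolve_left hp2
      rcases hq.eq_two_or_odd with h2 | h2 <;> omega
  · have := Nat.le_of_dvd (by omega) h
    omega

end CfsgLib.PGroupRankTwo
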