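import Cfsg.Agent.Lib.PGroup.ClassThree

/-!
`x ↦ x ^ p` in class at most three.
-/

set_option autoImplicit false
set_option linter.unusedSectionVars false

namespace CfsgLib.PGroup3

variable {R : Type*} [Group R] {p : ℕ} [Fact p.Prime]

/-- The class hypothesis used below. -/
def SmallClass (p : ℕ) (R : Type*) [Group R] : Prop :=
  (p ≠ 2 ∧ ⁅commutator R, (⊤ : Subgroup R)⁆ = ⊥) ∨
    (3 < p ∧ ⁅⁅commutator R, (⊤ : Subgroup R)⁆, (⊤ : Subgroup R)⁆ = ⊥)

open scoped commutatorElement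

theorem data (hcl : SmallClass p R) (u v : R) :
    ∃ c d e : R, c ∈ commutator R ∧ v * u = u * v * c ∧ c * u = u * c * d ∧ c * v = v * c * e ∧
      (∀ z, Commute d z) ∧ (∀ z, Commute e z) ∧ (d = 1 ∧ e = 1 ∨ 3 < p) := by
  set c := ⁅v⁻¹, u⁻¹⁆ with hc
  have hcmem : c ∈ commutator R := by
    rw [commutator_def]
    exact Subgroup.commutator_mem_commutator (Subgroup.mem_top _) (Subgroup.mem_top _)
  refine ⟨c, ⁅c⁻¹, u⁻¹⁆, ⁅c⁻¹, v⁻¹⁆, hcmem, by rw [hc, commutatorElement_def]; group,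
    by rw [commutatorElement_def]; group, by rw [commutatorElement_def]; group, ?_⟩
  have hmem : ∀ x : R, ⁅c⁻¹, x⁆ ∈ ⁅commutator R, (⊤ : Subgroup R)⁆ := fun x =>
    Subgroup.commutator_mem_commutator (inv_mem hcmem) (Subgroup.mem_top x)
  rcases hcl with ⟨-, h2⟩ | ⟨h3, h3'⟩
  · have he : ∀ x : R, ⁅c⁻¹, x⁆ = 1 := fun x => by
      have := hmem x; rwa [h2, Subgroup.mem_bot] at this
    refine ⟨fun z => ?_, fun z => ?_, Or.inl ⟨he _, he _⟩⟩ <;> rw [he] <;> exact Commute.one_left z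
  · have hcen : ∀ x z : R, Commute ⁅c⁻¹, x⁆ z := fun x z => by
      have := Subgroup.commutator_mem_commutator (hmem x) (Subgroup.mem_top z)
      rw [h3', Subgroup.mem_bot] at this
      exact commutatorElement_eq_one_iff_commute.1 this
    exact ⟨fun z => hcen _ z, fun z => hcen _ z, Or.inr h3⟩

theorem choose_dvd {k : ℕ} (hk : k ≠ 0) (hkp : k < p) : p ∣ p.choose k :=
  (Fact.out : p.Prime).dvd_choose_self hk hkp

theorem pow_eq_one_of_dvd {x : R} {n : ℕ} (hx : x ^ p = 1) (h : p ∣ n) : x ^ n = 1 := by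
  obtain ⟨m, rfl⟩ := h
  rw [pow_mul, hx, one_pow]

theorem two_lt (hcl : SmallClass p R) : 2 < p := by
  have := (Fact.out : p.Prime).two_le
  rcases hcl with ⟨h, -⟩ | ⟨h, -⟩ <;> omega

theorem mul_pow_eq (hcl : SmallClass p R) (u v : R)
    (hc : ∀ c, v * u = u * v * c → c ^ p = 1) : (u * v) ^ p = u ^ p * v ^ p := by
  obtain ⟨c, d, e, -, h, hcu, hcv, hd, he, hde⟩ := data hcl u v
  have hcp := hc c h
  have h2 := two_lt hcl
  have hpow : ∀ {w f : R}, c * w = w * c * f → (∀ z, Commute f z) → f ^ p = 1 := fun {w f} hw hf => by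
    have := conj_pow_right hw (hf c) p
    rw [hcp, one_mul, mul_one] at this
    exact left_eq_mul.1 this
  rw [mul_pow_class_three h hcu hcv (hd u) (hd v) (hd c) (he u) (he v) (he c) p,
    pow_eq_one_of_dvd hcp (choose_dvd two_ne_zero h2), mul_one]
  rcases hde with ⟨rfl, rfl⟩ | h3
  · simp
  · rw [pow_eq_one_of_dvd (hpow hcu hd) (choose_dvd three_ne_zero h3), mul_one,
      pow_eq_one_of_dvd (hpow hcv he) (dvd_add (choose_dvd two_ne_zero h2)
        (Dvd.dvd.mul_left (choose_dvd three_ne_zero h3) 2)), mul_one]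

theorem pow_eq_one_of_mem_closure (hcl : SmallClass p R) {g : R}
    (hg : g ∈ Subgroup.closure {x : R | x ^ p = 1}) : g ^ p = 1 := by
  have h2 := two_lt hcl
  induction hg using Subgroup.closure_induction with
  | mem x hx => exact hx
  | one => exact one_pow _
  | inv x _ hx => rw [inv_pow, hx, inv_one]
  | mul u v _ _ hu hv =>
    rw [mul_pow_eq hcl u v ?_, hu, hv, one_mul]
    intro c hcc
    obtain ⟨c', d, e, -, h, hcu, -, hd, -, -⟩ := data hcl u v
    obtain rfl : c = c' := mul_left_cancel (hcc.symm.trans h)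
    have h1 := pow_swap_right h hcu (hd u) (hd c) p
    rw [hu, mul_one, one_mul, mul_assoc, left_eq_mul] at h1
    have hcz : c ^ p = (d ^ p.choose 2)⁻¹ := eq_inv_of_mul_eq_one_left h1
    have hdp : d ^ p = 1 := by
      have h3 := conj_pow_right hcu (hd c) p
      rw [hcz, (((hd u).pow_left _).inv_left).eq] at h3
      exact left_eq_mul.1 h3
    rw [hcz, pow_eq_one_of_dvd hdp (choose_dvd two_ne_zero h2), inv_one]

end CfsgLib.PGroup3
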