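import Mathlib
import Cfsg.Prelude.Def_PLocal
import Cfsg.Prelude.Def_Transfer
import Cfsg.Prelude.Def_OddOrderLocal
import Cfsg.Agent.Lib.PGroup.ClassThreePow
import Cfsg.Agent.Lib.PGroup.RankTwoNormal

/-!
`p`-groups with few elements of order `p`, `p > 3`.
-/

set_option autoImplicit false
set_option linter.unusedSectionVars false

universe u

namespace CfsgLib.PGroupOmega

open scoped commutatorElement

variable {R : Type u} [Group R] [Finite R] {p : ℕ} [Fact p.Prime]

theorem center_card_ge (hR : IsPGroup p R) [Nontrivial R] : p ≤ Nat.card ↥(Subgroup.center R) := by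
  haveI := hR.center_nontrivial
  obtain ⟨n, hn, hc⟩ := (hR.to_subgroup (Subgroup.center R)).nontrivial_iff_card.1 inferInstance
  rw [hc]
  exact Nat.le_self_pow hn.ne' p

theorem card_quotient_center (hR : IsPGroup p R) [Nontrivial R] :
    Nat.card (R ⧸ Subgroup.center R) * p ≤ Nat.card R := by
  rw [Subgroup.card_eq_card_quotient_mul_card_subgroup (Subgroup.center R)]
  exact Nat.mul_le_mul_left _ (center_card_ge hR)

theorem commutator_map {Q : Type u} [Group Q] {q : R →* Q} (hq : Function.Surjective q) :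
    (commutator R).map q = commutator Q := by
  rw [commutator_def, Subgroup.map_commutator, Subgroup.map_top_of_surjective q hq, commutator_def]

theorem commutative_of_card_le (hR : IsPGroup p R) (h : Nat.card R ≤ p ^ 2) : ∀ a b : R, a * b = b * a := by
  have hp := (Fact.out : p.Prime)
  obtain ⟨n, hn⟩ := IsPGroup.iff_card.1 hR
  rcases (show n = 0 ∨ n = 1 ∨ n = 2 by
    have := (Nat.pow_le_pow_iff_right hp.one_lt).1 (hn ▸ h); omega) with rfl | rfl | rfl
  · have : Subsingleton R := (Nat.card_eq_one_iff_unique.1 (by simpa using hn)).1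
    exact fun a b => Subsingleton.elim _ _
  · haveI := isCyclic_of_prime_card (α := R) (p := p) (by simpa using hn)
    intro a b
    obtain ⟨g, hg⟩ := IsCyclic.exists_generator (α := R)
    obtain ⟨i, rfl⟩ := hg a
    obtain ⟨j, rfl⟩ := hg b
    exact (Commute.zpow_zpow (Commute.refl g) i j).eq
  · exact (IsPGroup.isMulCommutative_of_card_eq_prime_sq hn).is_comm.comm

theorem class_two_of_card_le (hR : IsPGroup p R) (h : Nat.card R ≤ p ^ 3) :
    ⁅commutator R, (⊤ : Subgroup R)⁆ = ⊥ := by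
  have hp := (Fact.out : p.Prime)
  rcases subsingleton_or_nontrivial R with hs | hs
  · exact Subgroup.eq_bot_of_subsingleton _
  have hq : Nat.card (R ⧸ Subgroup.center R) ≤ p ^ 2 :=
    Nat.le_of_mul_le_mul_right (((card_quotient_center hR).trans h).trans_eq (by ring)) hp.pos
  have hcomm := commutative_of_card_le (hR.to_quotient _) hq
  have hle : commutator R ≤ Subgroup.center R := by
    rw [commutator_def, Subgroup.commutator_le]
    intro a _ b _
    rw [← QuotientGroup.eq_one_iff]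
    show QuotientGroup.mk' (Subgroup.center R) ⁅a, b⁆ = 1
    rw [map_commutatorElement, commutatorElement_eq_one_iff_commute]
    exact hcomm _ _
  rw [eq_bot_iff, Subgroup.commutator_le]
  intro a ha b _
  rw [Subgroup.mem_bot, commutatorElement_eq_one_iff_commute]
  exact (Subgroup.mem_center_iff.1 (hle ha) b).symm

theorem class_three_of_card_le (hR : IsPGroup p R) (h : Nat.card R ≤ p ^ 4) :
    ⁅⁅commutator R, (⊤ : Subgroup R)⁆, (⊤ : Subgroup R)⁆ = ⊥ := by
  have hp := (Fact.out : p.Prime)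
  rcases subsingleton_or_nontrivial R with hs | hs
  · exact Subgroup.eq_bot_of_subsingleton _
  have hq : Nat.card (R ⧸ Subgroup.center R) ≤ p ^ 3 :=
    Nat.le_of_mul_le_mul_right (((card_quotient_center hR).trans h).trans_eq (by ring)) hp.pos
  have h2 := class_two_of_card_le (hR.to_quotient _) hq
  have hle : ⁅commutator R, (⊤ : Subgroup R)⁆ ≤ Subgroup.center R := by
    have := congrArg (Subgroup.comap (QuotientGroup.mk' (Subgroup.center R))) h2
    rw [← commutator_map (QuotientGroup.mk'_surjective _), ← Subgroup.map_top_of_surjective _ (QuotientGroup.mk'_surjective (Subgroup.center R)),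
      ← Subgroup.map_commutator, Subgroup.comap_map_eq, MonoidHom.comap_bot, QuotientGroup.ker_mk'] at this
    exact le_sup_left.trans this.le
  rw [eq_bot_iff, Subgroup.commutator_le]
  intro a ha b _
  rw [Subgroup.mem_bot, commutatorElement_eq_one_iff_commute]
  exact (Subgroup.mem_center_iff.1 (hle ha) b).symm

theorem small_of_card_le (hp3 : 3 < p) (hR : IsPGroup p R) (h : Nat.card R ≤ p ^ 4) : CfsgLib.PGroup3.SmallClass p R :=
  Or.inr ⟨hp3, class_three_of_card_le hR h⟩

theorem card_sup_le (A B : Subgroup R) [B.Normal] : Nat.card ↥(A ⊔ B) ≤ Nat.card A * Nat.card B :=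
  Nat.le_of_dvd (Nat.mul_pos Nat.card_pos Nat.card_pos) (CfsgLib.card_sup_dvd_mul A B)

/-- Every elementary abelian subgroup has order at most `p ^ 2`. -/
def RankTwo (p : ℕ) (R : Type u) [Group R] : Prop :=
  ∀ E : Subgroup R, IsMulCommutative E → (∀ e ∈ E, e ^ p = 1) → Nat.card E ≤ p ^ 2

theorem rankTwo_subgroup (h : RankTwo p R) (H : Subgroup R) : RankTwo p H := by
  intro E hE hEe
  rw [← Subgroup.card_map_of_injective (f := H.subtype) (K := E) H.subtype_injective]
  refine h _ ⟨⟨?_⟩⟩ ?_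
  · rintro ⟨_, a, ha, rfl⟩ ⟨_, b, hb, rfl⟩
    exact Subtype.ext (congrArg (Subtype.val : H → R) (Subgroup.mul_comm_of_mem_isMulCommutative E ha hb))
  · rintro _ ⟨a, ha, rfl⟩
    rw [← map_pow, hEe a ha, map_one]

theorem mul_pow_one_aux (hp3 : 3 < p) :
    ∀ (n : ℕ) (R : Type u) [Group R] [Finite R], Nat.card R = n → IsPGroup p R → RankTwo p R →
      ∀ u v : R, u ^ p = 1 → v ^ p = 1 → (u * v) ^ p = 1 := by
  intro n
  induction n using Nat.strong_induction_on with
  | _ n ih =>
  intro R _ _ hn hR hrk u v hu hv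
  have hp := (Fact.out : p.Prime)
  have hsub : ∀ H : Subgroup R, H ≠ ⊤ → ∀ g ∈ Subgroup.closure {x : R | x ∈ H ∧ x ^ p = 1}, g ∈ H ∧ g ^ p = 1 := by
    intro H hH g hg
    induction hg using Subgroup.closure_induction with
    | mem x hx => exact hx
    | one => exact ⟨one_mem H, one_pow p⟩
    | inv x _ hx => exact ⟨inv_mem hx.1, by rw [inv_pow, hx.2, inv_one]⟩
    | mul a b _ _ ha hb =>
      refine ⟨mul_mem ha.1 hb.1, ?_⟩
      have hlt : Nat.card H < n := hn ▸ lt_of_le_of_ne (Nat.le_of_dvd Nat.card_pos H.card_subgroup_dvd_card)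
        (fun e => hH (Subgroup.card_eq_iff_eq_top H |>.1 e))
      have := ih _ hlt H rfl (hR.to_subgroup H) (rankTwo_subgroup hrk H) ⟨a, ha.1⟩ ⟨b, hb.1⟩
        (Subtype.ext ha.2) (Subtype.ext hb.2)
      exact congrArg Subtype.val this
  obtain ⟨A, hAn, hA, hAe, hmax⟩ := CfsgLib.PGroupRankTwo.exists_maximal hR
  haveI := hAn
  have hAp : ∀ a ∈ A, a ^ p = 1 := fun a ha => by simpa using hAe a ha
  have hAC : ∀ x ∈ Subgroup.centralizer (A : Set R), x ^ p = 1 → x ∈ A :=
    fun x hx hxp => CfsgLib.PGroupRankTwo.inter_centralizer_le hR (by omega) hA hAe hmax hx hxp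
  have hA2 : Nat.card A ≤ p ^ 2 := hrk A hA hAp
  by_cases hcl : Subgroup.closure {u, v} = (⊤ : Subgroup R)
  swap
  · exact (hsub _ hcl (u * v) (mul_mem (Subgroup.subset_closure ⟨Subgroup.subset_closure (Set.mem_insert u _), hu⟩)
      (Subgroup.subset_closure ⟨Subgroup.subset_closure (Set.mem_insert_of_mem _ rfl), hv⟩))).2
  by_cases hcen : A ≤ Subgroup.center R
  · exact hAp _ (mul_mem (hAC u (fun a ha => (Subgroup.mem_center_iff.1 (hcen ha) u).symm) hu)
      (hAC v (fun a ha => (Subgroup.mem_center_iff.1 (hcen ha) v).symm) hv))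
  obtain ⟨k, hk⟩ := IsPGroup.iff_card.1 (hR.to_subgroup A)
  obtain rfl : k = 2 := by
    by_contra hne
    apply hcen
    intro a ha
    have hk2 := (Nat.pow_le_pow_iff_right hp.one_lt).1 (hk ▸ hA2)
    rcases (show k = 0 ∨ k = 1 by omega) with rfl | rfl
    · rw [pow_zero] at hk
      rw [Subgroup.eq_bot_of_card_eq _ hk, Subgroup.mem_bot] at ha
      rw [ha]; exact one_mem _
    · refine Subgroup.mem_center_iff.2 fun g => ?_
      have h := CfsgLib.PGroupRankTwo.step_central hR (bot_le : (⊥ : Subgroup R) ≤ A) (by rw [hk, Subgroup.card_bot]; ring) g ha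
      rw [Subgroup.mem_bot, inv_mul_eq_one, eq_mul_inv_iff_mul_eq] at h
      exact h.symm
  obtain ⟨B1, hB1n, hB1A, hB1⟩ := CfsgLib.PGroupRankTwo.exists_normal_card hR A 1
    (by rw [hk]; exact Nat.pow_le_pow_right hp.pos (by omega))
  haveI := hB1n
  have hcA : Nat.card A = Nat.card B1 * p := by rw [hk, hB1]; ring
  obtain ⟨b, hbA, hb⟩ := SetLike.exists_of_lt (lt_of_le_of_ne hB1A (fun e => by
    rw [e, hk] at hB1
    have := Nat.pow_right_injective hp.two_le hB1
    omega))
  have hcen1 : ∀ g : R, ∀ c ∈ B1, Commute g c := fun g c hc => by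
    have h := CfsgLib.PGroupRankTwo.step_central hR (bot_le : (⊥ : Subgroup R) ≤ B1)
      (by rw [hB1, Subgroup.card_bot]; ring) g hc
    rw [Subgroup.mem_bot, inv_mul_eq_one, eq_mul_inv_iff_mul_eq] at h
    exact h.symm
  have hCb : ∀ x : R, Commute x b → x ∈ Subgroup.centralizer (A : Set R) := by
    intro x hx
    have hle : A ≤ Subgroup.centralizer {x} := by
      rw [← CfsgLib.PGroupRankTwo.sup_eq_of_step hB1A hcA hbA hb]
      refine sup_le (fun c hc => Subgroup.mem_centralizer_singleton_iff.2 (hcen1 x c hc).eq.symm) (Subgroup.zpowers_le.2 ?_)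
      exact Subgroup.mem_centralizer_singleton_iff.2 hx.eq.symm
    exact fun c hc => Subgroup.mem_centralizer_singleton_iff.1 (hle hc)
  -- a normal subgroup of order at most `p ^ 3` over `A` through each element of order `p`
  have key : ∀ w : R, w ^ p = 1 →
      (∃ W : Subgroup R, W.Normal ∧ A ≤ W ∧ w ∈ W ∧ Nat.card W ≤ p ^ 3) := by
    intro w hw
    have hwc : Nat.card ↥(Subgroup.zpowers w ⊔ A) ≤ p ^ 3 := by
      refine (card_sup_le _ _).trans ?_
      rw [Nat.card_zpowers, hk]
      calc orderOf w * p ^ 2 ≤ p * p ^ 2 := Nat.mul_le_mul_right _ (Nat.le_of_dvd hp.pos (orderOf_dvd_of_pow_eq_one hw))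
        _ = p ^ 3 := by ring
    by_cases htop : Subgroup.zpowers w ⊔ A = ⊤
    · exact ⟨⊤, inferInstance, le_top, Subgroup.mem_top _, htop ▸ hwc⟩
    obtain ⟨M, hM, hle⟩ := (eq_top_or_exists_le_coatom (Subgroup.zpowers w ⊔ A)).resolve_left htop
    haveI : Group.IsNilpotent R := hR.isNilpotent
    haveI hMn : M.Normal := Subgroup.NormalizerCondition.normal_of_coatom M normalizerCondition_of_isNilpotent hM
    set W := Subgroup.closure {x : R | x ∈ M ∧ x ^ p = 1} with hW
    have hWn : W.Normal := by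
      refine ⟨fun x hx g => ?_⟩
      have hmap : W.map (MulAut.conj g).toMonoidHom ≤ W := by
        rw [hW, MonoidHom.map_closure]
        refine Subgroup.closure_mono ?_
        rintro _ ⟨y, ⟨hy, hyp⟩, rfl⟩
        exact ⟨hMn.conj_mem y hy g, by rw [← map_pow, hyp, map_one]⟩
      exact hmap ⟨x, hx, rfl⟩
    refine ⟨W, hWn, fun a ha => Subgroup.subset_closure ⟨hle (Subgroup.mem_sup_right ha), hAp a ha⟩,
      Subgroup.subset_closure ⟨hle (Subgroup.mem_sup_left (Subgroup.mem_zpowers w)), hw⟩, ?_⟩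
    obtain ⟨Rg, hRg, -, hc⟩ := CfsgLib.PGroupRankTwo.exists_range W b B1 (fun e _ => hcen1 e)
      (fun e _ => CfsgLib.PGroupRankTwo.step_central hR hB1A hcA e hbA)
    have hWC : W ⊓ Subgroup.centralizer {b} ≤ A := by
      intro x hx
      exact hAC x (hCb x (Subgroup.mem_centralizer_singleton_iff.1 (Subgroup.mem_inf.1 hx).2))
        (hsub M hM.1 x (Subgroup.mem_inf.1 hx).1).2
    rw [hc]
    calc Nat.card ↥(W ⊓ Subgroup.centralizer {b}) * Nat.card Rg ≤ p ^ 2 * p ^ 1 :=
          Nat.mul_le_mul ((Nat.le_of_dvd Nat.card_pos (Subgroup.card_dvd_of_le hWC)).trans hk.le)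
            ((Nat.le_of_dvd Nat.card_pos (Subgroup.card_dvd_of_le hRg)).trans hB1.le)
      _ = p ^ 3 := by ring
  obtain ⟨Wu, hWun, hAWu, huW, hWu⟩ := key u hu
  obtain ⟨Wv, hWvn, hAWv, hvW, hWv⟩ := key v hv
  haveI := hWun
  haveI := hWvn
  have htop : Wu ⊔ Wv = ⊤ := by
    rw [eq_top_iff, ← hcl, Subgroup.closure_le]
    rintro x (rfl | rfl)
    · exact Subgroup.mem_sup_left huW
    · exact Subgroup.mem_sup_right hvW
  have hmul : Nat.card R * p ^ 2 ≤ p ^ 3 * p ^ 3 := by
    have h1 := Subgroup.card_mul_index Wv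
    have h2 : Wv.index = (Wv.subgroupOf Wu).index := by
      show _ = Wv.relIndex Wu
      rw [← Subgroup.relIndex_sup_right, htop, Subgroup.relIndex_top_right]
    have h3 := Subgroup.card_mul_index (Wv.subgroupOf Wu)
    have h4 : p ^ 2 ≤ Nat.card (Wv.subgroupOf Wu) := by
      rw [← hk, ← Nat.card_congr (Subgroup.subgroupOfEquivOfLe hAWu).toEquiv]
      exact Nat.le_of_dvd Nat.card_pos (Subgroup.card_dvd_of_le fun x hx => hAWv hx)
    rw [← h1, h2]
    calc Nat.card Wv * (Wv.subgroupOf Wu).index * p ^ 2 = Nat.card Wv * (p ^ 2 * (Wv.subgroupOf Wu).index) := by ring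
      _ ≤ Nat.card Wv * Nat.card Wu := Nat.mul_le_mul_left _ (h3 ▸ Nat.mul_le_mul_right _ h4)
      _ ≤ p ^ 3 * p ^ 3 := Nat.mul_le_mul hWv hWu
  have h4 : Nat.card R ≤ p ^ 4 :=
    Nat.le_of_mul_le_mul_right (hmul.trans_eq (by ring)) (pow_pos hp.pos 2)
  exact CfsgLib.PGroup3.pow_eq_one_of_mem_closure (small_of_card_le hp3 hR h4)
    (mul_mem (Subgroup.subset_closure hu) (Subgroup.subset_closure hv))

/-- In a `p`-group of rank at most two, `p > 3`, the elements of order dividing `p` form a subgroup. -/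
theorem pow_eq_one (hp3 : 3 < p) (hR : IsPGroup p R) (hrk : RankTwo p R) {g : R}
    (hg : g ∈ Subgroup.closure {x : R | x ^ p = 1}) : g ^ p = 1 := by
  induction hg using Subgroup.closure_induction with
  | mem x hx => exact hx
  | one => exact one_pow p
  | inv x _ hx => rw [inv_pow, hx, inv_one]
  | mul a b _ _ ha hb => exact mul_pow_one_aux hp3 _ R rfl hR hrk a b ha hb

theorem omega_eq (R : Type u) [Group R] (p : ℕ) :
    Cfsg.omegaOne p (⊤ : Subgroup R) = Subgroup.closure {x : R | x ^ p = 1} := by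
  unfold Cfsg.omegaOne
  simp

theorem exists_exp_subgroup (hp3 : 3 < p) (hR : IsPGroup p R)
    (h : p ^ 2 < Nat.card ↥(Subgroup.closure {x : R | x ^ p = 1})) :
    ∃ V : Subgroup R, Nat.card V = p ^ 3 ∧ ∀ x ∈ V, x ^ p = 1 := by
  have main : ∀ W : Subgroup R, p ^ 2 < Nat.card W → (∀ x ∈ W, x ^ p = 1) →
      ∃ V : Subgroup R, Nat.card V = p ^ 3 ∧ ∀ x ∈ V, x ^ p = 1 := by
    intro W hW hWe
    have hp := (Fact.out : p.Prime)
    obtain ⟨n, hn⟩ := IsPGroup.iff_card.1 (hR.to_subgroup W)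
    have h3 : 3 ≤ n := by
      by_contra hh
      exact absurd hW (not_lt.2 (hn ▸ Nat.pow_le_pow_right hp.pos (by omega)))
    obtain ⟨V, hV⟩ := Sylow.exists_subgroup_card_pow_prime (G := W) p (n := 3) (hn ▸ pow_dvd_pow p h3)
    refine ⟨V.map W.subtype, by rw [Subgroup.card_map_of_injective W.subtype_injective, hV], ?_⟩
    rintro _ ⟨x, -, rfl⟩
    exact hWe x x.2
  by_cases hrk : RankTwo p R
  · exact main _ h (fun x hx => pow_eq_one hp3 hR hrk hx)
  · simp only [RankTwo, not_forall, not_le] at hrk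
    obtain ⟨E, hE, hEe, hEc⟩ := hrk
    exact main E hEc hEe

theorem exists_exp_preimage (hp3 : 3 < p) (hR : IsPGroup p R) {T : Subgroup R} [T.Normal] (hT : Nat.card T = p)
    {W : Subgroup R} (hTW : T ≤ W) (hW : Nat.card W = p ^ 4) (hWT : ∀ x ∈ W, x ^ p ∈ T) :
    ∃ V : Subgroup R, V ≤ W ∧ Nat.card V = p ^ 3 ∧ ∀ x ∈ V, x ^ p = 1 := by
  have hp := (Fact.out : p.Prime)
  have hcl := small_of_card_le hp3 (hR.to_subgroup W) hW.le
  have hTc : ∀ g : R, ∀ t ∈ T, Commute g t := fun g t ht => by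
    have h := CfsgLib.PGroupRankTwo.step_central hR (bot_le : (⊥ : Subgroup R) ≤ T)
      (by rw [hT, Subgroup.card_bot, one_mul]) g ht
    rw [Subgroup.mem_bot, inv_mul_eq_one, eq_mul_inv_iff_mul_eq] at h
    exact h.symm
  have h2 : 2 < p := by omega
  have hhom : ∀ u v : W, (u * v) ^ p = u ^ p * v ^ p := by
    intro u v
    refine CfsgLib.PGroup3.mul_pow_eq hcl u v fun c hcc => ?_
    obtain ⟨c', d, e, -, h, hcu, -, hd, -, -⟩ := CfsgLib.PGroup3.data hcl u v
    obtain rfl : c = c' := mul_left_cancel (hcc.symm.trans h)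
    have h1 := CfsgLib.PGroup3.pow_swap_right h hcu (hd u) (hd c) p
    have hcom : Commute v (u ^ p) := Subtype.ext (hTc v (u ^ p : W) (by simpa using hWT u u.2)).eq
    rw [hcom.eq, mul_assoc, left_eq_mul] at h1
    have hcz : c ^ p = (d ^ p.choose 2)⁻¹ := eq_inv_of_mul_eq_one_left h1
    have hdp : d ^ p = 1 := by
      have h3 := CfsgLib.PGroup3.conj_pow_right hcu (hd c) p
      rw [hcz, (((hd u).pow_left _).inv_left).eq] at h3
      exact left_eq_mul.1 h3
    rw [hcz, CfsgLib.PGroup3.pow_eq_one_of_dvd hdp (CfsgLib.PGroup3.choose_dvd two_ne_zero h2), inv_one]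
  let f : ↥W →* ↥W :=
    { toFun := fun x => x ^ p
      map_one' := one_pow p
      map_mul' := hhom }
  have hr : f.range ≤ T.subgroupOf W := by
    rintro _ ⟨x, rfl⟩
    exact hWT x x.2
  have h1 := Subgroup.card_mul_index f.ker
  rw [Subgroup.index_ker] at h1
  have h3 : Nat.card f.range ≤ p := by
    refine (Nat.le_of_dvd Nat.card_pos (Subgroup.card_dvd_of_le hr)).trans ?_
    rw [Nat.card_congr (Subgroup.subgroupOfEquivOfLe hTW).toEquiv, hT]
  obtain ⟨n, hn⟩ := IsPGroup.iff_card.1 ((hR.to_subgroup W).to_subgroup f.ker)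
  have hn3 : 3 ≤ n := by
    by_contra hh
    have : p ^ 4 ≤ p ^ 3 := by
      calc p ^ 4 = Nat.card f.ker * Nat.card f.range := by rw [h1, hW]
        _ ≤ p ^ 2 * p := Nat.mul_le_mul (hn ▸ Nat.pow_le_pow_right hp.pos (by omega)) h3
        _ = p ^ 3 := by ring
    have := (Nat.pow_le_pow_iff_right hp.one_lt).1 this
    omega
  obtain ⟨V, hV⟩ := Sylow.exists_subgroup_card_pow_prime (G := f.ker) p (n := 3) (hn ▸ pow_dvd_pow p hn3)
  refine ⟨(V.map f.ker.subtype).map W.subtype, Subgroup.map_subtype_le _, ?_, ?_⟩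
  · rw [Subgroup.card_map_of_injective W.subtype_injective, Subgroup.card_map_of_injective f.ker.subtype_injective, hV]
  · rintro _ ⟨_, ⟨x, -, rfl⟩, rfl⟩
    exact congrArg Subtype.val x.2

theorem no_exp_section (hp3 : 3 < p) (hR : IsPGroup p R)
    (hO : Nat.card ↥(Subgroup.closure {x : R | x ^ p = 1}) ≤ p ^ 2) :
    ∀ (n : ℕ) (T : Subgroup R), T.Normal → Nat.card T = n → ∀ W : Subgroup R, T ≤ W →
      Nat.card W = Nat.card T * p ^ 3 → (∀ x ∈ W, x ^ p ∈ T) → False := by
  have hp := (Fact.out : p.Prime)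
  intro n
  induction n using Nat.strong_induction_on with
  | _ n ih =>
  intro T hTn hn W hTW hW hWT
  obtain ⟨k, hk⟩ := IsPGroup.iff_card.1 (hR.to_subgroup T)
  rcases k with _ | k
  · rw [pow_zero] at hk
    rw [hk, one_mul] at hW
    have hle : W ≤ Subgroup.closure {x : R | x ^ p = 1} := fun x hx => Subgroup.subset_closure (by
      have := hWT x hx
      rw [Subgroup.eq_bot_of_card_eq _ hk, Subgroup.mem_bot] at this
      exact this)
    have := (Nat.le_of_dvd Nat.card_pos (Subgroup.card_dvd_of_le hle)).trans hO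
    rw [hW] at this
    have := (Nat.pow_le_pow_iff_right hp.one_lt).1 this
    omega
  obtain ⟨T1, hT1n, hT1T, hT1⟩ := CfsgLib.PGroupRankTwo.exists_normal_card hR T k
    (hk ▸ Nat.pow_le_pow_right hp.pos (Nat.le_succ k))
  haveI := hT1n
  haveI := hTn
  set q := QuotientGroup.mk' T1 with hq
  haveI : (T.map q).Normal := Subgroup.Normal.map inferInstance q (QuotientGroup.mk'_surjective T1)
  have hcm : ∀ S : Subgroup R, T1 ≤ S → Nat.card S = p ^ k * Nat.card (S.map q) := by
    intro S hS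
    have h1 : (S.map q).comap q = S := by
      rw [Subgroup.comap_map_eq, hq, QuotientGroup.ker_mk']; exact sup_eq_left.2 hS
    rw [← hT1, ← CfsgLib.card_comap_mk, ← hq, h1]
  have hTq : Nat.card (T.map q) = p := by
    have := hcm T hT1T
    rw [hk, pow_succ] at this
    exact (Nat.eq_of_mul_eq_mul_left (pow_pos hp.pos k) this).symm
  have hWq : Nat.card (W.map q) = p ^ 4 := by
    have := hcm W (hT1T.trans hTW)
    rw [hW, hk] at this
    refine (Nat.eq_of_mul_eq_mul_left (pow_pos hp.pos k) ?_).symm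
    rw [← this]; ring
  obtain ⟨V, hVW, hV, hVe⟩ := exists_exp_preimage hp3 (hR.to_quotient T1) hTq (Subgroup.map_mono hTW) hWq (by
    rintro _ ⟨x, hx, rfl⟩
    exact ⟨x ^ p, hWT x hx, map_pow q x p⟩)
  refine ih (Nat.card T1) ?_ T1 hT1n rfl (V.comap q) ?_ ?_ ?_
  · rw [hT1, ← hn, hk]; exact Nat.pow_lt_pow_right hp.one_lt (Nat.lt_succ_self k)
  · intro x hx
    show q x ∈ V
    rw [show q x = 1 from (QuotientGroup.eq_one_iff x).2 hx]; exact one_mem _
  · rw [hq, CfsgLib.card_comap_mk, hV]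
  · intro x hx
    exact (QuotientGroup.eq_one_iff _).1 ((map_pow q x p).trans (hVe _ hx))

theorem omega_quotient_le (hp3 : 3 < p) (hR : IsPGroup p R)
    (hO : Nat.card ↥(Subgroup.closure {x : R | x ^ p = 1}) ≤ p ^ 2) (T : Subgroup R) [T.Normal] :
    Nat.card ↥(Subgroup.closure {x : R ⧸ T | x ^ p = 1}) ≤ p ^ 2 := by
  by_contra hne
  obtain ⟨V, hV, hVe⟩ := exists_exp_subgroup hp3 (hR.to_quotient T) (not_le.1 hne)
  refine no_exp_section hp3 hR hO _ T inferInstance rfl (V.comap (QuotientGroup.mk' T)) ?_ ?_ ?_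
  · intro x hx
    show QuotientGroup.mk' T x ∈ V
    rw [show QuotientGroup.mk' T x = 1 from (QuotientGroup.eq_one_iff x).2 hx]; exact one_mem _
  · rw [CfsgLib.card_comap_mk, hV]
  · intro x hx
    exact (QuotientGroup.eq_one_iff _).1 ((map_pow (QuotientGroup.mk' T) x p).trans (hVe _ hx))

theorem omega_subgroup_le (hO : Nat.card ↥(Subgroup.closure {x : R | x ^ p = 1}) ≤ p ^ 2) (H : Subgroup R) :
    Nat.card ↥(Subgroup.closure {x : H | x ^ p = 1}) ≤ p ^ 2 := by
  refine le_trans ?_ hO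
  rw [← Subgroup.card_map_of_injective (f := H.subtype) (K := Subgroup.closure {x : H | x ^ p = 1}) H.subtype_injective]
  refine Nat.le_of_dvd Nat.card_pos (Subgroup.card_dvd_of_le ?_)
  rw [MonoidHom.map_closure]
  refine Subgroup.closure_mono ?_
  rintro _ ⟨x, hx, rfl⟩
  exact congrArg Subtype.val hx

/-- Equal `p`-th powers differ by an element of order dividing `p`. -/
theorem inv_mul_pow_of_pow_eq (hp3 : 3 < p) (hR : IsPGroup p R)
    (hO : Nat.card ↥(Subgroup.closure {x : R | x ^ p = 1}) ≤ p ^ 2) {x y : R} (h : x ^ p = y ^ p) :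
    (x⁻¹ * y) ^ p = 1 := by
  set L := Subgroup.closure ({x, y} : Set R) with hL
  set a : L := ⟨x, Subgroup.subset_closure (Set.mem_insert x _)⟩ with ha
  set b : L := ⟨y, Subgroup.subset_closure (Set.mem_insert_of_mem _ rfl)⟩ with hb
  have hab : a ^ p = b ^ p := Subtype.ext h
  suffices (a⁻¹ * b) ^ p = 1 from congrArg Subtype.val this
  have hLp := hR.to_subgroup L
  have htop : Subgroup.closure ({a, b} : Set L) = ⊤ := by
    apply Subgroup.map_injective L.subtype_injective
    rw [MonoidHom.map_closure, ← MonoidHom.range_eq_map, Subgroup.range_subtype, Set.image_pair]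
    rfl
  have hz : ∀ g : L, Commute g (a ^ p) := by
    intro g
    have hle : (⊤ : Subgroup L) ≤ Subgroup.centralizer {a ^ p} := by
      rw [← htop, Subgroup.closure_le]
      rintro g (rfl | rfl)
      · exact Subgroup.mem_centralizer_singleton_iff.2 ((Commute.refl _).pow_right p).eq
      · rw [hab]
        exact Subgroup.mem_centralizer_singleton_iff.2 ((Commute.refl _).pow_right p).eq
    exact Subgroup.mem_centralizer_singleton_iff.1 (hle (Subgroup.mem_top g))
  set T := Subgroup.zpowers (a ^ p) with hT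
  haveI : T.Normal := ⟨fun n hn g => by
    obtain ⟨i, rfl⟩ := hn
    show g * (a ^ p) ^ i * g⁻¹ ∈ T
    rw [((hz g).zpow_right i).eq, mul_inv_cancel_right]
    exact zpow_mem (Subgroup.mem_zpowers _) i⟩
  have hq := omega_quotient_le hp3 hLp (omega_subgroup_le hO L) T
  have hgen : Subgroup.closure {z : L ⧸ T | z ^ p = 1} = ⊤ := by
    rw [eq_top_iff, ← Subgroup.map_top_of_surjective _ (QuotientGroup.mk'_surjective T), ← htop, MonoidHom.map_closure]
    refine Subgroup.closure_mono ?_
    rintro _ ⟨g, (rfl | rfl), rfl⟩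
    · exact (map_pow (QuotientGroup.mk' T) a p).symm.trans ((QuotientGroup.eq_one_iff _).2 (Subgroup.mem_zpowers _))
    · exact (map_pow (QuotientGroup.mk' T) b p).symm.trans ((QuotientGroup.eq_one_iff _).2 (hab ▸ Subgroup.mem_zpowers _))
  rw [hgen, Subgroup.card_top] at hq
  have hcomm := commutative_of_card_le (hLp.to_quotient T) hq
  set e := b * a⁻¹ * b⁻¹ * a with he
  have hemem : e ∈ T := by
    rw [← QuotientGroup.eq_one_iff, he]
    show QuotientGroup.mk' T _ = 1
    rw [map_mul, map_mul, map_mul, map_inv, map_inv, hcomm (QuotientGroup.mk' T b) (QuotientGroup.mk' T a)⁻¹]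
    group
  have hec : ∀ g : L, Commute e g := by
    intro g
    obtain ⟨i, hi⟩ := hemem
    exact hi ▸ ((hz g).zpow_right i).symm
  have hmp := CfsgLib.PGroupAlperin.mul_pow_central (u := a⁻¹) (v := b) (e := e) (by rw [he]; group) (hec _) (hec _)
  have hep : e ^ p = 1 := by
    have h1 : b * (a⁻¹) ^ p * b⁻¹ = (a⁻¹) ^ p := by
      rw [inv_pow, ((hz b).inv_right).eq, mul_inv_cancel_right]
    have h2 : b * a⁻¹ * b⁻¹ = e * a⁻¹ := by rw [he]; group
    rw [← conj_pow, h2, (hec a⁻¹).mul_pow] at h1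
    exact mul_eq_right.1 h1
  rw [hmp p, CfsgLib.PGroup3.pow_eq_one_of_dvd hep (CfsgLib.PGroup3.choose_dvd two_ne_zero (by omega)), mul_one, inv_pow, hab]
  exact inv_mul_cancel _

/-- In these groups every product of `p`-th powers is a `p`-th power. -/
theorem exists_pow_of_mem (hp3 : 3 < p) (hR : IsPGroup p R)
    (hO : Nat.card ↥(Subgroup.closure {x : R | x ^ p = 1}) ≤ p ^ 2)
    (h2 : p ^ 2 * Nat.card ↥(Subgroup.closure (Set.range fun x : R => x ^ p)) ≤ Nat.card R) {g : R}
    (hg : g ∈ Subgroup.closure (Set.range fun x : R => x ^ p)) : ∃ x, x ^ p = g := by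
  classical
  haveI := Fintype.ofFinite R
  set T := Subgroup.closure (Set.range fun x : R => x ^ p) with hT
  by_contra hne
  push_neg at hne
  have hsub : Finset.univ.image (fun x : R => x ^ p) ⊆ (Finset.univ.filter (fun t => t ∈ T)).erase g := by
    intro t ht
    obtain ⟨x, -, rfl⟩ := Finset.mem_image.1 ht
    exact Finset.mem_erase.2 ⟨hne x, Finset.mem_filter.2 ⟨Finset.mem_univ _, Subgroup.subset_closure ⟨x, rfl⟩⟩⟩
  have hfib : ∀ t ∈ Finset.univ.image (fun x : R => x ^ p),
      (Finset.univ.filter (fun x : R => x ^ p = t)).card ≤ p ^ 2 := by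
    intro t ht
    obtain ⟨x, -, rfl⟩ := Finset.mem_image.1 ht
    refine le_trans ?_ hO
    rw [Nat.card_eq_fintype_card, Fintype.card_subtype]
    refine Finset.card_le_card_of_injOn (fun y => x⁻¹ * y) ?_ (fun a _ b _ h => mul_left_cancel h)
    intro y hy
    have hy' : y ^ p = x ^ p := (Finset.mem_filter.1 hy).2
    exact Finset.mem_filter.2 ⟨Finset.mem_univ _, Subgroup.subset_closure (inv_mul_pow_of_pow_eq hp3 hR hO hy'.symm)⟩
  have hle := Finset.card_le_mul_card_image (s := (Finset.univ : Finset R)) (p ^ 2) hfib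
  have h3 := Finset.card_le_card hsub
  rw [Finset.card_erase_of_mem (Finset.mem_filter.2 ⟨Finset.mem_univ _, hg⟩), ← Fintype.card_subtype, ← Nat.card_eq_fintype_card] at h3
  rw [Finset.card_univ, ← Nat.card_eq_fintype_card] at hle
  have hpos : 0 < Nat.card T := Nat.card_pos
  have : p ^ 2 * Nat.card T ≤ p ^ 2 * (Nat.card T - 1) := h2.trans (hle.trans (Nat.mul_le_mul_left _ h3))
  have := Nat.le_of_mul_le_mul_left this (pow_pos (Fact.out : p.Prime).pos 2)
  omega

end CfsgLib.PGroupOmega
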