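import Mathlib
import Cfsg.Prelude.Def_OddOrderLocal
import Cfsg.Agent.Lib.Basic
import Cfsg.Agent.Lib.PGroup.CyclicMax
import Cfsg.Agent.Lib.PGroup.RankTwoOmega
import Cfsg.Agent.Lib.OddLocal.RankTwoDerived

/-!
Coprime automorphism groups of metacyclic `p`-groups, `p` odd.
-/

set_option autoImplicit false
set_option linter.unusedSectionVars false

namespace CfsgLib.MetaAction

open scoped commutatorElement

universe u

section Comm

variable {R : Type u} [Group R] {z : R}

theorem comm_mul_left (hz : ∀ g : R, Commute z g) (hcomm : ∀ a b : R, ⁅a, b⁆ ∈ Subgroup.zpowers z) (a b c : R) :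
    ⁅a * b, c⁆ = ⁅a, c⁆ * ⁅b, c⁆ := by
  obtain ⟨k, hk⟩ := Subgroup.mem_zpowers_iff.1 (hcomm b c)
  obtain ⟨m, hm⟩ := Subgroup.mem_zpowers_iff.1 (hcomm a c)
  rw [show ⁅a * b, c⁆ = a * ⁅b, c⁆ * a⁻¹ * ⁅a, c⁆ by simp only [commutatorElement_def]; group, ← hk, ← hm,
    ← ((hz a).zpow_left k).eq, mul_inv_cancel_right]
  exact ((Commute.refl z).zpow_zpow k m).eq

theorem comm_zpow_left (hz : ∀ g : R, Commute z g) (hcomm : ∀ a b : R, ⁅a, b⁆ ∈ Subgroup.zpowers z) (a c : R)
    (k : ℤ) : ⁅a ^ k, c⁆ = ⁅a, c⁆ ^ k :=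
  map_zpow (MonoidHom.mk' (fun g => ⁅g, c⁆) (fun x y => comm_mul_left hz hcomm x y c)) a k

theorem comm_mul_right (hz : ∀ g : R, Commute z g) (hcomm : ∀ a b : R, ⁅a, b⁆ ∈ Subgroup.zpowers z) (a b c : R) :
    ⁅a, b * c⁆ = ⁅a, b⁆ * ⁅a, c⁆ := by
  rw [← commutatorElement_inv (b * c) a, comm_mul_left hz hcomm, mul_inv_rev, commutatorElement_inv,
    commutatorElement_inv]
  obtain ⟨k, hk⟩ := Subgroup.mem_zpowers_iff.1 (hcomm a b)
  obtain ⟨m, hm⟩ := Subgroup.mem_zpowers_iff.1 (hcomm a c)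
  rw [← hk, ← hm]
  exact ((Commute.refl z).zpow_zpow m k).eq

theorem comm_zpow_right (hz : ∀ g : R, Commute z g) (hcomm : ∀ a b : R, ⁅a, b⁆ ∈ Subgroup.zpowers z) (a c : R)
    (k : ℤ) : ⁅a, c ^ k⁆ = ⁅a, c⁆ ^ k :=
  map_zpow (MonoidHom.mk' (fun g => ⁅a, g⁆) (fun x y => comm_mul_right hz hcomm a x y)) c k

end Comm

section Main

variable {R : Type u} [Group R] [Finite R] {p : ℕ} [Fact p.Prime]

theorem le_frattini (hR : IsPGroup p R) {S : Subgroup R} (hS : ∀ M : Subgroup R, IsCoatom M → S ≤ M) :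
    S ≤ frattini R := by
  refine le_iInf fun M => le_iInf fun hM => ?_
  exact hS M hM

theorem pow_mem_coatom (hR : IsPGroup p R) {M : Subgroup R} (hM : IsCoatom M) (r : R) : r ^ p ∈ M := by
  haveI : Group.IsNilpotent R := hR.isNilpotent
  have hall : ∀ H : Subgroup R, IsCoatom H → H.Normal :=
    ((Group.isNilpotent_of_finite_tfae (G := R)).out 0 2).mp hR.isNilpotent
  haveI hn : M.Normal := hall M hM
  by_contra hne
  have htop : M ⊔ Subgroup.zpowers (r ^ p) = ⊤ := hM.2 _ (lt_of_le_of_ne le_sup_left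
    (fun h => hne (h.ge (Subgroup.mem_sup_right (Subgroup.mem_zpowers _)))))
  obtain ⟨m, hm, c, hc, hmc⟩ := Subgroup.mem_sup_of_normal_left.1 (htop.ge (Subgroup.mem_top r))
  obtain ⟨k, hk⟩ := Subgroup.mem_zpowers_iff.1 hc
  have h1 : r ^ ((1 : ℤ) - p * k) ∈ M := by
    rw [zpow_sub, zpow_one, zpow_mul, zpow_natCast, hk, ← hmc, mul_inv_cancel_right]
    exact hm
  obtain ⟨e, he⟩ := hR r
  have hcop : Int.gcd ((1 : ℤ) - p * k) ((p ^ e : ℕ) : ℤ) = 1 := by
    rw [← Int.isCoprime_iff_gcd_eq_one]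
    push_cast
    refine IsCoprime.pow_right ⟨1, k, ?_⟩
    ring
  have h2 : r ^ (Int.gcd ((1 : ℤ) - p * k) ((p ^ e : ℕ) : ℤ) : ℤ) ∈ M := by
    rw [Int.gcd_eq_gcd_ab, zpow_add, zpow_mul, zpow_mul]
    exact mul_mem (zpow_mem h1 _) (by rw [zpow_natCast, he, one_zpow]; exact one_mem M)
  rw [hcop, Nat.cast_one, zpow_one] at h2
  exact hne (pow_mem h2 p)

theorem scalar_of_card (hp : p.Prime) {M : Subgroup R} [M.Normal] (hi : M.index = p) {w : R} (hw : w ∉ M) (r : R) :
    ∃ j : ℤ, ∃ m ∈ M, r = w ^ j * m := by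
  have hcard : Nat.card (R ⧸ M) = p := by rw [← Subgroup.index_eq_card, hi]
  haveI : Fact p.Prime := ⟨hp⟩
  have h : (QuotientGroup.mk r : R ⧸ M) ∈ Subgroup.zpowers (QuotientGroup.mk w : R ⧸ M) :=
    mem_zpowers_of_prime_card hcard (fun h => hw ((QuotientGroup.eq_one_iff w).1 h))
  obtain ⟨j, hj⟩ := Subgroup.mem_zpowers_iff.1 h
  rw [← QuotientGroup.mk_zpow, QuotientGroup.eq] at hj
  exact ⟨j, _, hj, by group⟩

theorem unit_zpow {w : R} (hw1 : w ≠ 1) (hwp : w ^ p = 1) {k : ℤ} (h : w ^ k = 1) : (p : ℤ) ∣ k := by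
  have hord := orderOf_eq_prime hwp hw1
  exact hord ▸ orderOf_dvd_iff_zpow_eq_one.2 h

variable {A : Type*} [Group A] [Finite A]

theorem fixed_trivial (hR : IsPGroup p R) (φ : A →* MulAut R) (hcop : (Nat.card A).Coprime p)
    (hgen : ∀ H : Subgroup R, (∀ a r, r⁻¹ * φ a r ∈ H) → H = ⊤)
    {N : Subgroup R} [N.Normal] (hN : ∀ r s : R, ⁅r, s⁆ ∈ N)
    {u : R} (hu : ∀ a, u⁻¹ * φ a u ∈ N) : u ∈ N := by
  classical
  haveI := Fintype.ofFinite A
  have hc : ∀ x y : R ⧸ N, x * y = y * x := by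
    intro x y
    induction x using QuotientGroup.induction_on with
    | H r =>
      induction y using QuotientGroup.induction_on with
      | H s =>
        rw [← QuotientGroup.mk_mul, ← QuotientGroup.mk_mul, QuotientGroup.eq]
        have h : (r * s)⁻¹ * (s * r) = ⁅s⁻¹, r⁻¹⁆ := by rw [commutatorElement_def]; group
        rw [h]
        exact hN _ _
  letI : CommGroup (R ⧸ N) := { mul_comm := hc }
  let F : R →* R ⧸ N :=
    { toFun := fun r => ∏ a : A, ((φ a r : R) : R ⧸ N)
      map_one' := by simp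
      map_mul' := fun r s => by simp [Finset.prod_mul_distrib] }
  have htop : F.ker = ⊤ := hgen F.ker (fun a r => by
    rw [MonoidHom.mem_ker, map_mul, map_inv, inv_mul_eq_one]
    show ∏ b : A, ((φ b r : R) : R ⧸ N) = ∏ b : A, ((φ b (φ a r) : R) : R ⧸ N)
    refine (Fintype.prod_equiv (Equiv.mulRight a) _ _ fun b => ?_).symm
    show ((φ b (φ a r) : R) : R ⧸ N) = ((φ (b * a) r : R) : R ⧸ N)
    rw [map_mul, MulAut.mul_apply])
  have h1 : F u = 1 := htop.ge (Subgroup.mem_top u)
  have h2 : F u = (u : R ⧸ N) ^ Nat.card A := by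
    show ∏ b : A, ((φ b u : R) : R ⧸ N) = _
    rw [Nat.card_eq_fintype_card, ← Finset.card_univ]
    refine Finset.prod_eq_pow_card fun b _ => ?_
    exact (QuotientGroup.eq.2 (hu b)).symm
  rw [h2] at h1
  rw [← QuotientGroup.eq_one_iff]
  obtain ⟨e, he⟩ := (hR.to_quotient N) (u : R ⧸ N)
  exact orderOf_eq_one_iff.1 (Nat.eq_one_of_dvd_coprimes (hcop.pow_right e)
    (orderOf_dvd_of_pow_eq_one h1) (orderOf_dvd_of_pow_eq_one he))

/-- The case of a derived group of order `p`. -/
theorem order_p_case (hp : p ≠ 2) (hR : IsPGroup p R) (φ : A →* MulAut R) (hcop : (Nat.card A).Coprime p)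
    (hgen : ∀ H : Subgroup R, (∀ a r, r⁻¹ * φ a r ∈ H) → H = ⊤)
    {z : R} (hz1 : z ≠ 1) (hzp : z ^ p = 1) (hz : ∀ g : R, Commute z g)
    (hcomm : ∀ a b : R, ⁅a, b⁆ ∈ Subgroup.zpowers z) (hnab : ∃ a b : R, ⁅a, b⁆ ≠ 1)
    {x y : R} (hxy : Subgroup.closure ({x, y} : Set R) = ⊤) (hzx : ∃ r : R, z = r ^ p) : False := by
  classical
  have hpp := (Fact.out : p.Prime)
  have hcle : commutator R ≤ Subgroup.zpowers z := by
    rw [commutator_def, Subgroup.commutator_le]
    exact fun a _ b _ => hcomm a b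
  have hc : commutator R ≤ Subgroup.center R := hcle.trans (Subgroup.zpowers_le.2
    (Subgroup.mem_center_iff.2 fun g => (hz g).eq.symm))
  have he : ∀ c ∈ commutator R, c ^ p = 1 := by
    intro c hc'
    obtain ⟨k, rfl⟩ := Subgroup.mem_zpowers_iff.1 (hcle hc')
    rw [← zpow_natCast, ← zpow_mul, mul_comm, zpow_mul, zpow_natCast, hzp, one_zpow]
  let f1 : R →* R := MonoidHom.mk' (fun r => r ^ p) (CfsgLib.CyclicMax.mul_pow_of_central_commutators hp hc he)
  have hpowhom : ∀ i : ℕ, ∃ f : R →* R, ∀ r, f r = r ^ p ^ i := by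
    intro i
    induction i with
    | zero => exact ⟨MonoidHom.id R, fun r => by simp⟩
    | succ i ih =>
      obtain ⟨f, hf⟩ := ih
      exact ⟨f1.comp f, fun r => by
        show (f r) ^ p = _
        rw [hf, ← pow_mul, ← pow_succ]⟩
  choose f hf using hpowhom
  set P1 := (f 1).range with hP1
  have hP1mem : ∀ r : R, r ^ p ∈ P1 := fun r => ⟨r, by rw [hf, pow_one]⟩
  have hzP : z ∈ P1 := by obtain ⟨r, hr⟩ := hzx; exact hr ▸ hP1mem r
  have hcommP : ∀ r s : R, ⁅r, s⁆ ∈ P1 := fun r s => Subgroup.zpowers_le.2 hzP (hcomm r s)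
  haveI hP1n : P1.Normal := ⟨fun r hr g => by
    have h : g * r * g⁻¹ = ⁅g, r⁆ * r := by rw [commutatorElement_def]; group
    rw [h]
    exact mul_mem (hcommP g r) hr⟩
  have hP1φ : ∀ a, ∀ r ∈ P1, φ a r ∈ P1 := by
    rintro a _ ⟨r, rfl⟩
    exact ⟨φ a r, by rw [hf, hf, map_pow]⟩
  have hP1F : P1 ≤ frattini R := le_frattini hR (by
    rintro M hM _ ⟨r, rfl⟩
    rw [hf, pow_one]
    exact pow_mem_coatom hR hM r)
  have hgentop : ∀ S : Subgroup R, S ⊔ P1 = ⊤ → S = ⊤ := fun S h =>
    frattini_nongenerating (eq_top_iff.2 (h.ge.trans (sup_le_sup_left hP1F S)))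
  have hgen2 : ∀ g h : R, Subgroup.closure ({g, h} : Set R) ⊔ P1 = ⊤ → ⁅g, h⁆ ≠ 1 := by
    intro g h htop hgh
    have h1 := hgentop _ htop
    have hgens : ∀ a ∈ ({g, h} : Set R), ∀ b ∈ ({g, h} : Set R), a * b = b * a := by
      simp only [Set.mem_insert_iff, Set.mem_singleton_iff]
      rintro a (ha | ha) b (hb | hb) <;> rw [ha, hb] <;>
        first
        | exact commutatorElement_eq_one_iff_mul_comm.1 hgh
        | exact (commutatorElement_eq_one_iff_mul_comm.1 hgh).symm
    haveI := Subgroup.isMulCommutative_closure hgens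
    obtain ⟨a, b, hab⟩ := hnab
    refine hab (commutatorElement_eq_one_iff_mul_comm.2 ?_)
    exact congrArg Subtype.val (mul_comm' (⟨a, h1.ge (Subgroup.mem_top a)⟩ : Subgroup.closure ({g, h} : Set R))
      ⟨b, h1.ge (Subgroup.mem_top b)⟩)
  -- the quotient by `P1` has order at most `p ^ 2`
  have hQ : P1.index ≤ p ^ 2 := by
    rw [Subgroup.index_eq_card]
    set mk := QuotientGroup.mk' P1
    have htop : Subgroup.zpowers (mk x) ⊔ Subgroup.zpowers (mk y) = ⊤ := by
      have h := congrArg (Subgroup.map mk) hxy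
      rw [MonoidHom.map_closure, Set.image_insert_eq, Set.image_singleton,
        Subgroup.map_top_of_surjective mk (QuotientGroup.mk'_surjective P1), Set.insert_eq, Subgroup.closure_union,
        ← Subgroup.zpowers_eq_closure, ← Subgroup.zpowers_eq_closure] at h
      exact h
    haveI : (Subgroup.zpowers (mk y)).Normal := ⟨fun n hn g => by
      induction g using QuotientGroup.induction_on with
      | H g0 =>
        induction n using QuotientGroup.induction_on with
        | H n0 =>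
          have : ((g0 : R ⧸ P1) * (n0 : R ⧸ P1) * (g0 : R ⧸ P1)⁻¹) = (n0 : R ⧸ P1) := by
            rw [← QuotientGroup.mk_mul, ← QuotientGroup.mk_inv, ← QuotientGroup.mk_mul, QuotientGroup.eq]
            have h : (g0 * n0 * g0⁻¹)⁻¹ * n0 = ⁅g0, n0⁻¹⁆ := by rw [commutatorElement_def]; group
            rw [h]
            exact hcommP _ _
          rw [this]; exact hn⟩
    have hord : ∀ r : R, Nat.card ↥(Subgroup.zpowers (mk r)) ≤ p := fun r => by
      rw [Nat.card_zpowers]
      refine Nat.le_of_dvd hpp.pos (orderOf_dvd_of_pow_eq_one ?_)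
      rw [← map_pow]
      exact (QuotientGroup.eq_one_iff _).2 (hP1mem r)
    have h := Nat.le_of_dvd (Nat.mul_pos Nat.card_pos Nat.card_pos)
      (CfsgLib.card_sup_dvd_mul (Subgroup.zpowers (mk x)) (Subgroup.zpowers (mk y)))
    rw [htop, Subgroup.card_top] at h
    exact h.trans (by rw [pow_two]; exact Nat.mul_le_mul (hord x) (hord y))
  -- the largest power with `z` among the `p ^ i`-th powers
  obtain ⟨i, hi1, t, hti, hmax⟩ : ∃ i : ℕ, 1 ≤ i ∧ ∃ t : R, z = t ^ p ^ i ∧ ∀ r : R, z ≠ r ^ p ^ (i + 1) := by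
    obtain ⟨e, he'⟩ := IsPGroup.iff_card.1 hR
    have hex : ∃ j : ℕ, ¬ ∃ r : R, z = r ^ p ^ (j + 2) := ⟨e, fun ⟨r, hr⟩ => hz1 (by
      rw [hr, pow_add, pow_mul, ← he', pow_card_eq_one', one_pow])⟩
    refine ⟨Nat.find hex + 1, by omega, ?_⟩
    have h1 : ∃ r : R, z = r ^ p ^ (Nat.find hex + 1) := by
      rcases h : Nat.find hex with _ | j
      · rw [zero_add, pow_one]; exact hzx
      · have := Nat.find_min hex (show j < Nat.find hex by omega)
        exact not_not.1 this
    obtain ⟨t, ht⟩ := h1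
    exact ⟨t, ht, fun r hr => Nat.find_spec hex ⟨r, hr⟩⟩
  set M0 := ((f (i + 1)).range).comap (f i) with hM0
  have htM0 : t ∉ M0 := fun ⟨r, hr⟩ => hmax r (by rw [hti, ← hf i, ← hr, hf])
  have hP1M0 : P1 ≤ M0 := by
    rintro _ ⟨r, rfl⟩
    exact ⟨r, by rw [hf, hf, hf, ← pow_mul, pow_one, ← pow_succ']⟩
  have hzK : ∀ k : ℤ, z ^ k ∈ (f (i + 1)).range → (p : ℤ) ∣ k := by
    intro k hk
    by_contra hnd
    have hco : Int.gcd k (p : ℤ) = 1 := by
      rw [← Int.isCoprime_iff_gcd_eq_one]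
      exact ((Nat.prime_iff_prime_int.1 hpp).coprime_iff_not_dvd.2 hnd).symm
    have h2 : z ^ (Int.gcd k (p : ℤ) : ℤ) ∈ (f (i + 1)).range := by
      rw [Int.gcd_eq_gcd_ab, zpow_add, zpow_mul, zpow_mul]
      exact mul_mem (zpow_mem hk _) (by rw [zpow_natCast, hzp, one_zpow]; exact one_mem _)
    rw [hco, Nat.cast_one, zpow_one] at h2
    obtain ⟨r, hr⟩ := h2
    exact hmax r (by rw [← hr, hf])
  have hzφ : ∀ a, φ a z ∈ Subgroup.zpowers z := by
    intro a
    obtain ⟨g, h, hgh⟩ := hnab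
    obtain ⟨k, hk⟩ := Subgroup.mem_zpowers_iff.1 (hcomm g h)
    have hk0 : ¬ (p : ℤ) ∣ k := by
      rintro ⟨c, rfl⟩
      exact hgh (by rw [← hk, zpow_mul, zpow_natCast, hzp, one_zpow])
    have hco : Int.gcd k (p : ℤ) = 1 := by
      rw [← Int.isCoprime_iff_gcd_eq_one]
      exact ((Nat.prime_iff_prime_int.1 hpp).coprime_iff_not_dvd.2 hk0).symm
    have h1 : z = ⁅g, h⁆ ^ Int.gcdA k (p : ℤ) := by
      have h2 : z ^ (Int.gcd k (p : ℤ) : ℤ) = ⁅g, h⁆ ^ Int.gcdA k (p : ℤ) := by
        rw [Int.gcd_eq_gcd_ab, zpow_add, zpow_mul, zpow_mul, hk, zpow_natCast, hzp, one_zpow, mul_one]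
      rwa [hco, Nat.cast_one, zpow_one] at h2
    rw [h1, map_zpow, map_commutatorElement, ← h1]
    exact zpow_mem (hcomm _ _) _
  choose lam hlam using fun a => Subgroup.mem_zpowers_iff.1 (hzφ a)
  have hcen : ∀ g : R, ∀ m ∈ P1, ⁅m, g⁆ = 1 ∧ ⁅g, m⁆ = 1 := by
    rintro g _ ⟨r, rfl⟩
    have h : ⁅f 1 r, g⁆ = 1 := by
      rw [hf, pow_one, ← zpow_natCast, comm_zpow_left hz hcomm, zpow_natCast]
      exact he _ (Subgroup.commutator_mem_commutator (Subgroup.mem_top r) (Subgroup.mem_top g))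
    exact ⟨h, by rw [← commutatorElement_inv, h, inv_one]⟩
  by_cases hM : M0 = P1
  · -- the line through `t` is invariant
    set M := Subgroup.zpowers t ⊔ P1 with hMdef
    haveI hMn : M.Normal := ⟨fun r hr g => by
      have h : g * r * g⁻¹ = ⁅g, r⁆ * r := by rw [commutatorElement_def]; group
      rw [h]
      exact mul_mem (Subgroup.mem_sup_right (hcommP g r)) hr⟩
    have htφ : ∀ a, ∃ m ∈ P1, φ a t = t ^ lam a * m := by
      intro a
      refine ⟨(t ^ lam a)⁻¹ * φ a t, hM.le ?_, by group⟩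
      refine ⟨1, ?_⟩
      rw [map_one, map_mul, map_inv, map_zpow, hf, hf, ← hti, ← map_pow, ← hti, ← hlam, inv_mul_cancel]
    have hMi : M.index = p := by
      have h1 : M ≠ ⊤ := by
        intro h
        refine hgen2 t t ?_ (commutatorElement_self t)
        rw [Set.pair_eq_singleton, ← Subgroup.zpowers_eq_closure]
        exact h
      have h2 : M.index * P1.relIndex M = P1.index := by
        rw [mul_comm]; exact Subgroup.relIndex_mul_index le_sup_right
      have h3 : p ≤ P1.relIndex M := by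
        obtain ⟨e, he'⟩ := IsPGroup.iff_card.1 ((hR.to_subgroup M).to_quotient (P1.subgroupOf M))
        rw [Subgroup.relIndex, Subgroup.index_eq_card, he']
        rcases e with _ | e
        · exfalso
          rw [pow_zero, ← Subgroup.index_eq_card, Subgroup.index_eq_one, Subgroup.subgroupOf_eq_top] at he'
          exact htM0 (hP1M0 (he' (Subgroup.mem_sup_left (Subgroup.mem_zpowers t))))
        · exact Nat.le_self_pow e.succ_ne_zero p
      obtain ⟨e, he'⟩ := IsPGroup.iff_card.1 (hR.to_quotient M)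
      rw [← Subgroup.index_eq_card] at he'
      rcases e with _ | e
      · exact absurd (Subgroup.index_eq_one.1 (by rw [he', pow_zero])) h1
      have h4 : M.index * p ≤ p * p := by
        calc M.index * p ≤ M.index * P1.relIndex M := Nat.mul_le_mul_left _ h3
          _ = P1.index := h2
          _ ≤ p * p := by rw [← pow_two]; exact hQ
      refine le_antisymm (Nat.le_of_mul_le_mul_right h4 hpp.pos) ?_
      rw [he']
      exact Nat.le_self_pow e.succ_ne_zero p
    obtain ⟨w, hw⟩ : ∃ w, w ∉ M := by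
      by_contra h
      push_neg at h
      rw [(eq_top_iff.2 fun r _ => h r : M = ⊤), Subgroup.index_top] at hMi
      exact hpp.one_lt.ne hMi
    have hMmem : ∀ m ∈ M, ∃ k : ℤ, ∃ g ∈ P1, m = t ^ k * g := by
      intro m hm
      obtain ⟨c, hc', g, hg, rfl⟩ := Subgroup.mem_sup_of_normal_right.1 hm
      obtain ⟨k, rfl⟩ := Subgroup.mem_zpowers_iff.1 hc'
      exact ⟨k, g, hg, rfl⟩
    have htw : ⁅t, w⁆ ≠ 1 := by
      refine hgen2 t w (eq_top_iff.2 fun r _ => ?_)
      obtain ⟨j, m, hm, rfl⟩ := scalar_of_card hpp hMi hw r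
      obtain ⟨k, g, hg, rfl⟩ := hMmem m hm
      refine mul_mem (Subgroup.mem_sup_left (zpow_mem (Subgroup.subset_closure (by simp)) j))
        (mul_mem (Subgroup.mem_sup_left (zpow_mem (Subgroup.subset_closure (by simp)) k)) (Subgroup.mem_sup_right hg))
    have hgenM : M = ⊤ := by
      refine hgen M fun a r => ?_
      obtain ⟨g, hg, hta⟩ := htφ a
      obtain ⟨j, m, hm, hwa⟩ := scalar_of_card hpp hMi hw (φ a w)
      obtain ⟨k, g', hg', hmk⟩ := hMmem m hm
      obtain ⟨d, hd⟩ := Subgroup.mem_zpowers_iff.1 (hcomm t w)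
      have hap : φ a ⁅t, w⁆ = ⁅t, w⁆ ^ (lam a * j) := by
        rw [map_commutatorElement, hta, hwa, hmk, comm_mul_left hz hcomm, (hcen _ _ hg).1, mul_one,
          comm_zpow_left hz hcomm, comm_mul_right hz hcomm, comm_mul_right hz hcomm, (hcen _ _ hg').2, mul_one,
          comm_zpow_right hz hcomm t t, commutatorElement_self, one_zpow, mul_one, comm_zpow_right hz hcomm,
          ← zpow_mul, mul_comm j]
      have hap2 : φ a ⁅t, w⁆ = ⁅t, w⁆ ^ lam a := by
        rw [← hd, map_zpow, ← hlam, ← zpow_mul, ← zpow_mul, mul_comm]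
      have hcp : ⁅t, w⁆ ^ p = 1 := he _ (Subgroup.commutator_mem_commutator (Subgroup.mem_top t) (Subgroup.mem_top w))
      have hdiv : (p : ℤ) ∣ lam a * (j - 1) := by
        refine unit_zpow htw hcp ?_
        rw [mul_sub, mul_one, zpow_sub, ← hap, ← hap2, mul_inv_cancel]
      have hlam0 : ¬ (p : ℤ) ∣ lam a := by
        rintro ⟨c, hc'⟩
        have h1 := hlam a
        rw [hc', zpow_mul, zpow_natCast, hzp, one_zpow] at h1
        exact hz1 ((φ a).injective (by rw [← h1, map_one]))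
      have hj : (p : ℤ) ∣ j - 1 := ((Nat.prime_iff_prime_int.1 hpp).dvd_or_dvd hdiv).resolve_left hlam0
      obtain ⟨j', m', hm', hr⟩ := scalar_of_card hpp hMi hw r
      have hmφ : φ a m' ∈ M := by
        obtain ⟨k', g'', hg'', rfl⟩ := hMmem m' hm'
        rw [map_mul, map_zpow, hta]
        exact mul_mem (zpow_mem (mul_mem (Subgroup.mem_sup_left (zpow_mem (Subgroup.mem_zpowers t) _))
          (Subgroup.mem_sup_right hg)) _) (Subgroup.mem_sup_right (hP1φ a _ hg''))
      have hwp : w ^ (j - 1) * m ∈ M := by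
        refine mul_mem ?_ hm
        obtain ⟨c, hc'⟩ := hj
        rw [hc', zpow_mul, zpow_natCast]
        exact Subgroup.mem_sup_right (zpow_mem (hP1mem w) c)
      have hw1 : w⁻¹ * φ a w ∈ M := by
        rw [hwa, ← mul_assoc, ← zpow_neg_one, ← zpow_add, show (-1 : ℤ) + j = j - 1 by ring]
        exact hwp
      rw [← QuotientGroup.eq, hr, QuotientGroup.mk_mul, map_mul, QuotientGroup.mk_mul, map_zpow,
        QuotientGroup.mk_zpow, QuotientGroup.mk_zpow, QuotientGroup.eq.2 hw1,
        (QuotientGroup.eq_one_iff m').2 hm', (QuotientGroup.eq_one_iff _).2 hmφ]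
    rw [hgenM, Subgroup.index_top] at hMi
    exact hpp.one_lt.ne hMi
  · -- `M0` is invariant of index `p`
    haveI hM0n : M0.Normal := ⟨fun r hr g => by
      have h : g * r * g⁻¹ = ⁅g, r⁆ * r := by rw [commutatorElement_def]; group
      rw [h]
      exact mul_mem (hP1M0 (hcommP g r)) hr⟩
    have hM0φ : ∀ a, ∀ r ∈ M0, φ a r ∈ M0 := by
      rintro a r ⟨s, hs⟩
      exact ⟨φ a s, by rw [hf, hf, ← map_pow, ← map_pow, ← hf, hs, hf]⟩
    obtain ⟨u, hu, huP⟩ := SetLike.exists_of_lt (lt_of_le_of_ne hP1M0 (Ne.symm hM))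
    have hrel : p ≤ P1.relIndex M0 := by
      obtain ⟨e, he'⟩ := IsPGroup.iff_card.1 ((hR.to_subgroup M0).to_quotient (P1.subgroupOf M0))
      rw [Subgroup.relIndex, Subgroup.index_eq_card, he']
      rcases e with _ | e
      · exfalso
        rw [pow_zero, ← Subgroup.index_eq_card, Subgroup.index_eq_one, Subgroup.subgroupOf_eq_top] at he'
        exact huP (he' hu)
      · exact Nat.le_self_pow e.succ_ne_zero p
    have hM0i : M0.index = p ∧ P1.relIndex M0 = p := by
      have h1 : M0 ≠ ⊤ := fun h => htM0 (h.ge (Subgroup.mem_top t))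
      have h2 : P1.relIndex M0 * M0.index = P1.index := Subgroup.relIndex_mul_index hP1M0
      obtain ⟨e, he'⟩ := IsPGroup.iff_card.1 (hR.to_quotient M0)
      rw [← Subgroup.index_eq_card] at he'
      rcases e with _ | e
      · exact absurd (Subgroup.index_eq_one.1 (by rw [he', pow_zero])) h1
      have h5 : p ≤ M0.index := by rw [he']; exact Nat.le_self_pow e.succ_ne_zero p
      have h6 : P1.relIndex M0 * M0.index ≤ p * p := by rw [h2, ← pow_two]; exact hQ
      constructor
      · refine le_antisymm (Nat.le_of_mul_le_mul_left ?_ hpp.pos) h5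
        exact (Nat.mul_le_mul_right _ hrel).trans h6
      · refine le_antisymm (Nat.le_of_mul_le_mul_right ?_ hpp.pos) hrel
        exact (Nat.mul_le_mul_left _ h5).trans h6
    haveI : (P1.subgroupOf M0).Normal := inferInstance
    have hUmem : ∀ m ∈ M0, ∃ k : ℤ, ∃ g ∈ P1, m = u ^ k * g := by
      intro m hm
      obtain ⟨k, g, hg, hk⟩ := scalar_of_card hpp (M := P1.subgroupOf M0) hM0i.2
        (w := (⟨u, hu⟩ : M0)) huP ⟨m, hm⟩
      exact ⟨k, (g : R), hg, congrArg Subtype.val hk⟩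
    have hut : ⁅u, t⁆ ≠ 1 := by
      refine hgen2 u t (eq_top_iff.2 fun r _ => ?_)
      obtain ⟨j, m, hm, rfl⟩ := scalar_of_card hpp hM0i.1 htM0 r
      obtain ⟨k, g, hg, rfl⟩ := hUmem m hm
      exact mul_mem (Subgroup.mem_sup_left (zpow_mem (Subgroup.subset_closure (by simp)) j))
        (mul_mem (Subgroup.mem_sup_left (zpow_mem (Subgroup.subset_closure (by simp)) k)) (Subgroup.mem_sup_right hg))
    refine huP (fixed_trivial hR φ hcop hgen hcommP fun a => ?_)
    obtain ⟨k, g, hg, hua⟩ := hUmem _ (hM0φ a u hu)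
    obtain ⟨j, m, hm, hta⟩ := scalar_of_card hpp hM0i.1 htM0 (φ a t)
    obtain ⟨k', g', hg', hmk⟩ := hUmem m hm
    have hj : (p : ℤ) ∣ lam a - j := by
      refine hzK _ ?_
      obtain ⟨s, hs⟩ := hm
      refine ⟨s, ?_⟩
      have h1 : f i (φ a t) = z ^ lam a := by rw [hf, ← map_pow, ← hti, hlam]
      rw [hta, map_mul, map_zpow, hf i t, ← hti] at h1
      rw [hs, show lam a - j = -j + lam a by ring, zpow_add, zpow_neg, ← h1, inv_mul_cancel_left]
    obtain ⟨d, hd⟩ := Subgroup.mem_zpowers_iff.1 (hcomm u t)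
    have hap : φ a ⁅u, t⁆ = ⁅u, t⁆ ^ (k * j) := by
      rw [map_commutatorElement, hua, hta, hmk, comm_mul_left hz hcomm, (hcen _ _ hg).1, mul_one,
        comm_zpow_left hz hcomm, comm_mul_right hz hcomm, comm_mul_right hz hcomm, (hcen _ _ hg').2, mul_one,
        comm_zpow_right hz hcomm u u, commutatorElement_self, one_zpow, mul_one, comm_zpow_right hz hcomm,
        ← zpow_mul, mul_comm j]
    have hap2 : φ a ⁅u, t⁆ = ⁅u, t⁆ ^ lam a := by
      rw [← hd, map_zpow, ← hlam, ← zpow_mul, ← zpow_mul, mul_comm]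
    have hcp : ⁅u, t⁆ ^ p = 1 := he _ (Subgroup.commutator_mem_commutator (Subgroup.mem_top u) (Subgroup.mem_top t))
    have hdiv : (p : ℤ) ∣ k * j - lam a := by
      refine unit_zpow hut hcp ?_
      rw [zpow_sub, ← hap, ← hap2, mul_inv_cancel]
    have hlam0 : ¬ (p : ℤ) ∣ lam a := by
      rintro ⟨c, hc'⟩
      have h1 := hlam a
      rw [hc', zpow_mul, zpow_natCast, hzp, one_zpow] at h1
      exact hz1 ((φ a).injective (by rw [← h1, map_one]))
    have hk : (p : ℤ) ∣ k - 1 := by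
      have h3 : (p : ℤ) ∣ lam a * (k - 1) := by
        obtain ⟨c1, hc1⟩ := hdiv
        obtain ⟨c2, hc2⟩ := hj
        exact ⟨c1 + c2 * k, by linear_combination hc1 + k * hc2⟩
      exact ((Nat.prime_iff_prime_int.1 hpp).dvd_or_dvd h3).resolve_left hlam0
    rw [hua, ← mul_assoc, ← zpow_neg_one, ← zpow_add, show (-1 : ℤ) + k = k - 1 by ring]
    refine mul_mem ?_ hg
    obtain ⟨c, hc'⟩ := hk
    rw [hc', zpow_mul, zpow_natCast]
    exact zpow_mem (hP1mem u) c

/-- A metacyclic `p`-group moved completely by a coprime group is commutative. -/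
theorem commutative_of_generated (hp : p ≠ 2) (hR : IsPGroup p R) (hm : Cfsg.IsMetacyclic R) (φ : A →* MulAut R)
    (hcop : (Nat.card A).Coprime p) (hgen : ∀ H : Subgroup R, (∀ a r, r⁻¹ * φ a r ∈ H) → H = ⊤) :
    ∀ a b : R, a * b = b * a := by
  classical
  have hpp := (Fact.out : p.Prime)
  obtain ⟨N, hN, hNc, hNq⟩ := hm
  haveI := hN; haveI := hNc; haveI := hNq
  have hle : commutator R ≤ N := by
    letI := IsCyclic.commGroup (α := R ⧸ N)
    have h := Abelianization.commutator_subset_ker (QuotientGroup.mk' N)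
    rwa [QuotientGroup.ker_mk'] at h
  set D := commutator R with hD
  haveI : IsCyclic D := isCyclic_of_injective (Subgroup.inclusion hle) (Subgroup.inclusion_injective _)
  obtain ⟨g, hg⟩ := (inferInstance : IsCyclic D).exists_generator
  -- the derived group is central
  let ρ : R →* MulAut D := MulAut.conjNormal
  have hρ : ρ.ker = ⊤ := by
    refine hgen _ fun a r => ?_
    rw [MonoidHom.mem_ker, map_mul, map_inv, inv_mul_eq_one]
    set αD := CfsgLib.RankTwoDerived.restrictAut D (φ a) with hαD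
    have h1 : αD * ρ r = ρ (φ a r) * αD := MulEquiv.ext fun d => Subtype.ext (by
      simp only [MulAut.mul_apply]
      show φ a (ρ r d : R) = (ρ (φ a r) (αD d) : R)
      simp only [ρ, MulAut.conjNormal_apply, map_mul, map_inv]
      rfl)
    rw [CfsgLib.RankTwoDerived.aut_commute_of_cyclic hg αD (ρ r)] at h1
    exact mul_right_cancel h1
  have hcen : ∀ d ∈ D, ∀ r : R, Commute d r := by
    intro d hd r
    have h := congrArg (fun α : MulAut D => ((α ⟨d, hd⟩ : D) : R)) (MonoidHom.mem_ker.1 (hρ.ge (Subgroup.mem_top r)))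
    simp only [ρ, MulAut.conjNormal_apply, MulAut.one_apply] at h
    exact (mul_inv_eq_iff_eq_mul.1 h).symm
  by_contra hnc
  push_neg at hnc
  obtain ⟨a0, b0, hab⟩ := hnc
  have hc0 : (g : R) ≠ 1 := by
    intro h
    apply hab
    rw [← commutatorElement_eq_one_iff_mul_comm]
    obtain ⟨k, hk⟩ := Subgroup.mem_zpowers_iff.1 (hg ⟨⁅a0, b0⁆,
      Subgroup.commutator_mem_commutator (Subgroup.mem_top _) (Subgroup.mem_top _)⟩)
    have hk' : (g : R) ^ k = ⁅a0, b0⁆ := congrArg Subtype.val hk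
    rw [← hk', h, one_zpow]
  set K := Subgroup.zpowers ((g : R) ^ p) with hK
  haveI hKn : K.Normal := ⟨fun k hk r => by
    obtain ⟨j, rfl⟩ := Subgroup.mem_zpowers_iff.1 hk
    have h := ((hcen (g : R) g.2 r).pow_left p).zpow_left j
    rw [← h.eq, mul_inv_cancel_right]
    exact Subgroup.zpow_mem_zpowers _ _⟩
  have hgK : (g : R) ∉ K := by
    intro h
    obtain ⟨k, hk⟩ := Subgroup.mem_zpowers_iff.1 h
    obtain ⟨e, he⟩ := IsPGroup.iff_orderOf.1 hR (g : R)
    have h1 : (g : R) ^ ((p : ℤ) * k - 1) = 1 := by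
      rw [zpow_sub, zpow_one, zpow_mul, zpow_natCast, hk, mul_inv_cancel]
    have h2 : ((p ^ e : ℕ) : ℤ) ∣ (p : ℤ) * k - 1 := he ▸ orderOf_dvd_iff_zpow_eq_one.2 h1
    rcases e with _ | e
    · rw [pow_zero, orderOf_eq_one_iff] at he; exact hc0 he
    · have h3 : (p : ℤ) ∣ (p : ℤ) * k - 1 := (Dvd.intro_left ((p : ℤ) ^ e) (by push_cast; ring)).trans h2
      have h4 : (p : ℤ) ∣ 1 := by
        have := Int.dvd_sub (dvd_mul_right (p : ℤ) k) h3
        simpa using this
      exact hpp.one_lt.ne' (Nat.dvd_one.1 (by exact_mod_cast h4))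
  have hKφ : ∀ a, K.map (φ a : R →* R) = K := by
    have key : ∀ a, ∀ k ∈ K, φ a k ∈ K := by
      intro a k hk
      obtain ⟨j, rfl⟩ := Subgroup.mem_zpowers_iff.1 hk
      obtain ⟨m, hm'⟩ := Subgroup.mem_zpowers_iff.1 (hg ⟨φ a (g : R), CfsgLib.Small.apply_mem_of_char (φ a) g.2⟩)
      have hm2 : (g : R) ^ m = φ a (g : R) := congrArg Subtype.val hm'
      rw [map_zpow, map_pow, ← hm2, ← zpow_natCast, ← zpow_mul, ← zpow_mul,
        show m * ((p : ℤ) * j) = (p : ℤ) * (m * j) by ring, zpow_mul, zpow_natCast]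
      exact Subgroup.zpow_mem_zpowers _ _
    intro a
    ext k
    constructor
    · rintro ⟨w, hw, rfl⟩
      exact key a w hw
    · intro hk
      exact ⟨φ a⁻¹ k, key a⁻¹ k hk, by
        show φ a (φ a⁻¹ k) = k
        rw [← MulAut.mul_apply, ← map_mul, mul_inv_cancel, map_one]; rfl⟩
  let ψ : A →* MulAut (R ⧸ K) :=
    { toFun := fun a => QuotientGroup.congr K K (φ a) (hKφ a)
      map_one' := MulEquiv.ext fun x => by
        induction x using QuotientGroup.induction_on with
        | H r =>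
          show QuotientGroup.mk (φ 1 r) = _
          rw [map_one]; rfl
      map_mul' := fun a b => MulEquiv.ext fun x => by
        induction x using QuotientGroup.induction_on with
        | H r =>
          show QuotientGroup.mk (φ (a * b) r) = QuotientGroup.mk (φ a (φ b r))
          rw [map_mul]; rfl }
  have hψgen : ∀ H : Subgroup (R ⧸ K), (∀ a r, r⁻¹ * ψ a r ∈ H) → H = ⊤ := by
    intro H hH
    have h := hgen (H.comap (QuotientGroup.mk' K)) fun a r => by
      rw [Subgroup.mem_comap, map_mul, map_inv]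
      exact hH a (QuotientGroup.mk r)
    rw [eq_top_iff]
    intro x _
    induction x using QuotientGroup.induction_on with
    | H r => exact h.ge (Subgroup.mem_top r)
  obtain ⟨xg, hxg⟩ := hNc.exists_generator
  obtain ⟨yq, hyq⟩ := hNq.exists_generator
  obtain ⟨y, rfl⟩ := QuotientGroup.mk_surjective yq
  have hxy : Subgroup.closure ({(xg : R), y} : Set R) = ⊤ := by
    rw [eq_top_iff]
    intro r _
    obtain ⟨j, hj⟩ := Subgroup.mem_zpowers_iff.1 (hyq (QuotientGroup.mk r))
    rw [← QuotientGroup.mk_zpow, QuotientGroup.eq] at hj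
    obtain ⟨i, hi⟩ := Subgroup.mem_zpowers_iff.1 (hxg ⟨(y ^ j)⁻¹ * r, hj⟩)
    have hi' : (xg : R) ^ i = (y ^ j)⁻¹ * r := congrArg Subtype.val hi
    have : r = y ^ j * (xg : R) ^ i := by rw [hi']; group
    rw [this]
    exact mul_mem (zpow_mem (Subgroup.subset_closure (by simp)) j) (zpow_mem (Subgroup.subset_closure (by simp)) i)
  have hroot : ∃ r : R, (g : R) = r ^ p := by
    obtain ⟨s, hs⟩ := Subgroup.mem_zpowers_iff.1 (hxg ⟨(g : R), hle g.2⟩)
    have hs' : (xg : R) ^ s = (g : R) := congrArg Subtype.val hs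
    by_cases hps : (p : ℤ) ∣ s
    · obtain ⟨c, rfl⟩ := hps
      refine ⟨(xg : R) ^ c, ?_⟩
      rw [← hs', mul_comm, zpow_mul, zpow_natCast]
    · exfalso
      -- `x` lies in the derived group, so `R` is cyclic modulo its derived group
      obtain ⟨e, he⟩ := hR (xg : R)
      have hco : Int.gcd s ((p ^ e : ℕ) : ℤ) = 1 := by
        rw [← Int.isCoprime_iff_gcd_eq_one]
        push_cast
        exact IsCoprime.pow_right (((Nat.prime_iff_prime_int.1 hpp).coprime_iff_not_dvd.2 hps).symm)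
      have hxD : (xg : R) ∈ D := by
        have h2 : (xg : R) ^ (Int.gcd s ((p ^ e : ℕ) : ℤ) : ℤ) ∈ D := by
          rw [Int.gcd_eq_gcd_ab, zpow_add, zpow_mul, zpow_mul, hs']
          exact mul_mem (zpow_mem g.2 _) (by rw [zpow_natCast, he, one_zpow]; exact one_mem _)
        rwa [hco, Nat.cast_one, zpow_one] at h2
      apply hab
      have hgens : ∀ u ∈ ({(xg : R), y} : Set R), ∀ v ∈ ({(xg : R), y} : Set R), u * v = v * u := by
        simp only [Set.mem_insert_iff, Set.mem_singleton_iff]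
        rintro u (hu | hu) v (hv | hv) <;> rw [hu, hv] <;>
          first
          | exact (hcen _ hxD y).eq
          | exact (hcen _ hxD y).eq.symm
      haveI := Subgroup.isMulCommutative_closure hgens
      exact congrArg Subtype.val (mul_comm' (⟨a0, hxy.ge (Subgroup.mem_top a0)⟩ : Subgroup.closure ({(xg : R), y} : Set R))
        ⟨b0, hxy.ge (Subgroup.mem_top b0)⟩)
  refine order_p_case hp (hR.to_quotient K) ψ hcop hψgen (z := QuotientGroup.mk (g : R)) ?_ ?_ ?_ ?_ ?_
    (x := QuotientGroup.mk (xg : R)) (y := QuotientGroup.mk y) ?_ ?_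
  · exact fun h => hgK ((QuotientGroup.eq_one_iff _).1 h)
  · rw [← QuotientGroup.mk_pow]
    exact (QuotientGroup.eq_one_iff _).2 (Subgroup.mem_zpowers _)
  · intro x
    induction x using QuotientGroup.induction_on with
    | H r => exact (hcen _ g.2 r).map (QuotientGroup.mk' K)
  · intro a b
    induction a using QuotientGroup.induction_on with
    | H r =>
      induction b using QuotientGroup.induction_on with
      | H s =>
        obtain ⟨k, hk⟩ := Subgroup.mem_zpowers_iff.1 (hg ⟨⁅r, s⁆,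
          Subgroup.commutator_mem_commutator (Subgroup.mem_top _) (Subgroup.mem_top _)⟩)
        have hk' : (g : R) ^ k = ⁅r, s⁆ := congrArg Subtype.val hk
        refine Subgroup.mem_zpowers_iff.2 ⟨k, ?_⟩
        rw [← QuotientGroup.mk_zpow, hk']
        exact map_commutatorElement (QuotientGroup.mk' K) r s
  · by_contra hall
    push_neg at hall
    apply hgK
    have hDK : D ≤ K := by
      rw [hD, commutator_def, Subgroup.commutator_le]
      intro r _ s _
      rw [← QuotientGroup.eq_one_iff]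
      exact (map_commutatorElement (QuotientGroup.mk' K) r s).trans (hall _ _)
    exact hDK g.2
  · have h := congrArg (Subgroup.map (QuotientGroup.mk' K)) hxy
    rw [MonoidHom.map_closure, Set.image_insert_eq, Set.image_singleton,
      Subgroup.map_top_of_surjective _ (QuotientGroup.mk'_surjective K)] at h
    exact h
  · obtain ⟨r, hr⟩ := hroot
    exact ⟨QuotientGroup.mk r, by rw [hr, QuotientGroup.mk_pow]⟩

theorem isMetacyclic_subgroup (hm : Cfsg.IsMetacyclic R) (S : Subgroup R) : Cfsg.IsMetacyclic S := by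
  obtain ⟨N, hN, hNc, hNq⟩ := hm
  haveI := hN; haveI := hNc; haveI := hNq
  have hker : ((QuotientGroup.mk' N).comp S.subtype).ker = N.subgroupOf S := by
    ext x
    rw [MonoidHom.mem_ker, Subgroup.mem_subgroupOf]
    exact QuotientGroup.eq_one_iff (x : R)
  refine ⟨N.subgroupOf S, inferInstance, ?_, ?_⟩
  · let f : ↥(N.subgroupOf S) →* ↥N :=
      (S.subtype.comp (N.subgroupOf S).subtype).codRestrict N (fun x => Subgroup.mem_subgroupOf.1 x.2)
    exact isCyclic_of_injective f
      (fun a b h => Subtype.ext (Subtype.ext (congrArg (fun w : N => (w : R)) h)))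
  · let e := (QuotientGroup.quotientMulEquivOfEq hker).symm.trans
      (QuotientGroup.quotientKerEquivRange ((QuotientGroup.mk' N).comp S.subtype))
    exact isCyclic_of_injective (((QuotientGroup.mk' N).comp S.subtype).range.subtype.comp e.toMonoidHom)
      (Subtype.val_injective.comp e.injective)

theorem card_exp_le (hm : Cfsg.IsMetacyclic R) (W : Subgroup R) (he : ∀ w ∈ W, w ^ p = 1) : Nat.card W ≤ p ^ 2 := by
  obtain ⟨N, hN, hNc, hNq⟩ := isMetacyclic_subgroup hm W
  haveI := hN; haveI := hNc; haveI := hNq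
  have hexp : ∀ w : W, w ^ p = 1 := fun w => Subtype.ext (he w w.2)
  have hle : ∀ (C : Type u) [Group C] [Finite C] [IsCyclic C], (∀ c : C, c ^ p = 1) → Nat.card C ≤ p := by
    intro C _ _ _ hC
    obtain ⟨c, hc⟩ := (inferInstance : IsCyclic C).exists_generator
    have htop : Subgroup.zpowers c = ⊤ := eq_top_iff.2 fun x _ => hc x
    rw [← Subgroup.card_top, ← htop, Nat.card_zpowers]
    exact Nat.le_of_dvd (Fact.out : p.Prime).pos (orderOf_dvd_of_pow_eq_one (hC c))
  rw [Subgroup.card_eq_card_quotient_mul_card_subgroup N, pow_two]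
  refine Nat.mul_le_mul (hle _ fun v => ?_) (hle _ fun n => Subtype.ext (hexp n))
  induction v using QuotientGroup.induction_on with
  | H w => rw [← QuotientGroup.mk_pow, hexp w, QuotientGroup.mk_one]

end Main

end CfsgLib.MetaAction
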