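import Cfsg.Agent.Lib.AbelianOffender
import Cfsg.Prelude.Def_PLocal

/-!
Uniserial action of a `p`-group on a `p`-group.
-/

set_option autoImplicit false
set_option linter.unusedSectionVars false

namespace CfsgLib.Uniserial

open CfsgLib Cfsg
open scoped commutatorElement

variable {L : Type*} [Group L] [Finite L] {p : ℕ} [Fact p.Prime] {N G : Subgroup L}

theorem commutator_le_of_invariant {H : Subgroup L} (h : G ≤ Subgroup.normalizer (H : Set L)) : ⁅H, G⁆ ≤ H :=
  Subgroup.commutator_le.2 fun x hx g hg => by
    rw [commutatorElement_def, mul_assoc x, mul_assoc x]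
    exact H.mul_mem hx ((Subgroup.mem_normalizer_iff.1 (h hg) _).1 (H.inv_mem hx))

theorem iter_invariant (hGN : G ≤ Subgroup.normalizer (N : Set L)) (i : ℕ) :
    G ≤ Subgroup.normalizer (iterCommutator N G i : Set L) := by
  induction i with
  | zero => exact hGN
  | succ i _ => exact Subgroup.normalizer_commutator_ge_right _ _

theorem iter_succ_le (hGN : G ≤ Subgroup.normalizer (N : Set L)) (i : ℕ) :
    iterCommutator N G (i + 1) ≤ iterCommutator N G i :=
  commutator_le_of_invariant (iter_invariant hGN i)

theorem iter_anti (hGN : G ≤ Subgroup.normalizer (N : Set L)) {i j : ℕ} (h : i ≤ j) :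
    iterCommutator N G j ≤ iterCommutator N G i := by
  induction j, h using Nat.le_induction with
  | base => exact le_rfl
  | succ j _ ih => exact (iter_succ_le hGN j).trans ih

theorem iter_le (hGN : G ≤ Subgroup.normalizer (N : Set L)) (i : ℕ) : iterCommutator N G i ≤ N :=
  iter_anti hGN (Nat.zero_le i)

theorem commutator_lt {H T : Subgroup L} (hT : IsPGroup p T) (hH : IsPGroup p H)
    (hTH : T ≤ Subgroup.normalizer (H : Set L)) (hne : H ≠ ⊥) : ⁅H, T⁆ < H := by
  refine lt_of_le_of_ne (commutator_le_of_invariant hTH) fun e => hne ?_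
  exact AbelianOffender.eq_bot_of_le_commutator hT hH hTH le_rfl (by rw [Subgroup.commutator_comm, e])

theorem dvd_relIndex {K H : Subgroup L} (hH : IsPGroup p H) (h : K < H) : p ≤ K.relIndex H := by
  obtain ⟨m, hm⟩ := hH.index (K.subgroupOf H)
  have hne : K.relIndex H ≠ 1 := fun e => h.not_ge (Subgroup.relIndex_eq_one.1 e)
  have hm' : K.relIndex H = p ^ m := hm
  rcases m with _ | m
  · exact absurd (by simpa using hm') hne
  · rw [hm', pow_succ]
    exact Nat.le_mul_of_pos_left _ (pow_pos (Fact.out : p.Prime).pos m)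

/-- The uniserial condition gives the orders of the chain. -/
theorem card_iter_of_uniserial (hGN : G ≤ Subgroup.normalizer (N : Set L)) {n : ℕ} (hn : Nat.card N = p ^ n)
    (hU : ∀ H : Subgroup L, H ≤ N → G ≤ Subgroup.normalizer (H : Set L) → H ≠ ⊥ → (⁅H, G⁆).relIndex H = p) :
    ∀ i, i ≤ n → Nat.card (iterCommutator N G i) = p ^ (n - i) := by
  intro i
  induction i with
  | zero => intro _; exact hn
  | succ i ih =>
    intro hi
    have hc := ih (by omega)
    have hp1 := (Fact.out : p.Prime).one_lt
    have hne : iterCommutator N G i ≠ ⊥ := by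
      intro e
      rw [e, Subgroup.card_bot] at hc
      have : 1 < p ^ (n - i) := Nat.one_lt_pow (by omega) hp1
      omega
    have h1 := Subgroup.relIndex_mul_relIndex ⊥ (iterCommutator N G (i + 1)) (iterCommutator N G i) bot_le
      (iter_succ_le hGN i)
    rw [Subgroup.relIndex_bot_left, Subgroup.relIndex_bot_left, hc,
      show (iterCommutator N G (i + 1)).relIndex (iterCommutator N G i) = p from
        hU _ (iter_le hGN i) (iter_invariant hGN i) hne,
      show n - i = (n - (i + 1)) + 1 by omega, pow_succ] at h1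
    exact Nat.eq_of_mul_eq_mul_right (Fact.out : p.Prime).pos h1

/-- A chain with nontrivial `n`-th term drops by index `p` at each step. -/
theorem card_iter_of_ne (hN : IsPGroup p N) (hG : IsPGroup p G) (hGN : G ≤ Subgroup.normalizer (N : Set L)) {n : ℕ}
    (hn : Nat.card N = p ^ n) (h : iterCommutator N G (n - 1) ≠ ⊥ ∨ n = 0) :
    ∀ i, i ≤ n → Nat.card (iterCommutator N G i) = p ^ (n - i) := by
  have hp1 := (Fact.out : p.Prime).one_lt
  intro i hi
  rcases eq_or_ne n 0 with rfl | hn0
  · obtain rfl : i = 0 := by omega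
    exact hn
  have hne : ∀ j, j < n → iterCommutator N G j ≠ ⊥ := fun j hj e =>
    (h.resolve_right hn0) (le_bot_iff.1 ((iter_anti hGN (show j ≤ n - 1 by omega)).trans e.le))
  have hstep : ∀ j, j < n → p * Nat.card (iterCommutator N G (j + 1)) ≤ Nat.card (iterCommutator N G j) := by
    intro j hj
    have hlt : iterCommutator N G (j + 1) < iterCommutator N G j :=
      commutator_lt hG (hN.to_le (iter_le hGN j)) (iter_invariant hGN j) (hne j hj)
    have h1 := Subgroup.relIndex_mul_relIndex ⊥ _ _ bot_le hlt.le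
    rw [Subgroup.relIndex_bot_left, Subgroup.relIndex_bot_left] at h1
    rw [← h1, mul_comm p]
    exact Nat.mul_le_mul_left _ (dvd_relIndex (hN.to_le (iter_le hGN j)) hlt)
  have hup : ∀ j, j ≤ n → p ^ j * Nat.card (iterCommutator N G j) ≤ p ^ n := by
    intro j
    induction j with
    | zero => intro _; rw [pow_zero, one_mul]; exact hn.le
    | succ j ih =>
      intro hj
      calc p ^ (j + 1) * Nat.card (iterCommutator N G (j + 1))
          = p ^ j * (p * Nat.card (iterCommutator N G (j + 1))) := by rw [pow_succ]; ring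
        _ ≤ p ^ j * Nat.card (iterCommutator N G j) := Nat.mul_le_mul_left _ (hstep j hj)
        _ ≤ p ^ n := ih (by omega)
  have hdown : ∀ k, k ≤ n → p ^ k ≤ Nat.card (iterCommutator N G (n - k)) := by
    intro k
    induction k with
    | zero => intro _; rw [pow_zero]; exact Nat.card_pos
    | succ k ih =>
      intro hk
      have := hstep (n - (k + 1)) (by omega)
      rw [show n - (k + 1) + 1 = n - k by omega] at this
      rw [pow_succ, mul_comm]
      exact (Nat.mul_le_mul_left p (ih (by omega))).trans this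
  refine le_antisymm ?_ ?_
  · refine Nat.le_of_mul_le_mul_left ?_ (pow_pos (Fact.out : p.Prime).pos i)
    rw [← pow_add, Nat.add_sub_cancel' hi]
    exact hup i hi
  · have := hdown (n - i) (by omega)
    rwa [show n - (n - i) = i by omega] at this

/-- Every term of a chain with index `p` steps is normalised by `N`. -/
theorem iter_normal (hN : IsPGroup p N) (hG : IsPGroup p G) (hGN : G ≤ Subgroup.normalizer (N : Set L)) {n : ℕ}
    (hc : ∀ i, i ≤ n → Nat.card (iterCommutator N G i) = p ^ (n - i)) :
    ∀ i, i ≤ n → N ≤ Subgroup.normalizer (iterCommutator N G i : Set L) := by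
  intro i
  induction i with
  | zero => intro _; exact Subgroup.le_normalizer
  | succ i ih =>
    intro hi
    set K := iterCommutator N G i with hK
    set T := N ⊔ G with hT
    have hTp : IsPGroup p T := hN.to_sup_of_normal_left' hG hGN
    have hTK : T ≤ Subgroup.normalizer (K : Set L) := sup_le (ih (by omega)) (iter_invariant hGN i)
    have hKne : K ≠ ⊥ := by
      intro e
      have := hc i (by omega)
      rw [← hK, e, Subgroup.card_bot] at this
      have : 1 < p ^ (n - i) := Nat.one_lt_pow (by omega) (Fact.out : p.Prime).one_lt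
      omega
    have hlt : ⁅K, T⁆ < K := commutator_lt hTp (hN.to_le (iter_le hGN i)) hTK hKne
    have hle : iterCommutator N G (i + 1) ≤ ⁅K, T⁆ := Subgroup.commutator_mono le_rfl le_sup_right
    have heq : iterCommutator N G (i + 1) = ⁅K, T⁆ := by
      refine Subgroup.eq_of_le_of_card_ge hle ?_
      have h1 := Subgroup.relIndex_mul_relIndex ⊥ _ _ bot_le hlt.le
      rw [Subgroup.relIndex_bot_left, Subgroup.relIndex_bot_left, hc i (by omega)] at h1
      refine Nat.le_of_mul_le_mul_right ?_ (Fact.out : p.Prime).pos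
      rw [hc (i + 1) hi, ← pow_succ, show n - (i + 1) + 1 = n - i by omega, ← h1]
      exact Nat.mul_le_mul_left _ (dvd_relIndex (hN.to_le (iter_le hGN i)) hlt)
    rw [heq]
    exact le_sup_left.trans (Subgroup.normalizer_commutator_ge_right K T)

theorem eq_iter (hN : IsPGroup p N) (hG : IsPGroup p G) (hGN : G ≤ Subgroup.normalizer (N : Set L)) {n : ℕ}
    (hc : ∀ i, i ≤ n → Nat.card (iterCommutator N G i) = p ^ (n - i)) {H : Subgroup L} (hH : H ≤ N)
    (hGH : G ≤ Subgroup.normalizer (H : Set L)) : ∃ i ≤ n, H = iterCommutator N G i := by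
  classical
  have hbot : iterCommutator N G n = ⊥ := by
    rw [Subgroup.eq_bot_iff_card, hc n le_rfl, Nat.sub_self, pow_zero]
  by_cases hn' : H ≤ iterCommutator N G n
  · exact ⟨n, le_rfl, le_antisymm hn' (by rw [hbot]; exact bot_le)⟩
  have hex : ∃ i, ¬ H ≤ iterCommutator N G i := ⟨n, hn'⟩
  set m := Nat.find hex with hm
  have hm0 : m ≠ 0 := fun e => by
    have := Nat.find_spec hex
    rw [← hm, e] at this
    exact this hH
  obtain ⟨i, hi⟩ : ∃ i, m = i + 1 := ⟨m - 1, by omega⟩
  have hnot : ¬ H ≤ iterCommutator N G (i + 1) := hi ▸ Nat.find_spec hex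
  have hHi : H ≤ iterCommutator N G i := not_not.1 (Nat.find_min hex (by omega))
  have hin : i + 1 ≤ n := hi ▸ Nat.find_le hn'
  refine ⟨i, by omega, le_antisymm hHi ?_⟩
  have hnorm : ∀ j, j ≤ n → H ≤ Subgroup.normalizer (iterCommutator N G j : Set L) := fun j hj =>
    hH.trans (iter_normal hN hG hGN hc j hj)
  have h0 : iterCommutator N G i ≤ H ⊔ iterCommutator N G (i + 1) := by
    refine (Subgroup.eq_of_le_of_card_ge (sup_le hHi (iter_succ_le hGN i)) ?_).ge
    have hlt : iterCommutator N G (i + 1) < H ⊔ iterCommutator N G (i + 1) :=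
      lt_of_le_of_ne le_sup_right fun e => hnot (e ▸ le_sup_left)
    have h1 := Subgroup.relIndex_mul_relIndex ⊥ _ _ bot_le hlt.le
    rw [Subgroup.relIndex_bot_left, Subgroup.relIndex_bot_left, hc (i + 1) hin] at h1
    rw [← h1, hc i (by omega), show n - i = (n - (i + 1)) + 1 by omega, pow_succ]
    exact Nat.mul_le_mul_left _
      (dvd_relIndex (hN.to_le (sup_le hH (iter_le hGN (i + 1)))) hlt)
  have hstep : ∀ j, i ≤ j → j < n → iterCommutator N G j ≤ H ⊔ iterCommutator N G (j + 1) := by
    intro j hj
    induction j, hj using Nat.le_induction with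
    | base => intro _; exact h0
    | succ j hj ih =>
      intro hjn
      refine Subgroup.commutator_le.2 fun x hx g hg => ?_
      have hx' := ih (by omega) hx
      rw [← SetLike.mem_coe, Subgroup.coe_mul_of_left_le_normalizer_right _ _ (hnorm (j + 1) (by omega))] at hx'
      obtain ⟨h, hh, m, hmem, rfl⟩ := hx'
      rw [show ⁅h * m, g⁆ = h * ⁅m, g⁆ * h⁻¹ * ⁅h, g⁆ by simp only [commutatorElement_def]; group]
      set T := H ⊔ iterCommutator N G (j + 1 + 1)
      exact T.mul_mem (T.mul_mem (T.mul_mem (Subgroup.mem_sup_left hh)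
        (Subgroup.mem_sup_right (Subgroup.commutator_mem_commutator hmem hg)))
        (T.inv_mem (Subgroup.mem_sup_left hh)))
        (Subgroup.mem_sup_left (commutator_le_of_invariant hGH (Subgroup.commutator_mem_commutator hh hg)))
  have hall : ∀ j, i ≤ j → j ≤ n → iterCommutator N G i ≤ H ⊔ iterCommutator N G j := by
    intro j hj
    induction j, hj using Nat.le_induction with
    | base => intro _; exact le_sup_right
    | succ j hj ih =>
      intro hjn
      exact (ih (by omega)).trans (sup_le le_sup_left (hstep j hj (by omega)))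
  have := hall n (by omega) le_rfl
  rwa [hbot, sup_bot_eq] at this

theorem uniserial_of_card (hN : IsPGroup p N) (hG : IsPGroup p G) (hGN : G ≤ Subgroup.normalizer (N : Set L))
    {n : ℕ} (hc : ∀ i, i ≤ n → Nat.card (iterCommutator N G i) = p ^ (n - i)) {H : Subgroup L} (hH : H ≤ N)
    (hGH : G ≤ Subgroup.normalizer (H : Set L)) (hne : H ≠ ⊥) : (⁅H, G⁆).relIndex H = p := by
  obtain ⟨i, hi, rfl⟩ := eq_iter hN hG hGN hc hH hGH
  have hin : i < n := by
    refine lt_of_le_of_ne hi fun e => hne ?_
    subst e
    rw [Subgroup.eq_bot_iff_card, hc i le_rfl, Nat.sub_self, pow_zero]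
  show (iterCommutator N G (i + 1)).relIndex _ = p
  have h1 := Subgroup.relIndex_mul_relIndex ⊥ _ _ bot_le (iter_succ_le (N := N) hGN i)
  rw [Subgroup.relIndex_bot_left, Subgroup.relIndex_bot_left, hc i hi, hc (i + 1) hin,
    show n - i = (n - (i + 1)) + 1 by omega, pow_succ] at h1
  exact Nat.eq_of_mul_eq_mul_left (pow_pos (Fact.out : p.Prime).pos _) h1

end CfsgLib.Uniserial
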