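import Mathlib
import Cfsg.Prelude.Def_OddOrderLocal
import Cfsg.Agent.Lib.PGroup.RankTwoOmega

/-!
`p`-groups, `p > 3`, with `|Ω₁| ≤ p²` are metacyclic.
-/

set_option autoImplicit false
set_option linter.unusedSectionVars false

universe u

namespace CfsgLib.PGroupMeta

open scoped commutatorElement

variable {R : Type u} [Group R] [Finite R] {p : ℕ} [Fact p.Prime]

/-- The subgroup generated by the `p`-th powers. -/
abbrev powSub (p : ℕ) (R : Type u) [Group R] : Subgroup R := Subgroup.closure (Set.range fun x : R => x ^ p)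

instance powSub_normal : (powSub p R).Normal := by
  refine ⟨fun x hx g => ?_⟩
  have hmap : (powSub p R).map (MulAut.conj g).toMonoidHom ≤ powSub p R := by
    rw [MonoidHom.map_closure]
    refine Subgroup.closure_mono ?_
    rintro _ ⟨_, ⟨y, rfl⟩, rfl⟩
    exact ⟨_, (map_pow (MulAut.conj g).toMonoidHom y p).symm⟩
  exact hmap ⟨x, hx, rfl⟩

theorem powSub_le_frattini (hR : IsPGroup p R) : powSub p R ≤ frattini R := by
  rw [Subgroup.closure_le]
  rintro _ ⟨x, rfl⟩
  exact CfsgLib.pow_mem_frattini_pGroup hR x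

theorem eq_top_of_sup (hR : IsPGroup p R) {K : Subgroup R} (h : K ⊔ powSub p R = ⊤) : K = ⊤ :=
  frattini_nongenerating (top_le_iff.1 (h ▸ sup_le_sup_left (powSub_le_frattini hR) K))

theorem card_quotient_powSub (hp3 : 3 < p) (hR : IsPGroup p R)
    (hO : Nat.card ↥(Subgroup.closure {x : R | x ^ p = 1}) ≤ p ^ 2) : Nat.card (R ⧸ powSub p R) ≤ p ^ 2 := by
  have h := CfsgLib.PGroupOmega.omega_quotient_le hp3 hR hO (powSub p R)
  have htop : Subgroup.closure {x : R ⧸ powSub p R | x ^ p = 1} = ⊤ := by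
    rw [eq_top_iff]
    intro z _
    obtain ⟨x, rfl⟩ := QuotientGroup.mk'_surjective _ z
    exact Subgroup.subset_closure ((map_pow _ x p).symm.trans ((QuotientGroup.eq_one_iff _).2 (Subgroup.subset_closure ⟨x, rfl⟩)))
  rwa [htop, Subgroup.card_top] at h

theorem exists_gen (hp3 : 3 < p) (hR : IsPGroup p R)
    (hO : Nat.card ↥(Subgroup.closure {x : R | x ^ p = 1}) ≤ p ^ 2) {x : R} (hx : x ∉ powSub p R) :
    ∃ y : R, Subgroup.closure {x, y} = ⊤ := by
  have hp := (Fact.out : p.Prime)
  set q := QuotientGroup.mk' (powSub p R) with hq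
  by_cases htop : Subgroup.zpowers x ⊔ powSub p R = ⊤
  · refine ⟨x, top_le_iff.1 ?_⟩
    rw [← eq_top_of_sup hR htop, Subgroup.zpowers_le]
    exact Subgroup.subset_closure (Set.mem_insert x _)
  obtain ⟨y, -, hy⟩ := SetLike.exists_of_lt (lt_top_iff_ne_top.2 htop)
  refine ⟨y, eq_top_of_sup hR ?_⟩
  set K := Subgroup.closure ({x, y} : Set R) with hK
  have h1 : (Subgroup.zpowers x).map q ≤ K.map q :=
    Subgroup.map_mono (Subgroup.zpowers_le.2 (Subgroup.subset_closure (Set.mem_insert x _)))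
  have hne : (Subgroup.zpowers x).map q ≠ ⊥ := by
    intro e
    rw [Subgroup.map_eq_bot_iff, hq, QuotientGroup.ker_mk', Subgroup.zpowers_le] at e
    exact hx e
  have hlt : (Subgroup.zpowers x).map q < K.map q := by
    refine lt_of_le_of_ne h1 fun e => hy ?_
    have : q y ∈ (Subgroup.zpowers x).map q := e ▸ ⟨y, Subgroup.subset_closure (Set.mem_insert_of_mem _ rfl), rfl⟩
    have := Subgroup.mem_comap.2 this
    rwa [Subgroup.comap_map_eq, hq, QuotientGroup.ker_mk'] at this
  obtain ⟨i, hi⟩ := IsPGroup.iff_card.1 ((hR.to_quotient (powSub p R)).to_subgroup ((Subgroup.zpowers x).map q))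
  obtain ⟨j, hj⟩ := IsPGroup.iff_card.1 ((hR.to_quotient (powSub p R)).to_subgroup (K.map q))
  have hi0 : i ≠ 0 := fun e => hne (Subgroup.eq_bot_of_card_eq _ (by rw [hi, e, pow_zero]))
  have hij : i < j := by
    by_contra hle
    exact hlt.ne (Subgroup.eq_of_le_of_card_ge h1 (by rw [hi, hj]; exact Nat.pow_le_pow_right hp.pos (not_lt.1 hle)))
  have hK' : K.map q = ⊤ := by
    refine Subgroup.eq_top_of_card_eq _ (le_antisymm (Subgroup.card_le_card_group _) ?_)
    refine (card_quotient_powSub hp3 hR hO).trans ?_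
    rw [hj]; exact Nat.pow_le_pow_right hp.pos (by omega)
  have := congrArg (Subgroup.comap q) hK'
  rwa [Subgroup.comap_map_eq, hq, QuotientGroup.ker_mk', Subgroup.comap_top] at this

theorem commutator_le_powSub (hp3 : 3 < p) (hR : IsPGroup p R)
    (hO : Nat.card ↥(Subgroup.closure {x : R | x ^ p = 1}) ≤ p ^ 2) : commutator R ≤ powSub p R := by
  rw [commutator_def, Subgroup.commutator_le]
  intro a _ b _
  rw [← QuotientGroup.eq_one_iff]
  show QuotientGroup.mk' (powSub p R) ⁅a, b⁆ = 1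
  rw [map_commutatorElement, commutatorElement_eq_one_iff_commute]
  exact CfsgLib.PGroupOmega.commutative_of_card_le (hR.to_quotient _) (card_quotient_powSub hp3 hR hO) _ _

theorem pow_central (hp3 : 3 < p) (hcl : ⁅⁅commutator R, (⊤ : Subgroup R)⁆, (⊤ : Subgroup R)⁆ = ⊥)
    (hexp : ∀ c ∈ commutator R, c ^ p = 1) (u v : R) : Commute v (u ^ p) := by
  obtain ⟨c, d, e, hcm, h, hcu, -, hd, -, -⟩ := CfsgLib.PGroup3.data (p := p) (Or.inr ⟨hp3, hcl⟩) u v
  have h1 := CfsgLib.PGroup3.pow_swap_right h hcu (hd u) (hd c) p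
  have hdm : d ∈ commutator R := by
    have : d = ⁅c⁻¹, u⁻¹⁆ := by rw [commutatorElement_def, inv_inv, inv_inv, mul_assoc (c⁻¹ * u⁻¹), hcu]; group
    rw [this, commutator_def]
    exact Subgroup.commutator_mem_commutator (Subgroup.mem_top _) (Subgroup.mem_top _)
  rw [hexp c hcm, mul_one, CfsgLib.PGroup3.pow_eq_one_of_dvd (hexp d hdm)
    (CfsgLib.PGroup3.choose_dvd two_ne_zero (by omega)), mul_one] at h1
  exact h1

theorem commutator_central_of_exp (hp3 : 3 < p) (hR : IsPGroup p R)
    (hO : Nat.card ↥(Subgroup.closure {x : R | x ^ p = 1}) ≤ p ^ 2)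
    (hexp : ∀ c ∈ commutator R, c ^ p = 1) : ⁅commutator R, (⊤ : Subgroup R)⁆ = ⊥ := by
  set G3 := ⁅commutator R, (⊤ : Subgroup R)⁆ with hG3
  set G4 := ⁅G3, (⊤ : Subgroup R)⁆ with hG4
  haveI : G3.Normal := Subgroup.commutator_normal _ _
  haveI : G4.Normal := Subgroup.commutator_normal _ _
  have h34 : G3 ≤ G4 := by
    set q := QuotientGroup.mk' G4 with hq
    have hs := QuotientGroup.mk'_surjective G4
    have hcl : ⁅⁅commutator (R ⧸ G4), (⊤ : Subgroup (R ⧸ G4))⁆, (⊤ : Subgroup (R ⧸ G4))⁆ = ⊥ := by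
      rw [← CfsgLib.PGroupOmega.commutator_map hs, ← Subgroup.map_top_of_surjective _ hs, ← Subgroup.map_commutator,
        ← Subgroup.map_commutator, Subgroup.map_eq_bot_iff, QuotientGroup.ker_mk']
    have hexp' : ∀ c ∈ commutator (R ⧸ G4), c ^ p = 1 := by
      rw [← CfsgLib.PGroupOmega.commutator_map hs]
      rintro _ ⟨c, hc, rfl⟩
      rw [← map_pow, hexp c hc, map_one]
    have hO' := CfsgLib.PGroupOmega.omega_quotient_le hp3 hR hO G4
    have hle : commutator (R ⧸ G4) ≤ Subgroup.center (R ⧸ G4) := by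
      refine (commutator_le_powSub hp3 (hR.to_quotient _) hO').trans ?_
      rw [Subgroup.closure_le]
      rintro _ ⟨x, rfl⟩
      exact Subgroup.mem_center_iff.2 fun g => (pow_central hp3 hcl hexp' x g).eq
    have hb : ⁅commutator (R ⧸ G4), (⊤ : Subgroup (R ⧸ G4))⁆ = ⊥ := by
      rw [eq_bot_iff, Subgroup.commutator_le]
      intro a ha b _
      rw [Subgroup.mem_bot, commutatorElement_eq_one_iff_commute]
      exact (Subgroup.mem_center_iff.1 (hle ha) b).symm
    rwa [← CfsgLib.PGroupOmega.commutator_map hs, ← Subgroup.map_top_of_surjective _ hs, ← Subgroup.map_commutator,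
      Subgroup.map_eq_bot_iff, QuotientGroup.ker_mk'] at hb
  haveI : Group.IsNilpotent R := hR.isNilpotent
  obtain ⟨n, hn⟩ := (Subgroup.nilpotent_iff_lowerCentralSeries (G := R)).1 inferInstance
  have hall : ∀ j, G3 ≤ (⊤ : Subgroup R).lowerCentralSeries j := by
    intro j
    induction j with
    | zero => simp
    | succ j ih => exact h34.trans (Subgroup.commutator_mono ih le_rfl)
  rw [eq_bot_iff, ← hn]; exact hall n

theorem commutator_cyclic (hp3 : 3 < p) (hR : IsPGroup p R)
    (hO : Nat.card ↥(Subgroup.closure {x : R | x ^ p = 1}) ≤ p ^ 2) {x y : R}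
    (hxy : Subgroup.closure ({x, y} : Set R) = ⊤) : commutator R = Subgroup.zpowers ⁅x, y⁆ := by
  have hcD : ⁅x, y⁆ ∈ commutator R := by
    rw [commutator_def]; exact Subgroup.commutator_mem_commutator (Subgroup.mem_top _) (Subgroup.mem_top _)
  set T := (powSub p ↥(commutator R)).map (commutator R).subtype with hT
  haveI hTn : T.Normal := by
    refine ⟨fun z hz g => ?_⟩
    have hmap : T.map (MulAut.conj g).toMonoidHom ≤ T := by
      rw [hT, Subgroup.map_map, MonoidHom.map_closure, MonoidHom.map_closure]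
      refine Subgroup.closure_mono ?_
      rintro _ ⟨_, ⟨⟨c, hc⟩, rfl⟩, rfl⟩
      refine ⟨_, ⟨⟨g * c * g⁻¹, Subgroup.Normal.conj_mem inferInstance c hc g⟩, rfl⟩, ?_⟩
      simp [conj_pow]
    exact hmap ⟨z, hz, rfl⟩
  set q := QuotientGroup.mk' T with hq
  have hs := QuotientGroup.mk'_surjective T
  have hexp : ∀ c ∈ commutator (R ⧸ T), c ^ p = 1 := by
    rw [← CfsgLib.PGroupOmega.commutator_map hs]
    rintro _ ⟨c, hc, rfl⟩
    rw [← map_pow]
    exact (QuotientGroup.eq_one_iff _).2 ⟨(⟨c, hc⟩ : ↥(commutator R)) ^ p, Subgroup.subset_closure ⟨_, rfl⟩, rfl⟩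
  have hb := commutator_central_of_exp hp3 (hR.to_quotient T) (CfsgLib.PGroupOmega.omega_quotient_le hp3 hR hO T) hexp
  set Z := Subgroup.zpowers (q ⁅x, y⁆) with hZ
  have hcen : ∀ g : R ⧸ T, Commute (q ⁅x, y⁆) g := by
    intro g
    have hmem : q ⁅x, y⁆ ∈ commutator (R ⧸ T) := (CfsgLib.PGroupOmega.commutator_map hs).le ⟨_, hcD, rfl⟩
    have := Subgroup.commutator_mem_commutator hmem (Subgroup.mem_top g)
    rw [hb, Subgroup.mem_bot, commutatorElement_eq_one_iff_commute] at this
    exact this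
  haveI : Z.Normal := ⟨fun n hn g => by
    obtain ⟨i, rfl⟩ := hn
    show g * (q ⁅x, y⁆) ^ i * g⁻¹ ∈ Z
    rw [((hcen g).symm.zpow_right i).eq, mul_inv_cancel_right]
    exact zpow_mem (Subgroup.mem_zpowers _) i⟩
  set r := (QuotientGroup.mk' Z).comp q with hr
  have hrs : Function.Surjective r := (QuotientGroup.mk'_surjective Z).comp hs
  have hxy' : Commute (r x) (r y) := by
    rw [← commutatorElement_eq_one_iff_commute, ← map_commutatorElement]
    exact (QuotientGroup.eq_one_iff _).2 (Subgroup.mem_zpowers _)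
  have hab : ∀ a b : R, Commute (r a) (r b) := by
    have h1 : ∀ g ∈ ({x, y} : Set R), ∀ b : R, Commute (r g) (r b) := by
      intro g hg b
      have hle : (⊤ : Subgroup R) ≤ (Subgroup.centralizer {r g}).comap r := by
        rw [← hxy, Subgroup.closure_le]
        intro k hk
        rw [SetLike.mem_coe, Subgroup.mem_comap, Subgroup.mem_centralizer_singleton_iff]
        rcases hg with rfl | rfl <;> rcases hk with rfl | rfl
        · rfl
        · exact hxy'.eq.symm
        · exact hxy'.eq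
        · rfl
      exact (Subgroup.mem_centralizer_singleton_iff.1 (hle (Subgroup.mem_top b))).symm
    intro a b
    have hle : (⊤ : Subgroup R) ≤ (Subgroup.centralizer {r b}).comap r := by
      rw [← hxy, Subgroup.closure_le]
      intro k hk
      rw [SetLike.mem_coe, Subgroup.mem_comap, Subgroup.mem_centralizer_singleton_iff]
      exact (h1 k hk b).eq
    exact Subgroup.mem_centralizer_singleton_iff.1 (hle (Subgroup.mem_top a))
  have hD : commutator R ≤ Subgroup.zpowers ⁅x, y⁆ ⊔ T := by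
    rw [commutator_def, Subgroup.commutator_le]
    intro a _ b _
    have h : q ⁅a, b⁆ ∈ Z := by
      rw [← QuotientGroup.eq_one_iff]
      show r ⁅a, b⁆ = 1
      rw [map_commutatorElement, commutatorElement_eq_one_iff_commute]
      exact hab a b
    have h2 : ⁅a, b⁆ ∈ ((Subgroup.zpowers ⁅x, y⁆).map q).comap q := by
      rwa [Subgroup.mem_comap, MonoidHom.map_zpowers]
    rwa [Subgroup.comap_map_eq, hq, QuotientGroup.ker_mk'] at h2
  have hK : Subgroup.zpowers (⟨⁅x, y⁆, hcD⟩ : ↥(commutator R)) = ⊤ := by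
    apply eq_top_of_sup (hR.to_subgroup _)
    apply Subgroup.map_injective (commutator R).subtype_injective
    rw [Subgroup.map_sup, MonoidHom.map_zpowers, ← MonoidHom.range_eq_map, Subgroup.range_subtype]
    exact le_antisymm (sup_le (Subgroup.zpowers_le.2 hcD) (Subgroup.map_subtype_le _)) hD
  have := congrArg (Subgroup.map (commutator R).subtype) hK
  rw [MonoidHom.map_zpowers, ← MonoidHom.range_eq_map, Subgroup.range_subtype] at this
  exact this.symm

theorem isMetacyclic (hp3 : 3 < p) (hR : IsPGroup p R)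
    (hO : Nat.card ↥(Subgroup.closure {x : R | x ^ p = 1}) ≤ p ^ 2) : Cfsg.IsMetacyclic R := by
  have hp := (Fact.out : p.Prime)
  by_cases hcyc : IsCyclic R
  · refine ⟨⊤, inferInstance, ?_, ?_⟩
    · exact Subgroup.isCyclic _
    · exact isCyclic_of_surjective _ (QuotientGroup.mk'_surjective _)
  have hlt : powSub p R < ⊤ := by
    rw [lt_top_iff_ne_top]
    intro e
    have h : (⊥ : Subgroup R) = ⊤ := eq_top_of_sup hR (by rw [bot_sup_eq, e])
    haveI := Subgroup.subsingleton_iff.1 (subsingleton_of_bot_eq_top h)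
    exact hcyc inferInstance
  obtain ⟨x, -, hx⟩ := SetLike.exists_of_lt hlt
  obtain ⟨y, hxy⟩ := exists_gen hp3 hR hO hx
  have hcard : Nat.card (R ⧸ powSub p R) = p ^ 2 := by
    obtain ⟨k, hk⟩ := IsPGroup.iff_card.1 (hR.to_quotient (powSub p R))
    have hk2 := (Nat.pow_le_pow_iff_right hp.one_lt).1 (hk ▸ card_quotient_powSub hp3 hR hO)
    rw [hk]
    rcases (show k ≤ 1 ∨ k = 2 by omega) with h1 | rfl
    swap
    · rfl
    exfalso
    apply hcyc
    set q := QuotientGroup.mk' (powSub p R) with hq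
    have htop : (Subgroup.zpowers x).map q = ⊤ := by
      refine Subgroup.eq_top_of_card_eq _ (le_antisymm (Subgroup.card_le_card_group _) ?_)
      obtain ⟨i, hi⟩ := IsPGroup.iff_card.1 ((hR.to_quotient (powSub p R)).to_subgroup ((Subgroup.zpowers x).map q))
      have hi0 : i ≠ 0 := by
        intro e
        have hb := Subgroup.eq_bot_of_card_eq _ (by rw [hi, e, pow_zero] : Nat.card _ = 1)
        rw [Subgroup.map_eq_bot_iff, hq, QuotientGroup.ker_mk', Subgroup.zpowers_le] at hb
        exact hx hb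
      rw [hk, hi]; exact Nat.pow_le_pow_right hp.pos (by omega)
    have := congrArg (Subgroup.comap q) htop
    rw [Subgroup.comap_map_eq, hq, QuotientGroup.ker_mk', Subgroup.comap_top] at this
    exact ⟨x, fun g => by
      have := eq_top_of_sup hR this
      exact (this.symm ▸ Subgroup.mem_top g : g ∈ Subgroup.zpowers x)⟩
  have h2 : p ^ 2 * Nat.card (powSub p R) ≤ Nat.card R := by
    rw [Subgroup.card_eq_card_quotient_mul_card_subgroup (powSub p R), hcard]
  haveI := Fintype.ofFinite R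
  classical
  obtain ⟨g, hg, hmax⟩ := Finset.exists_max_image (Finset.univ.filter fun g : R => ⁅x, y⁆ ∈ Subgroup.zpowers g)
    (fun g => orderOf g) ⟨_, Finset.mem_filter.2 ⟨Finset.mem_univ _, Subgroup.mem_zpowers ⁅x, y⁆⟩⟩
  have hgc : ⁅x, y⁆ ∈ Subgroup.zpowers g := (Finset.mem_filter.1 hg).2
  have hgT : g ∉ powSub p R := by
    intro hmem
    by_cases hg1 : g = 1
    · subst hg1
      rw [Subgroup.zpowers_one_eq_bot, Subgroup.mem_bot] at hgc
      have := hmax x (Finset.mem_filter.2 ⟨Finset.mem_univ _, hgc ▸ one_mem _⟩)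
      rw [orderOf_one] at this
      have hx1 : orderOf x = 1 := le_antisymm this (orderOf_pos x)
      rw [orderOf_eq_one_iff] at hx1
      exact hx (hx1 ▸ one_mem _)
    obtain ⟨h, hh⟩ := CfsgLib.PGroupOmega.exists_pow_of_mem hp3 hR hO h2 hmem
    have hle : ⁅x, y⁆ ∈ Subgroup.zpowers h :=
      (Subgroup.zpowers_le.2 (hh ▸ pow_mem (Subgroup.mem_zpowers h) p : g ∈ Subgroup.zpowers h)) hgc
    have h3 : orderOf h ≤ orderOf g := hmax h (Finset.mem_filter.2 ⟨Finset.mem_univ _, hle⟩)
    obtain ⟨k, hk⟩ := hR h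
    obtain ⟨j, -, hj⟩ := (Nat.dvd_prime_pow hp).1 (orderOf_dvd_of_pow_eq_one hk)
    rcases j with _ | j
    · rw [pow_zero, orderOf_eq_one_iff] at hj
      exact hg1 (by rw [← hh, hj, one_pow])
    · have : orderOf g ≤ p ^ j := Nat.le_of_dvd (pow_pos hp.pos j) (orderOf_dvd_of_pow_eq_one (by
        rw [← hh, ← pow_mul, ← pow_succ', ← hj, pow_orderOf_eq_one]))
      have h5 : p ^ j < orderOf h := hj ▸ Nat.pow_lt_pow_right hp.one_lt (Nat.lt_succ_self j)
      omega
  obtain ⟨h, hgh⟩ := exists_gen hp3 hR hO hgT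
  have hN : (Subgroup.zpowers g).Normal := by
    refine ⟨fun n hn k => ?_⟩
    have hcom : ⁅k, n⁆ ∈ Subgroup.zpowers g := by
      refine (Subgroup.zpowers_le.2 hgc) ?_
      rw [← commutator_cyclic hp3 hR hO hxy, commutator_def]
      exact Subgroup.commutator_mem_commutator (Subgroup.mem_top _) (Subgroup.mem_top _)
    have := mul_mem hcom hn
    rwa [commutatorElement_def, inv_mul_cancel_right] at this
  refine ⟨Subgroup.zpowers g, hN, inferInstance, ?_⟩
  refine ⟨⟨QuotientGroup.mk' _ h, fun z => ?_⟩⟩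
  obtain ⟨k, rfl⟩ := QuotientGroup.mk'_surjective _ z
  have hle : (⊤ : Subgroup R) ≤ (Subgroup.zpowers (QuotientGroup.mk' (Subgroup.zpowers g) h)).comap (QuotientGroup.mk' _) := by
    rw [← hgh, Subgroup.closure_le]
    rintro t (rfl | rfl)
    · rw [SetLike.mem_coe, Subgroup.mem_comap, show QuotientGroup.mk' (Subgroup.zpowers t) t = 1 from (QuotientGroup.eq_one_iff t).2 (Subgroup.mem_zpowers t)]
      exact one_mem _
    · exact Subgroup.mem_zpowers _
  exact hle (Subgroup.mem_top k)

end CfsgLib.PGroupMeta
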