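import Mathlib
import Cfsg.Prelude.Def_CaseTheorems
import Cfsg.Agent.Lib.SmallElements
import Cfsg.Agent.Lib.UniqueSubgroup
import Cfsg.Agent.Lib.PGroup.RankTwoNormal
import Cfsg.Agent.Lib.PGroup.RankTwoOmega
import Cfsg.Agent.Lib.PGroup.MetacyclicRank
import Cfsg.Agent.Lib.PGroup.MetacyclicAction
import Cfsg.Agent.Lib.OddLocal.NarrowDerived

/-!
`p`-groups of rank two, `p > 3`, moved completely by a coprime group of odd order: abelian or a central product
of a group of order `p ^ 3` and exponent `p` with a cyclic group.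
-/

set_option autoImplicit false
set_option linter.unusedSectionVars false

namespace CfsgLib.RankTwoCentral

open scoped commutatorElement

universe u

variable {R : Type u} [Group R] [Finite R] {p : ℕ} [Fact p.Prime]

theorem card_exp_le (hR : IsPGroup p R) (hr : Cfsg.PRankLE p 2 R) (he : ∀ x : R, x ^ p = 1) :
    Nat.card R ≤ p ^ 3 := by
  have hpp := (Fact.out : p.Prime)
  by_cases hsmall : Nat.card R ≤ p ^ 2
  · exact hsmall.trans (Nat.pow_le_pow_right hpp.pos (by omega))
  obtain ⟨N, hN, -, hNc⟩ := CfsgLib.PGroupRankTwo.exists_normal_card hR (⊤ : Subgroup R) 2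
    (by rw [Subgroup.card_top]; omega)
  haveI := hN
  have hNab : ∀ a ∈ N, ∀ b ∈ N, a * b = b * a := fun a ha b hb =>
    congrArg Subtype.val (CfsgLib.PGroupOmega.commutative_of_card_le (hR.to_subgroup N) hNc.le ⟨a, ha⟩ ⟨b, hb⟩)
  have hrankN : ∀ c : R, (∀ a ∈ N, a * c = c * a) → c ∈ N := by
    intro c hc
    have hgens : ∀ a ∈ (N : Set R) ∪ {c}, ∀ b ∈ (N : Set R) ∪ {c}, a * b = b * a := by
      rintro a (ha | ha) b (hb | hb)
      · exact hNab a ha b hb
      · rw [Set.mem_singleton_iff.1 hb]; exact hc a ha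
      · rw [Set.mem_singleton_iff.1 ha]; exact (hc b hb).symm
      · rw [Set.mem_singleton_iff.1 ha, Set.mem_singleton_iff.1 hb]
    haveI := Subgroup.isMulCommutative_closure hgens
    have h := hr (Subgroup.closure ((N : Set R) ∪ {c})) inferInstance (fun a _ => he a)
    have heq : N = Subgroup.closure ((N : Set R) ∪ {c}) := Subgroup.eq_of_le_of_card_ge
      (fun a ha => Subgroup.subset_closure (Or.inl ha)) (h.trans hNc.ge)
    exact heq.ge (Subgroup.subset_closure (Or.inr rfl))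
  by_cases hcen : ∀ a ∈ N, ∀ g : R, a * g = g * a
  · exfalso
    apply hsmall
    have htop : N = ⊤ := eq_top_iff.2 fun g _ => hrankN g fun a ha => hcen a ha g
    rw [← Subgroup.card_top, ← htop, hNc]
  push_neg at hcen
  obtain ⟨n0, hn0, g0, hg0⟩ := hcen
  obtain ⟨T, hT, hTN, hTc⟩ := CfsgLib.PGroupRankTwo.exists_normal_card hR N 1
    (by rw [hNc]; exact Nat.pow_le_pow_right hpp.pos (by omega))
  haveI := hT
  rw [pow_one] at hTc
  have hTcen : ∀ t ∈ T, ∀ g : R, g * t = t * g := by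
    intro t ht g
    have h := CfsgLib.PGroupRankTwo.step_central hR (bot_le : (⊥ : Subgroup R) ≤ T) (by rw [hTc]; simp) g ht
    rw [Subgroup.mem_bot, inv_mul_eq_one] at h
    exact (mul_inv_eq_iff_eq_mul.1 h.symm)
  set S := T ⊔ Subgroup.zpowers n0 with hS
  have hSN : S = N := by
    refine Subgroup.eq_of_le_of_card_ge (sup_le hTN (Subgroup.zpowers_le.2 hn0)) ?_
    obtain ⟨k, hk⟩ := IsPGroup.iff_card.1 (hR.to_subgroup S)
    rw [hNc, hk]
    refine Nat.pow_le_pow_right hpp.pos ?_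
    by_contra hlt
    have heq : T = S := Subgroup.eq_of_le_of_card_ge le_sup_left (by
      rw [hk, hTc]
      calc p ^ k ≤ p ^ 1 := Nat.pow_le_pow_right hpp.pos (by omega)
        _ = p := pow_one p)
    exact hg0 (hTcen n0 (heq.ge (Subgroup.mem_sup_right (Subgroup.mem_zpowers n0))) g0).symm
  have hC : ∀ c : R, n0 * c = c * n0 → c ∈ N := by
    intro c hc
    refine hrankN c fun a ha => ?_
    have hle : S ≤ Subgroup.centralizer {c} := sup_le
      (fun t ht => Subgroup.mem_centralizer_singleton_iff.2 (hTcen t ht c).symm)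
      (Subgroup.zpowers_le.2 (Subgroup.mem_centralizer_singleton_iff.2 hc))
    exact Subgroup.mem_centralizer_singleton_iff.1 (hle (hSN.ge ha))
  haveI : Nontrivial ↥N := Finite.one_lt_card_iff_nontrivial.1 (by rw [hNc]; exact Nat.one_lt_pow two_ne_zero hpp.one_lt)
  have hlt := CfsgLib.NarrowDerived.commutator_top_lt hR N ((Subgroup.nontrivial_iff_ne_bot N).1 inferInstance)
  set M := ⁅N, (⊤ : Subgroup R)⁆ with hM
  have hMc : Nat.card M ≤ p := by
    obtain ⟨k, hk⟩ := IsPGroup.iff_card.1 (hR.to_subgroup M)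
    have h1 : Nat.card M < Nat.card N := lt_of_le_of_ne (Nat.le_of_dvd Nat.card_pos (Subgroup.card_dvd_of_le hlt.le))
      (fun h => hlt.ne (Subgroup.eq_of_le_of_card_ge hlt.le h.ge))
    rw [hk, hNc] at h1
    have := (Nat.pow_lt_pow_iff_right hpp.one_lt).1 h1
    rw [hk]
    calc p ^ k ≤ p ^ 1 := Nat.pow_le_pow_right hpp.pos (by omega)
      _ = p := pow_one p
  have hinj : Nat.card (R ⧸ N) ≤ Nat.card M := by
    refine Nat.card_le_card_of_injective
      (fun q => (⟨⁅n0, q.out⁆, Subgroup.commutator_mem_commutator hn0 (Subgroup.mem_top _)⟩ : M)) ?_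
    intro a b hab
    have h : ⁅n0, a.out⁆ = ⁅n0, b.out⁆ := congrArg Subtype.val hab
    rw [← QuotientGroup.out_eq' a, ← QuotientGroup.out_eq' b, QuotientGroup.eq]
    refine hC _ ?_
    rw [commutatorElement_def, commutatorElement_def] at h
    have h2 : a.out * n0⁻¹ * a.out⁻¹ = b.out * n0⁻¹ * b.out⁻¹ := by
      have := congrArg (fun z => n0⁻¹ * z) h
      simpa [mul_assoc] using this
    have h3 : a.out * n0 * a.out⁻¹ = b.out * n0 * b.out⁻¹ := by
      have := congrArg (fun z => z⁻¹) h2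
      simpa [mul_assoc] using this
    calc n0 * (a.out⁻¹ * b.out) = a.out⁻¹ * (a.out * n0 * a.out⁻¹) * b.out := by group
      _ = a.out⁻¹ * b.out * n0 := by rw [h3]; group
  rw [Subgroup.card_eq_card_quotient_mul_card_subgroup N, hNc, pow_succ' p 2]
  exact Nat.mul_le_mul_right _ (hinj.trans hMc)

variable {A : Type*} [Group A] [Finite A]

theorem central_product (hp3 : 3 < p) (hR : IsPGroup p R) (hr : Cfsg.PRankLE p 2 R) (φ : A →* MulAut R)
    (hcop : (Nat.card A).Coprime p) (hodd : Odd (Nat.card A))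
    (hgen : ∀ H : Subgroup R, (∀ a r, r⁻¹ * φ a r ∈ H) → H = ⊤) :
    (∀ a b : R, a * b = b * a) ∨ ∃ W C : Subgroup R, W ⊔ C = ⊤ ∧ (∀ a ∈ W, ∀ b ∈ C, a * b = b * a) ∧
      (∃ a ∈ W, ∃ b ∈ W, a * b ≠ b * a) ∧ Nat.card W = p ^ 3 ∧ (∀ x ∈ W, x ^ p = 1) ∧ IsCyclic C ∧
      Subgroup.closure {x : R | x ∈ C ∧ x ^ p = 1} = ⁅W, W⁆ := by
  classical
  have hpp := (Fact.out : p.Prime)
  have hp2 : p ≠ 2 := by omega
  set W := Subgroup.closure {x : R | x ^ p = 1} with hWdef
  by_cases hsmall : Nat.card W ≤ p ^ 2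
  · exact Or.inl (CfsgLib.MetaAction.commutative_of_generated hp2 hR
      (CfsgLib.PGroupMeta.isMetacyclic hp3 hR hsmall) φ hcop hgen)
  right
  have hWe : ∀ x ∈ W, x ^ p = 1 := fun x hx => CfsgLib.PGroupOmega.pow_eq_one hp3 hR hr hx
  have hWall : ∀ x : R, x ^ p = 1 → x ∈ W := fun x hx => Subgroup.subset_closure hx
  haveI hWch : W.Characteristic := by
    rw [Subgroup.characteristic_iff_map_le]
    rintro e _ ⟨x, hx, rfl⟩
    exact hWall _ (by rw [← map_pow, hWe x hx, map_one])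
  have hW3 : Nat.card W = p ^ 3 := by
    have h := card_exp_le (hR.to_subgroup W) (CfsgLib.PGroupOmega.rankTwo_subgroup hr W)
      (fun x => Subtype.ext (hWe x x.2))
    obtain ⟨k, hk⟩ := IsPGroup.iff_card.1 (hR.to_subgroup W)
    rw [hk] at h hsmall ⊢
    have h1 := (Nat.pow_le_pow_iff_right hpp.one_lt).1 h
    have h2 : ¬ k ≤ 2 := fun hh => hsmall (Nat.pow_le_pow_right hpp.pos hh)
    congr 1; omega
  have hWnab : ∃ a ∈ W, ∃ b ∈ W, a * b ≠ b * a := by
    by_contra hall
    push_neg at hall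
    have h := hr W ⟨⟨fun a b => Subtype.ext (hall a a.2 b b.2)⟩⟩ hWe
    rw [hW3] at h
    exact absurd ((Nat.pow_le_pow_iff_right hpp.one_lt).1 h) (by omega)
  have hcl : ∀ a ∈ W, ∀ b ∈ W, ∀ c ∈ W, Commute ⁅a, b⁆ c := by
    intro a ha b hb c hc
    have h := CfsgLib.PGroupOmega.class_two_of_card_le (hR.to_subgroup W) hW3.le
    have h1 : ⁅⁅(⟨a, ha⟩ : W), (⟨b, hb⟩ : W)⁆, (⟨c, hc⟩ : W)⁆ = 1 := Subgroup.mem_bot.1 (h.le
      (Subgroup.commutator_mem_commutator (Subgroup.commutator_mem_commutator (Subgroup.mem_top _) (Subgroup.mem_top _))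
        (Subgroup.mem_top _)))
    exact congrArg Subtype.val (commutatorElement_eq_one_iff_mul_comm.1 h1)
  set Z := W ⊓ Subgroup.centralizer (W : Set R) with hZ
  haveI : Z.Characteristic := inferInstance
  have hcommZ : ∀ a ∈ W, ∀ b ∈ W, ⁅a, b⁆ ∈ Z := by
    intro a ha b hb
    refine Subgroup.mem_inf.2 ⟨?_, fun c hc => ((hcl a ha b hb c hc).eq).symm⟩
    rw [commutatorElement_def]
    exact mul_mem (mul_mem (mul_mem ha hb) (inv_mem ha)) (inv_mem hb)
  obtain ⟨j, hj⟩ := IsPGroup.iff_card.1 (hR.to_subgroup Z)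
  obtain ⟨a0, ha0, b0, hb0, hab0⟩ := hWnab
  have hjle : j ≤ 1 := by
    by_contra hlt
    set S := Z ⊔ Subgroup.zpowers a0 with hSdef
    have hgens : ∀ a ∈ (Z : Set R) ∪ {a0}, ∀ b ∈ (Z : Set R) ∪ {a0}, a * b = b * a := by
      rintro a (ha | ha) b (hb | hb)
      · exact ((Subgroup.mem_inf.1 hb).2 a (Subgroup.mem_inf.1 ha).1)
      · rw [Set.mem_singleton_iff.1 hb]; exact ((Subgroup.mem_inf.1 ha).2 a0 ha0).symm
      · rw [Set.mem_singleton_iff.1 ha]; exact (Subgroup.mem_inf.1 hb).2 a0 ha0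
      · rw [Set.mem_singleton_iff.1 ha, Set.mem_singleton_iff.1 hb]
    have hScl : Subgroup.closure ((Z : Set R) ∪ {a0}) = S := by
      rw [Subgroup.closure_union, Subgroup.closure_eq, ← Subgroup.zpowers_eq_closure]
    haveI := Subgroup.isMulCommutative_closure hgens
    have hSW : Subgroup.closure ((Z : Set R) ∪ {a0}) ≤ W :=
      hScl ▸ sup_le inf_le_left (Subgroup.zpowers_le.2 ha0)
    have h := hr (Subgroup.closure ((Z : Set R) ∪ {a0})) inferInstance (fun a ha => hWe a (hSW ha))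
    have heq : Z = Subgroup.closure ((Z : Set R) ∪ {a0}) := Subgroup.eq_of_le_of_card_ge
      (fun a ha => Subgroup.subset_closure (Or.inl ha))
      (h.trans (by rw [hj]; exact Nat.pow_le_pow_right hpp.pos (by omega)))
    exact hab0 ((Subgroup.mem_inf.1 (heq.ge (Subgroup.subset_closure (Or.inr rfl)))).2 b0 hb0).symm
  have hjge : 1 ≤ j := by
    by_contra h
    rw [show j = 0 by omega, pow_zero] at hj
    exact hab0 (commutatorElement_eq_one_iff_mul_comm.1
      (Subgroup.mem_bot.1 ((Subgroup.eq_bot_of_card_eq _ hj).le (hcommZ a0 ha0 b0 hb0))))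
  obtain rfl : j = 1 := by omega
  rw [pow_one] at hj
  have hgenZ : ∀ z ∈ Z, z ≠ 1 → Subgroup.zpowers z = Z := fun z hz hz1 =>
    Subgroup.eq_of_le_of_card_ge (Subgroup.zpowers_le.2 hz) (by
      rw [hj, Nat.card_zpowers]; exact (orderOf_eq_prime (hWe z (Subgroup.mem_inf.1 hz).1) hz1).ge)
  have hZcen : ∀ z ∈ Z, ∀ g : R, g * z = z * g := by
    intro z hz g
    have h := CfsgLib.PGroupRankTwo.step_central hR (bot_le : (⊥ : Subgroup R) ≤ Z) (by rw [hj]; simp) g hz
    rw [Subgroup.mem_bot, inv_mul_eq_one] at h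
    exact (mul_inv_eq_iff_eq_mul.1 h.symm)
  set C := Subgroup.centralizer (W : Set R) with hC
  haveI : C.Characteristic := inferInstance
  have hCZ : ∀ c ∈ C, c ^ p = 1 → c ∈ Z := fun c hc hcp => Subgroup.mem_inf.2 ⟨hWall c hcp, hc⟩
  have hw0 : ⁅a0, b0⁆ ≠ 1 := fun h => hab0 (commutatorElement_eq_one_iff_mul_comm.1 h)
  haveI hCcyc : IsCyclic C := by
    have hmem : ⁅a0, b0⁆ ∈ C := (Subgroup.mem_inf.1 (hcommZ a0 ha0 b0 hb0)).2
    refine (CfsgLib.UniqueSubgroup.cyclic_or_quaternion (hR.to_subgroup C) (z := (⟨⁅a0, b0⁆, hmem⟩ : C))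
      (by rw [Subgroup.orderOf_mk, orderOf_eq_prime (hWe _ (Subgroup.mem_inf.1 (hcommZ a0 ha0 b0 hb0)).1) hw0])
      (fun x hx => ?_)).resolve_right (fun h => hp2 h.1)
    obtain ⟨k, hk⟩ := Subgroup.mem_zpowers_iff.1
      ((hgenZ _ (hcommZ a0 ha0 b0 hb0) hw0).ge (hCZ x x.2 (congrArg Subtype.val hx)))
    exact Subgroup.mem_zpowers_iff.2 ⟨k, Subtype.ext hk⟩
  -- every element of `R` acts trivially on `W / Z`
  let K : Subgroup R :=
    { carrier := {d | d ∈ W ∧ ∀ r : R, ⁅r, d⁆ ∈ Z}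
      one_mem' := ⟨one_mem W, fun r => by rw [commutatorElement_one_right]; exact one_mem Z⟩
      mul_mem' := fun {a b} ha hb => ⟨mul_mem ha.1 hb.1, fun r => by
        rw [show ⁅r, a * b⁆ = ⁅r, a⁆ * (a * ⁅r, b⁆ * a⁻¹) by simp only [commutatorElement_def]; group]
        exact mul_mem (ha.2 r) ((inferInstance : Z.Normal).conj_mem _ (hb.2 r) a)⟩
      inv_mem' := fun {a} ha => ⟨inv_mem ha.1, fun r => by
        rw [show ⁅r, a⁻¹⁆ = a⁻¹ * ⁅r, a⁆⁻¹ * a⁻¹⁻¹ by simp only [commutatorElement_def]; group]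
        exact (inferInstance : Z.Normal).conj_mem _ (inv_mem (ha.2 r)) a⁻¹⟩ }
  have hKW : K = W := by
    by_contra hne
    haveI hKch : K.Characteristic := by
      rw [Subgroup.characteristic_iff_map_le]
      rintro e _ ⟨k, hk, rfl⟩
      refine ⟨CfsgLib.Small.apply_mem_of_char (C := W) e hk.1, fun r => ?_⟩
      have h := CfsgLib.Small.apply_mem_of_char (C := Z) e (hk.2 (e.symm r))
      rw [map_commutatorElement, MulEquiv.apply_symm_apply] at h
      exact h
    have hZK : Z ≤ K := fun z hz => ⟨(Subgroup.mem_inf.1 hz).1, fun r => by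
      rw [commutatorElement_eq_one_iff_mul_comm.2 (hZcen z hz r)]; exact one_mem Z⟩
    have hKZ : K ≠ Z := by
      intro hKeq
      have hlow : ∀ (j : ℕ) (N : Subgroup R), Nat.card N = j → N.Normal → N ≤ W → N ≤ Z := by
        intro j
        induction j using Nat.strong_induction_on with
        | _ j ih =>
          intro N hj hN hND
          haveI := hN
          by_cases hne : N = ⊥
          · rw [hne]; exact bot_le
          have hlt := CfsgLib.NarrowDerived.commutator_top_lt hR N hne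
          have hb := ih _ (hj ▸ lt_of_le_of_ne (Nat.le_of_dvd Nat.card_pos (Subgroup.card_dvd_of_le hlt.le))
            (fun h => hlt.ne (Subgroup.eq_of_le_of_card_ge hlt.le h.ge))) _ rfl inferInstance (hlt.le.trans hND)
          intro k hk
          rw [← hKeq]
          refine ⟨hND hk, fun r => ?_⟩
          rw [← commutatorElement_inv]
          exact inv_mem (hb (Subgroup.commutator_mem_commutator hk (Subgroup.mem_top r)))
      exact hab0 ((Subgroup.mem_inf.1 (hlow _ W rfl inferInstance le_rfl ha0)).2 b0 hb0).symm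
    have hK2 : Nat.card K = p ^ 2 := by
      obtain ⟨i, hi⟩ := IsPGroup.iff_card.1 (hR.to_subgroup K)
      have h1 : ¬ i ≤ 1 := fun h => hKZ (Subgroup.eq_of_le_of_card_ge hZK (by
        rw [hi, hj]
        calc p ^ i ≤ p ^ 1 := Nat.pow_le_pow_right hpp.pos h
          _ = p := pow_one p)).symm
      have h2 : ¬ 3 ≤ i := fun h => hne (Subgroup.eq_of_le_of_card_ge (fun k hk => hk.1) (by
        rw [hW3, hi]; exact Nat.pow_le_pow_right hpp.pos h))
      rw [hi]; congr 1; omega
    obtain ⟨v, hvW, hvK⟩ : ∃ v ∈ W, v ∉ K := by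
      by_contra h
      push_neg at h
      exact hne (le_antisymm (fun k hk => hk.1) h)
    have hstep : ∀ r : R, ∀ b ∈ W, ⁅r, b⁆ ∈ K := by
      intro r b hb
      have h := CfsgLib.PGroupRankTwo.step_central hR (show K ≤ W from fun k hk => hk.1)
        (by rw [hW3, hK2, ← pow_succ]) r hb
      have h2 := (inferInstance : K.Normal).conj_mem _ h b
      rw [commutatorElement_def]
      convert h2 using 1
      group
    have hKab : ∀ a ∈ K, ∀ b ∈ K, a * b = b * a := fun a ha b hb =>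
      congrArg Subtype.val (CfsgLib.PGroupOmega.commutative_of_card_le (hR.to_subgroup K) hK2.le ⟨a, ha⟩ ⟨b, hb⟩)
    set M := Subgroup.centralizer (K : Set R) with hM
    haveI : M.Characteristic := inferInstance
    have hspan : ∀ S : Subgroup R, K ≤ S → v ∈ S → S ≤ W → S = W := by
      intro S hKS hvS hSW
      refine Subgroup.eq_of_le_of_card_ge hSW ?_
      obtain ⟨i, hi⟩ := IsPGroup.iff_card.1 (hR.to_subgroup S)
      rw [hW3, hi]
      refine Nat.pow_le_pow_right hpp.pos ?_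
      by_contra h
      have heq : K = S := Subgroup.eq_of_le_of_card_ge hKS (by
        rw [hi, hK2]; exact Nat.pow_le_pow_right hpp.pos (by omega))
      exact hvK (heq.ge hvS)
    have hvM : v ∉ M := by
      intro hv
      have hWM : W ≤ M := (hspan (W ⊓ M) (le_inf (fun k hk => hk.1)
        (fun k hk => Subgroup.mem_centralizer_iff.2 fun l hl => hKab l hl k hk))
        (Subgroup.mem_inf.2 ⟨hvW, hv⟩) inf_le_left).ge.trans inf_le_right
      apply hKZ
      refine le_antisymm (fun k hk => Subgroup.mem_inf.2 ⟨hk.1, fun c hc => ?_⟩) hZK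
      exact (Subgroup.mem_centralizer_iff.1 (hWM hc) k hk).symm
    obtain ⟨u0, hu0, hu0Z⟩ : ∃ u0 ∈ K, u0 ∉ Z := by
      by_contra h
      push_neg at h
      exact hKZ (le_antisymm h hZK)
    have hspanK : ∀ u ∈ K, u ∉ Z → ∀ k ∈ K, ∃ i : ℤ, ∃ z ∈ Z, k = u ^ i * z := by
      intro u hu huZ k hk
      obtain ⟨i, z, hz, hk'⟩ := CfsgLib.MetaAction.scalar_of_card hpp (M := Z.subgroupOf K) (by
        have h := Subgroup.card_mul_index (Z.subgroupOf K)
        rw [Nat.card_congr (Subgroup.subgroupOfEquivOfLe hZK).toEquiv, hK2, hj, pow_two] at h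
        exact Nat.eq_of_mul_eq_mul_left hpp.pos h) (w := (⟨u, hu⟩ : K)) huZ ⟨k, hk⟩
      exact ⟨i, (z : R), hz, congrArg Subtype.val hk'⟩
    have hcommK : ∀ u ∈ K, u ∉ Z → ∀ m : R, m * u = u * m → m ∈ M := by
      intro u hu huZ m hm
      refine Subgroup.mem_centralizer_iff.2 fun k hk => ?_
      obtain ⟨i, z, hz, rfl⟩ := hspanK u hu huZ k hk
      exact ((((show Commute u m from hm.symm).zpow_left i)).mul_left (hZcen z hz m).symm).eq
    have huv0 : ⁅v, u0⁆ ≠ 1 := fun h => hvM (hcommK u0 hu0 hu0Z v (commutatorElement_eq_one_iff_mul_comm.1 h))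
    have hvu0Z : ⁅v, u0⁆ ∈ Z := hcommZ v hvW u0 hu0.1
    have hMv : ∀ r : R, ∃ e : ℤ, r * v ^ e ∈ M := by
      intro r
      obtain ⟨e, he⟩ := Subgroup.mem_zpowers_iff.1 ((hgenZ _ hvu0Z huv0).ge (hu0.2 r))
      refine ⟨-e, hcommK u0 hu0 hu0Z _ ?_⟩
      have h1 : ⁅v ^ (-e), u0⁆ = ⁅v, u0⁆ ^ (-e) := by
        have h := CfsgLib.MetaAction.comm_zpow_left (R := W) (z := ⟨⁅v, u0⁆, (Subgroup.mem_inf.1 hvu0Z).1⟩)
          (fun g => Subtype.ext (hZcen _ hvu0Z g.1).symm)
          (fun a b => by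
            obtain ⟨i, hi⟩ := Subgroup.mem_zpowers_iff.1 ((hgenZ _ hvu0Z huv0).ge (hcommZ _ a.2 _ b.2))
            exact Subgroup.mem_zpowers_iff.2 ⟨i, Subtype.ext hi⟩) ⟨v, hvW⟩ ⟨u0, hu0.1⟩ (-e)
        exact congrArg Subtype.val h
      rw [← commutatorElement_eq_one_iff_mul_comm]
      calc ⁅r * v ^ (-e), u0⁆ = r * ⁅v ^ (-e), u0⁆ * r⁻¹ * ⁅r, u0⁆ := by simp only [commutatorElement_def]; group
        _ = ⁅v, u0⁆ ^ (-e) * ⁅v, u0⁆ ^ e := by
          rw [h1, he]
          congr 1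
          rw [(show Commute r (⁅v, u0⁆ ^ (-e)) from hZcen _ (zpow_mem hvu0Z _) r).eq, mul_inv_cancel_right]
        _ = 1 := by rw [← zpow_add, neg_add_cancel, zpow_zero]
    obtain ⟨r, hrM, hrv⟩ : ∃ r ∈ M, ⁅r, v⁆ ∉ Z := by
      by_contra h
      push_neg at h
      apply hvK
      refine ⟨hvW, fun s => ?_⟩
      obtain ⟨e, he⟩ := hMv s
      have h1 := h _ he
      have h2 : ⁅s * v ^ e, v⁆ = ⁅s, v⁆ := by
        rw [commutatorElement_def, commutatorElement_def]; group
      rwa [h2] at h1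
    set u := ⁅r, v⁆ with hu
    have huK : u ∈ K := hstep r v hvW
    have hru : r * u = u * r := (Subgroup.mem_centralizer_iff.1 hrM u huK).symm
    have hpowconj : ∀ i : ℕ, r ^ i * v * (r ^ i)⁻¹ = u ^ i * v := by
      intro i
      induction i with
      | zero => simp
      | succ i ih =>
        calc r ^ (i + 1) * v * (r ^ (i + 1))⁻¹ = r * (r ^ i * v * (r ^ i)⁻¹) * r⁻¹ := by rw [pow_succ']; group
          _ = (r * u ^ i * r⁻¹) * (r * v * r⁻¹) := by rw [ih]; group
          _ = u ^ i * (u * v) := by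
            rw [((show Commute r u from hru).pow_right i).eq, mul_inv_cancel_right, hu, commutatorElement_def]
            group
          _ = u ^ (i + 1) * v := by rw [pow_succ]; group
    have hzconj : ∀ i : ℤ, r ^ i * v * (r ^ i)⁻¹ = u ^ i * v := by
      intro i
      rcases Int.eq_nat_or_neg i with ⟨n, rfl | rfl⟩
      · simpa using hpowconj n
      · have h := hpowconj n
        rw [zpow_neg, zpow_neg, zpow_natCast, zpow_natCast, inv_inv]
        have hc : (r ^ n)⁻¹ * (u ^ n)⁻¹ = (u ^ n)⁻¹ * (r ^ n)⁻¹ :=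
          (((show Commute r u from hru).pow_pow n n).inv_inv).eq
        calc (r ^ n)⁻¹ * v * r ^ n = (r ^ n)⁻¹ * (u ^ n)⁻¹ * (u ^ n * v) * r ^ n := by group
          _ = (u ^ n)⁻¹ * v := by rw [hc, ← h]; group
    have hCW : ∀ m ∈ M, m * v = v * m → m ∈ C := by
      intro m hm hmv
      refine Subgroup.mem_centralizer_iff.2 fun c hc => ?_
      have heq := hspan (W ⊓ Subgroup.centralizer {m}) (le_inf (fun k hk => hk.1)
        (fun k hk => Subgroup.mem_centralizer_singleton_iff.2 (Subgroup.mem_centralizer_iff.1 hm k hk)))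
        (Subgroup.mem_inf.2 ⟨hvW, Subgroup.mem_centralizer_singleton_iff.2 hmv.symm⟩) inf_le_left
      exact Subgroup.mem_centralizer_singleton_iff.1 (Subgroup.mem_inf.1 (heq.ge hc)).2
    have hrpC : r ^ p ∈ C := by
      refine hCW _ (pow_mem hrM p) ?_
      have h := hpowconj p
      rw [hWe u huK.1, one_mul] at h
      exact mul_inv_eq_iff_eq_mul.1 h
    obtain ⟨c0, hc0⟩ := hCcyc.exists_generator
    have hCgen : C = Subgroup.zpowers (r ^ p) := by
      refine le_antisymm ?_ (Subgroup.zpowers_le.2 hrpC)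
      obtain ⟨s, hs⟩ := Subgroup.mem_zpowers_iff.1 (hc0 ⟨r ^ p, hrpC⟩)
      have hs' : (c0 : R) ^ s = r ^ p := congrArg Subtype.val hs
      intro c hc
      obtain ⟨t, ht⟩ := Subgroup.mem_zpowers_iff.1 (hc0 ⟨c, hc⟩)
      have ht' : (c0 : R) ^ t = c := congrArg Subtype.val ht
      by_cases hps : (p : ℤ) ∣ s
      · exfalso
        obtain ⟨s', rfl⟩ := hps
        set d := (c0 : R) ^ s' with hd
        have hdC : d ∈ C := zpow_mem c0.2 s'
        have hdp : d ^ p = r ^ p := by rw [← hs', hd, ← zpow_natCast, ← zpow_mul, mul_comm]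
        set e := ⁅r, d⁆ with he
        have heC : e ∈ C := by
          rw [he, commutatorElement_def]
          exact mul_mem ((inferInstance : C.Normal).conj_mem _ hdC r) (inv_mem hdC)
        have hCab : ∀ a ∈ C, ∀ b ∈ C, Commute a b := by
          letI := IsCyclic.commGroup (α := C)
          exact fun a ha b hb => congrArg Subtype.val (mul_comm (⟨a, ha⟩ : C) ⟨b, hb⟩)
        have hep : e ^ p = 1 := by
          have h1 : r * d ^ p * r⁻¹ = d ^ p := by
            rw [hdp, ((Commute.refl r).pow_right p).eq, mul_inv_cancel_right]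
          rw [← conj_pow] at h1
          rw [he, commutatorElement_def, (hCab _ ((inferInstance : C.Normal).conj_mem _ hdC r) _ (inv_mem hdC)).mul_pow,
            h1, inv_pow, mul_inv_cancel]
        have hecen : ∀ g : R, g * e = e * g := hZcen e (hCZ e heC hep)
        have hrel : d⁻¹ * r = r * d⁻¹ * e := by
          calc d⁻¹ * r = d⁻¹ * e * (d * r * d⁻¹) := by rw [he, commutatorElement_def]; group
            _ = e * r * d⁻¹ := by rw [hecen d⁻¹]; group
            _ = r * d⁻¹ * e := by rw [mul_assoc, ← hecen (r * d⁻¹)]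
        have h2 := CfsgLib.Small.mul_pow_class_two hrel (fun_comm hecen r) (fun_comm hecen d⁻¹) p
        have hx : (r * d⁻¹) ^ p = 1 := by
          obtain ⟨k, hk⟩ := hpp.dvd_choose_self two_ne_zero (by omega : 2 < p)
          rw [h2, hk, pow_mul, hep, one_pow, mul_one, inv_pow, hdp, mul_inv_cancel]
        have hxW := hWall _ hx
        apply hrv
        have h3 : u = ⁅r * d⁻¹, v⁆ := by
          have hdv : d⁻¹ * v = v * d⁻¹ := ((Subgroup.mem_centralizer_iff.1 (inv_mem hdC)) v hvW).symm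
          rw [hu, commutatorElement_def, commutatorElement_def]
          calc r * v * r⁻¹ * v⁻¹ = r * (d⁻¹ * v * d) * r⁻¹ * v⁻¹ := by rw [hdv]; group
            _ = r * d⁻¹ * v * (r * d⁻¹)⁻¹ * v⁻¹ := by group
        rw [h3]
        exact hcommZ _ hxW _ hvW
      · obtain ⟨n, hn⟩ := hR (c0 : R)
        have hco : IsCoprime s ((p ^ n : ℕ) : ℤ) := by
          push_cast
          exact IsCoprime.pow_right (((Nat.prime_iff_prime_int.1 hpp).coprime_iff_not_dvd.2 hps).symm)
        obtain ⟨x, y, hxy⟩ := hco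
        refine Subgroup.mem_zpowers_iff.2 ⟨x * t, ?_⟩
        rw [← hs', ← zpow_mul, ← ht']
        have h1 : s * (x * t) = t + ((p ^ n : ℕ) : ℤ) * (-(y * t)) := by linear_combination t * hxy
        rw [h1, zpow_add, zpow_mul, zpow_natCast, hn, one_zpow, mul_one]
    -- `M` is abelian, generated by `r` and `K`
    have hMdec : ∀ m ∈ M, ∃ i : ℤ, ∃ k ∈ K, m = r ^ i * k := by
      intro m hm
      obtain ⟨i, z, hz, hmz⟩ := hspanK u huK hrv _ (hstep m v hvW)
      set m' := (r ^ i)⁻¹ * m with hm'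
      have h1 : ⁅m', v⁆ = z := by
        have hd : (r ^ i)⁻¹ * v * r ^ i = u ^ (-i) * v := by
          have := hzconj (-i)
          rwa [zpow_neg r, inv_inv] at this
        calc ⁅m', v⁆ = (r ^ i)⁻¹ * ⁅m, v⁆ * r ^ i * ((r ^ i)⁻¹ * v * r ^ i) * v⁻¹ := by
              rw [hm', commutatorElement_def, commutatorElement_def]; group
          _ = (r ^ i)⁻¹ * (u ^ i * z) * r ^ i * u ^ (-i) := by rw [hmz, hd]; group
          _ = z := by
            have hrz : Commute (r ^ i) z := hZcen z hz _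
            have hrui : Commute (r ^ i) (u ^ i) := (show Commute r u from hru).zpow_zpow i i
            have huz : Commute (u ^ i) z := hZcen z hz _
            rw [mul_assoc ((r ^ i)⁻¹), ← (hrui.mul_right hrz).eq, inv_mul_cancel_left, huz.eq, mul_assoc, ← zpow_add,
              add_neg_cancel, zpow_zero, mul_one]
      have huv1 : ⁅u, v⁆ ≠ 1 := fun h => hrv (by
        have h' := hCW u (Subgroup.mem_centralizer_iff.2 fun k hk => hKab k hk u huK)
          (commutatorElement_eq_one_iff_mul_comm.1 h)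
        exact Subgroup.mem_inf.2 ⟨huK.1, h'⟩)
      obtain ⟨e, he⟩ := Subgroup.mem_zpowers_iff.1 ((hgenZ _ (hcommZ u huK.1 v hvW) huv1).ge hz)
      have hue : ⁅u ^ (-e), v⁆ = ⁅u, v⁆ ^ (-e) := by
        have h := CfsgLib.MetaAction.comm_zpow_left (R := W) (z := ⟨⁅v, u0⁆, (Subgroup.mem_inf.1 hvu0Z).1⟩)
          (fun g => Subtype.ext (hZcen _ hvu0Z g.1).symm)
          (fun a b => by
            obtain ⟨i, hi⟩ := Subgroup.mem_zpowers_iff.1 ((hgenZ _ hvu0Z huv0).ge (hcommZ _ a.2 _ b.2))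
            exact Subgroup.mem_zpowers_iff.2 ⟨i, Subtype.ext hi⟩) ⟨u, huK.1⟩ ⟨v, hvW⟩ (-e)
        exact congrArg Subtype.val h
      have hm'M : m' ∈ M := mul_mem (inv_mem (zpow_mem hrM i)) hm
      set m'' := u ^ (-e) * m' with hm''
      have hm''C : m'' ∈ C := by
        refine hCW _ (mul_mem (Subgroup.mem_centralizer_iff.2 fun k hk =>
          hKab k hk _ (zpow_mem huK _)) hm'M) ?_
        rw [← commutatorElement_eq_one_iff_mul_comm]
        calc ⁅m'', v⁆ = u ^ (-e) * ⁅m', v⁆ * (u ^ (-e))⁻¹ * ⁅u ^ (-e), v⁆ := by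
              rw [hm'']; simp only [commutatorElement_def]; group
          _ = 1 := by
            rw [h1, hue, ← he, (show Commute (u ^ (-e)) (⁅u, v⁆ ^ e) from hZcen _ (zpow_mem (hcommZ u huK.1 v hvW) e) _).eq,
              mul_inv_cancel_right, ← zpow_add, add_neg_cancel, zpow_zero]
      rw [hCgen] at hm''C
      obtain ⟨l, hl⟩ := Subgroup.mem_zpowers_iff.1 hm''C
      refine ⟨i + (p : ℤ) * l, u ^ e, zpow_mem huK e, ?_⟩
      rw [zpow_add, zpow_mul, zpow_natCast, hl, mul_assoc, hm'',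
        (Subgroup.mem_centralizer_iff.1 hm'M (u ^ (-e)) (zpow_mem huK _)), mul_assoc, ← zpow_add, neg_add_cancel,
        zpow_zero, mul_one, hm', mul_inv_cancel_left]
    -- the weights
    have key : ∀ a : A, v⁻¹ * φ a v ∈ M := by
      intro a
      set α := φ a with hα
      have hαK : ∀ k ∈ K, α k ∈ K := fun k hk => CfsgLib.Small.apply_mem_of_char α hk
      obtain ⟨χ, k2, hk2, hαr⟩ := hMdec _ (CfsgLib.Small.apply_mem_of_char (C := M) α hrM)
      obtain ⟨d, k1, hk1, hαv⟩ : ∃ d : ℤ, ∃ k1 ∈ K, α v = v ^ d * k1 := by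
        obtain ⟨d, k1, hk1, h⟩ := CfsgLib.MetaAction.scalar_of_card hpp (M := K.subgroupOf W) (by
          have h := Subgroup.card_mul_index (K.subgroupOf W)
          rw [Nat.card_congr (Subgroup.subgroupOfEquivOfLe (show K ≤ W from fun k hk => hk.1)).toEquiv, hK2, hW3,
            pow_succ] at h
          exact Nat.eq_of_mul_eq_mul_left (pow_pos hpp.pos 2) h) (w := (⟨v, hvW⟩ : W)) hvK
          ⟨α v, CfsgLib.Small.apply_mem_of_char α hvW⟩
        exact ⟨d, (k1 : R), hk1, congrArg Subtype.val h⟩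
      have hαrp : α (r ^ p) = (r ^ p) ^ χ := by
        have hrk : Commute (r ^ χ) k2 := ((show Commute r k2 from (Subgroup.mem_centralizer_iff.1 hrM k2 hk2).symm).zpow_left χ)
        rw [map_pow, hαr, hrk.mul_pow, hWe k2 hk2.1, mul_one, ← zpow_natCast, ← zpow_mul, mul_comm, zpow_mul,
          zpow_natCast]
      have hαZ : ∀ z ∈ Z, α z = z ^ χ := by
        intro z hz
        obtain ⟨l, hl⟩ := Subgroup.mem_zpowers_iff.1 (hCgen.le (Subgroup.mem_inf.1 hz).2)
        rw [← hl, map_zpow, hαrp, ← zpow_mul, ← zpow_mul, mul_comm]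
      set mk := QuotientGroup.mk' Z with hmk
      have hWcomm : ∀ a ∈ W, ∀ b ∈ W, mk a * mk b = mk b * mk a := by
        intro a ha b hb
        rw [← commutatorElement_eq_one_iff_mul_comm, ← map_commutatorElement]
        exact (QuotientGroup.eq_one_iff _).2 (hcommZ a ha b hb)
      have hαu : ∃ z ∈ Z, α u = u ^ (χ * d) * z := by
        refine ⟨(u ^ (χ * d))⁻¹ * α u, ?_, by group⟩
        rw [← QuotientGroup.eq_one_iff]
        show mk ((u ^ (χ * d))⁻¹ * α u) = 1
        rw [map_mul, map_inv, inv_mul_eq_one, show α u = ⁅α r, α v⁆ from map_commutatorElement _ _ _, hαr, hαv]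
        have hk1c : (r ^ χ * k2) * k1 = k1 * (r ^ χ * k2) := by
          have hM2 : r ^ χ * k2 ∈ M := mul_mem (zpow_mem hrM χ) (Subgroup.mem_centralizer_iff.2 fun k hk => hKab k hk k2 hk2)
          exact (Subgroup.mem_centralizer_iff.1 hM2 k1 hk1).symm
        have e1 : ⁅r ^ χ * k2, v ^ d * k1⁆ = r ^ χ * (k2 * v ^ d * k2⁻¹) * (r ^ χ)⁻¹ * (v ^ d)⁻¹ := by
          calc ⁅r ^ χ * k2, v ^ d * k1⁆ = (r ^ χ * k2) * v ^ d * (k1 * (r ^ χ * k2)⁻¹ * k1⁻¹) * (v ^ d)⁻¹ := by
                rw [commutatorElement_def]; group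
            _ = _ := by
              rw [show k1 * (r ^ χ * k2)⁻¹ * k1⁻¹ = (r ^ χ * k2)⁻¹ by
                rw [← ((show Commute (r ^ χ * k2) k1 from hk1c).inv_left).eq, mul_inv_cancel_right]]
              group
        rw [e1]
        have e2 : mk (k2 * v ^ d * k2⁻¹) = mk (v ^ d) := by
          rw [map_mul, map_mul, hWcomm k2 hk2.1 _ (zpow_mem hvW d), mul_assoc, ← map_mul, mul_inv_cancel, map_one, mul_one]
        have e3 : r ^ χ * v ^ d * (r ^ χ)⁻¹ = (u ^ χ * v) ^ d := by rw [← hzconj, conj_zpow]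
        rw [map_mul, map_mul, map_mul, e2, ← map_mul, ← map_mul, e3, map_zpow mk (u ^ χ * v) d, map_mul, map_zpow mk u χ,
          (show Commute (mk u ^ χ) (mk v) from (show Commute (mk u) (mk v) from hWcomm u huK.1 v hvW).zpow_left χ).mul_zpow,
          map_inv, map_zpow mk v d, mul_inv_cancel_right, ← zpow_mul, map_zpow]
      obtain ⟨z, hz, hαu⟩ := hαu
      have huv1 : ⁅u, v⁆ ≠ 1 := fun h => hrv (by
        have h' := hCW u (Subgroup.mem_centralizer_iff.2 fun k hk => hKab k hk u huK)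
          (commutatorElement_eq_one_iff_mul_comm.1 h)
        exact Subgroup.mem_inf.2 ⟨huK.1, h'⟩)
      have hαw : α ⁅u, v⁆ = ⁅u, v⁆ ^ (χ * d * d) := by
        rw [map_commutatorElement, hαu, hαv]
        have e : ⁅u ^ (χ * d) * z, v ^ d * k1⁆ = ⁅u ^ (χ * d), v ^ d⁆ := by
          have hk1u : Commute k1 (u ^ (χ * d)) := hKab k1 hk1 _ (zpow_mem huK _)
          have hzc : ∀ g : R, Commute z g := fun g => (hZcen z hz g).symm
          calc ⁅u ^ (χ * d) * z, v ^ d * k1⁆
              = u ^ (χ * d) * (z * (v ^ d * k1)) * z⁻¹ * (u ^ (χ * d))⁻¹ * k1⁻¹ * (v ^ d)⁻¹ := by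
                rw [commutatorElement_def]; group
            _ = u ^ (χ * d) * v ^ d * (k1 * (u ^ (χ * d))⁻¹) * k1⁻¹ * (v ^ d)⁻¹ := by
                rw [(hzc (v ^ d * k1)).eq]; group
            _ = ⁅u ^ (χ * d), v ^ d⁆ := by rw [hk1u.inv_right.eq, commutatorElement_def]; group
        rw [e]
        let w' : W := ⟨⁅v, u0⁆, (Subgroup.mem_inf.1 hvu0Z).1⟩
        have hw'c : ∀ g : W, Commute w' g := fun g => Subtype.ext (hZcen _ hvu0Z g.1).symm
        have hw'g : ∀ a b : W, ⁅a, b⁆ ∈ Subgroup.zpowers w' := fun a b => by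
          obtain ⟨i, hi⟩ := Subgroup.mem_zpowers_iff.1 ((hgenZ _ hvu0Z huv0).ge (hcommZ _ a.2 _ b.2))
          exact Subgroup.mem_zpowers_iff.2 ⟨i, Subtype.ext hi⟩
        have h1 := CfsgLib.MetaAction.comm_zpow_left hw'c hw'g ⟨u, huK.1⟩ ((⟨v, hvW⟩ : W) ^ d) (χ * d)
        have h1' := CfsgLib.MetaAction.comm_zpow_right hw'c hw'g (⟨u, huK.1⟩ : W) (⟨v, hvW⟩ : W) d
        rw [h1', ← zpow_mul] at h1
        have h2 := congrArg Subtype.val h1
        have hexp : d * (χ * d) = χ * d * d := by ring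
        rw [hexp] at h2
        exact h2
      have hwZ := hcommZ u huK.1 v hvW
      have hdiv : (p : ℤ) ∣ χ * d * d - χ := by
        refine CfsgLib.MetaAction.unit_zpow huv1 (hWe _ (Subgroup.mem_inf.1 hwZ).1) ?_
        rw [zpow_sub, ← hαw, hαZ _ hwZ, mul_inv_cancel]
      have hχ : ¬ (p : ℤ) ∣ χ := by
        rintro ⟨c, hc⟩
        have h1 := hαZ _ hwZ
        rw [hc, zpow_mul, zpow_natCast, hWe _ (Subgroup.mem_inf.1 hwZ).1, one_zpow] at h1
        exact huv1 (α.injective (by rw [h1, map_one]))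
      have h3 : (p : ℤ) ∣ χ * ((d - 1) * (d + 1)) := by
        obtain ⟨c, hc⟩ := hdiv
        exact ⟨c, by linear_combination hc⟩
      have hK' : ∀ k ∈ K, k ∈ M := fun k hk => Subgroup.mem_centralizer_iff.2 fun l hl => hKab l hl k hk
      rcases (Nat.prime_iff_prime_int.1 hpp).dvd_or_dvd
        (((Nat.prime_iff_prime_int.1 hpp).dvd_or_dvd h3).resolve_left hχ) with h | h
      · obtain ⟨c, hc⟩ := h
        rw [hαv, ← mul_assoc, ← zpow_neg_one, ← zpow_add, show (-1 : ℤ) + d = d - 1 by ring, hc, zpow_mul,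
          zpow_natCast, hWe v hvW, one_zpow, one_mul]
        exact hK' k1 hk1
      · exfalso
        obtain ⟨c, hc⟩ := h
        set mkK := QuotientGroup.mk' K with hmkK
        have hbase : mkK (α v) = (mkK v) ^ (-1 : ℤ) := by
          rw [hαv, map_mul, show mkK k1 = 1 from (QuotientGroup.eq_one_iff k1).2 hk1, mul_one, map_zpow,
            show d = (p : ℤ) * c + -1 by linear_combination hc, zpow_add, zpow_mul, zpow_natCast, ← map_pow,
            hWe v hvW, map_one, one_zpow, one_mul]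
        have hiter : ∀ n : ℕ, mkK ((α ^ n) v) = (mkK v) ^ ((-1 : ℤ) ^ n) := by
          intro n
          induction n with
          | zero => simp
          | succ n ih =>
            set y := (α ^ n) v with hy
            have hy' : y = v ^ ((-1 : ℤ) ^ n) * ((v ^ ((-1 : ℤ) ^ n))⁻¹ * y) := by group
            have hkK : (v ^ ((-1 : ℤ) ^ n))⁻¹ * y ∈ K := by
              rw [← QuotientGroup.eq_one_iff]
              show mkK ((v ^ ((-1 : ℤ) ^ n))⁻¹ * y) = 1
              rw [map_mul, map_inv, map_zpow, ih, inv_mul_cancel]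
            rw [pow_succ' α n, MulAut.mul_apply, ← hy, hy', map_mul, map_zpow, map_mul, map_zpow, hbase,
              show mkK (α ((v ^ ((-1 : ℤ) ^ n))⁻¹ * y)) = 1 from (QuotientGroup.eq_one_iff _).2 (hαK _ hkK), mul_one,
              ← zpow_mul, pow_succ']
        have h1 := hiter (Nat.card A)
        rw [hα, ← map_pow, pow_card_eq_one', map_one, MulAut.one_apply, hodd.neg_one_pow, zpow_neg_one,
          eq_inv_iff_mul_eq_one, ← map_mul] at h1
        have h2 : v * v ∈ K := (QuotientGroup.eq_one_iff _).1 h1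
        apply hvK
        obtain ⟨m, hm⟩ : ∃ m, p = 2 * m + 1 := by
          rcases hpp.eq_two_or_odd with h | h
          · exact absurd h hp2
          · exact ⟨p / 2, by omega⟩
        have h4 := hWe v hvW
        rw [hm, pow_succ, pow_mul, pow_two] at h4
        rw [eq_inv_of_mul_eq_one_right h4]
        exact inv_mem (pow_mem h2 m)
    have htop : M = ⊤ := by
      refine hgen M fun a s => ?_
      obtain ⟨e, he⟩ := hMv s
      have hkey := key a
      rw [← QuotientGroup.eq]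
      have hs : (QuotientGroup.mk s : R ⧸ M) = QuotientGroup.mk (v ^ (-e)) := by
        rw [QuotientGroup.eq]
        have h5 := (inferInstance : M.Normal).conj_mem _ (inv_mem he) (v ^ e)
        convert h5 using 1
        group
      have hs' : (QuotientGroup.mk (φ a s) : R ⧸ M) = QuotientGroup.mk (φ a (v ^ (-e))) := by
        rw [QuotientGroup.eq, ← map_inv, ← map_mul]
        exact CfsgLib.Small.apply_mem_of_char (C := M) (φ a) ((QuotientGroup.eq).1 hs)
      rw [hs, hs', map_zpow, QuotientGroup.mk_zpow, QuotientGroup.mk_zpow, QuotientGroup.eq.2 hkey]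
    exact hvM (htop.ge (Subgroup.mem_top v))
  refine ⟨W, C, ?_, fun a ha b hb => Subgroup.mem_centralizer_iff.1 hb a ha, ⟨a0, ha0, b0, hb0, hab0⟩, hW3, hWe,
    hCcyc, ?_⟩
  · rw [eq_top_iff]
    intro r _
    have hgenW : Subgroup.closure ({a0, b0} : Set R) = W := by
      have hle : Subgroup.closure ({a0, b0} : Set R) ≤ W := (Subgroup.closure_le W).2 (by
        rintro a (ha | ha)
        · exact ha ▸ ha0
        · exact (Set.mem_singleton_iff.1 ha) ▸ hb0)
      refine Subgroup.eq_of_le_of_card_ge hle ?_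
      obtain ⟨b, hb⟩ := IsPGroup.iff_card.1 (hR.to_subgroup (Subgroup.closure ({a0, b0} : Set R)))
      rw [hW3, hb]
      refine Nat.pow_le_pow_right hpp.pos ?_
      by_contra h
      refine hab0 ?_
      exact congrArg Subtype.val (CfsgLib.PGroupOmega.commutative_of_card_le
        (hR.to_subgroup (Subgroup.closure ({a0, b0} : Set R))) (hb ▸ Nat.pow_le_pow_right hpp.pos (by omega))
        ⟨a0, Subgroup.subset_closure (Or.inl rfl)⟩ ⟨b0, Subgroup.subset_closure (Or.inr rfl)⟩)
    have hwZ := hcommZ a0 ha0 b0 hb0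
    obtain ⟨a, ha⟩ := Subgroup.mem_zpowers_iff.1 ((hgenZ _ hwZ hw0).ge ((hKW.ge ha0).2 r))
    obtain ⟨b, hb⟩ := Subgroup.mem_zpowers_iff.1 ((hgenZ _ hwZ hw0).ge ((hKW.ge hb0).2 r))
    let w' : W := ⟨⁅a0, b0⁆, (Subgroup.mem_inf.1 hwZ).1⟩
    have hw'c : ∀ g : W, Commute w' g := fun g => Subtype.ext (hZcen _ hwZ g.1).symm
    have hw'g : ∀ x y : W, ⁅x, y⁆ ∈ Subgroup.zpowers w' := fun x y => by
      obtain ⟨i, hi⟩ := Subgroup.mem_zpowers_iff.1 ((hgenZ _ hwZ hw0).ge (hcommZ _ x.2 _ y.2))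
      exact Subgroup.mem_zpowers_iff.2 ⟨i, Subtype.ext hi⟩
    set U : W := ⟨a0, ha0⟩ with hU
    set V : W := ⟨b0, hb0⟩ with hV
    set D : W := U ^ b * V ^ (-a) with hD
    have hwUV : ⁅U, V⁆ = w' := rfl
    have h1 : ⁅D, U⁆ = w' ^ a := by
      rw [hD, CfsgLib.MetaAction.comm_mul_left hw'c hw'g, CfsgLib.MetaAction.comm_zpow_left hw'c hw'g,
        CfsgLib.MetaAction.comm_zpow_left hw'c hw'g, commutatorElement_self, one_zpow, one_mul,
        ← commutatorElement_inv U V, hwUV, inv_zpow', neg_neg]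
    have h2 : ⁅D, V⁆ = w' ^ b := by
      rw [hD, CfsgLib.MetaAction.comm_mul_left hw'c hw'g, CfsgLib.MetaAction.comm_zpow_left hw'c hw'g,
        CfsgLib.MetaAction.comm_zpow_left hw'c hw'g, commutatorElement_self, one_zpow, mul_one, hwUV]
    have h1' : ⁅(D : R), a0⁆ = ⁅r, a0⁆ := (congrArg Subtype.val h1).trans ha
    have h2' : ⁅(D : R), b0⁆ = ⁅r, b0⁆ := (congrArg Subtype.val h2).trans hb
    have hcen : (D : R)⁻¹ * r ∈ C := by
      suffices hsuf : ∀ x ∈ ({a0, b0} : Set R), x * ((D : R)⁻¹ * r) = (D : R)⁻¹ * r * x by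
        refine Subgroup.mem_centralizer_iff.2 fun x hx => ?_
        have hle : Subgroup.closure ({a0, b0} : Set R) ≤ Subgroup.centralizer {(D : R)⁻¹ * r} :=
          (Subgroup.closure_le _).2 fun y hy => Subgroup.mem_centralizer_singleton_iff.2 (hsuf y hy)
        exact Subgroup.mem_centralizer_singleton_iff.1 (hle (hgenW.ge hx))
      intro x hx
      have hx' : ⁅(D : R), x⁆ = ⁅r, x⁆ := by
        rcases hx with hx | hx
        · rw [hx]; exact h1'
        · rw [Set.mem_singleton_iff.1 hx]; exact h2'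
      rw [commutatorElement_def, commutatorElement_def] at hx'
      have h3 : (D : R) * x * (D : R)⁻¹ = r * x * r⁻¹ := mul_right_cancel hx'
      calc x * ((D : R)⁻¹ * r) = (D : R)⁻¹ * ((D : R) * x * (D : R)⁻¹) * r := by group
        _ = (D : R)⁻¹ * r * x := by rw [h3]; group
    rw [show r = (D : R) * ((D : R)⁻¹ * r) by group]
    exact Subgroup.mul_mem_sup D.2 hcen
  · refine le_antisymm ((Subgroup.closure_le _).2 fun x hx => ?_) (Subgroup.commutator_le.2 fun a ha b hb => ?_)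
    · obtain ⟨k, hk⟩ := Subgroup.mem_zpowers_iff.1 ((hgenZ _ (hcommZ a0 ha0 b0 hb0) hw0).ge (hCZ x hx.1 hx.2))
      rw [SetLike.mem_coe, ← hk]
      exact zpow_mem (Subgroup.commutator_mem_commutator ha0 hb0) k
    · have h := hcommZ a ha b hb
      exact Subgroup.subset_closure ⟨(Subgroup.mem_inf.1 h).2, hWe _ (Subgroup.mem_inf.1 h).1⟩
where
  fun_comm {G : Type u} [Group G] {e : G} (h : ∀ g, g * e = e * g) (g : G) : Commute e g := (h g).symm

end CfsgLib.RankTwoCentral
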