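import Cfsg.Agent.Lib.PGroup.AvoidFixedExtra

/-!
An element of a normal odd `p`-subgroup of a finite group acting nontrivially on an abelian group of
order prime to `p` has all its conjugates moving a common vector.
-/

set_option autoImplicit false
set_option linter.unusedSectionVars false
set_option maxHeartbeats 1000000

namespace CfsgLib.Avoid

open scoped commutatorElement

universe u

/-- The conclusion. -/
def Good (N : Type u) [Group N] (V : Type u) [AddCommGroup V] [DistribMulAction N V] (a : N) : Prop :=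
  ∃ w : V, ∀ y : N, (y * a * y⁻¹) • w ≠ w

variable {p : ℕ} [Fact p.Prime]

/-- The statement, for groups `V` of order at most `n`. -/
def Stmt (p : ℕ) (n : ℕ) : Prop :=
  ∀ (V : Type u) [AddCommGroup V] [Finite V], Nat.card V ≤ n → ¬ p ∣ Nat.card V →
    ∀ (N : Type u) [Group N] [Finite N] [DistribMulAction N V] (P : Subgroup N), P.Normal → IsPGroup p P →
      ∀ a ∈ P, (∀ w : V, a ^ p • w = w) → (∃ w : V, a • w ≠ w) → Good N V a

variable {N : Type u} [Group N] [Finite N] {V : Type u} [AddCommGroup V] [Finite V] [DistribMulAction N V]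

/-- An invariant subgroup on which `a` acts nontrivially. -/
theorem good_of_sub {n : ℕ} (ih : Stmt.{u} p n) (hcop : ¬ p ∣ Nat.card V) {P : Subgroup N} (hP : P.Normal)
    (hPp : IsPGroup p P) {a : N} (ha : a ∈ P) (hap : ∀ w : V, a ^ p • w = w) (W : AddSubgroup V)
    (hW : ∀ g : N, ∀ w ∈ W, g • w ∈ W) (hWc : Nat.card W ≤ n) (hmv : ∃ w ∈ W, a • w ≠ w) : Good N V a := by
  letI : DistribMulAction N W :=
    { smul := fun g w => ⟨g • (w : V), hW g w w.2⟩
      one_smul := fun w => Subtype.ext (one_smul N (w : V))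
      mul_smul := fun g h w => Subtype.ext (mul_smul g h (w : V))
      smul_zero := fun g => Subtype.ext (smul_zero g)
      smul_add := fun g x y => Subtype.ext (smul_add g (x : V) (y : V)) }
  obtain ⟨w₀, hw₀, hw₀a⟩ := hmv
  obtain ⟨w, hw⟩ := ih W hWc (fun h => hcop (h.trans W.card_addSubgroup_dvd_card)) N P hP hPp a ha
    (fun w => Subtype.ext (hap w)) ⟨⟨w₀, hw₀⟩, fun h => hw₀a (congrArg Subtype.val h)⟩
  exact ⟨w, fun y h => hw y (Subtype.ext h)⟩

/-- An invariant subgroup on whose quotient `a` acts nontrivially. -/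
theorem good_of_quot {n : ℕ} (ih : Stmt.{u} p n) (hcop : ¬ p ∣ Nat.card V) {P : Subgroup N} (hP : P.Normal)
    (hPp : IsPGroup p P) {a : N} (ha : a ∈ P) (hap : ∀ w : V, a ^ p • w = w) (W : AddSubgroup V)
    (hW : ∀ g : N, ∀ w ∈ W, g • w ∈ W) (hWc : Nat.card (V ⧸ W) ≤ n) (hmv : ∃ w : V, a • w - w ∉ W) :
    Good N V a := by
  let act : N → (V ⧸ W) →+ (V ⧸ W) := fun g => QuotientAddGroup.map W W (DistribSMul.toAddMonoidHom V g)
    (fun w hw => hW g w hw)
  letI : DistribMulAction N (V ⧸ W) :=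
    { smul := fun g x => act g x
      one_smul := fun x => by
        obtain ⟨w, rfl⟩ := QuotientAddGroup.mk'_surjective W x
        exact congrArg (QuotientAddGroup.mk' W) (one_smul N w)
      mul_smul := fun g h x => by
        obtain ⟨w, rfl⟩ := QuotientAddGroup.mk'_surjective W x
        exact congrArg (QuotientAddGroup.mk' W) (mul_smul g h w)
      smul_zero := fun g => map_zero (act g)
      smul_add := fun g x y => map_add (act g) x y }
  have hmk : ∀ (g : N) (w : V), g • (QuotientAddGroup.mk' W w) = QuotientAddGroup.mk' W (g • w) := fun _ _ => rfl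
  obtain ⟨w₀, hw₀⟩ := hmv
  obtain ⟨x, hx⟩ := ih (V ⧸ W) hWc (fun h => hcop (h.trans W.card_quotient_dvd_card)) N P hP hPp a ha
    (fun x => by
      obtain ⟨w, rfl⟩ := QuotientAddGroup.mk'_surjective W x
      rw [hmk, hap])
    ⟨QuotientAddGroup.mk' W w₀, fun h => hw₀ (by
      rw [hmk] at h
      rwa [← QuotientAddGroup.eq_zero_iff, ← QuotientAddGroup.mk'_apply, map_sub, sub_eq_zero])⟩
  obtain ⟨w, rfl⟩ := QuotientAddGroup.mk'_surjective W x
  exact ⟨w, fun y h => hx y (by rw [hmk, h])⟩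

/-- The case of a noncyclic invariant abelian subgroup. -/
theorem good_of_blocks {n : ℕ} (ih : Stmt.{u} p n) (hp2 : p ≠ 2) (hn : Nat.card V ≤ n + 1) (hcop : ¬ p ∣ Nat.card V)
    {P : Subgroup N} (hP : P.Normal) (hPp : IsPGroup p P) (hfaith : ∀ g : N, (∀ w : V, g • w = w) → g = 1)
    (hirr : ∀ W : AddSubgroup V, (∀ g : N, ∀ w ∈ W, g • w ∈ W) → W = ⊥ ∨ W = ⊤)
    {a : N} (ha : a ∈ P) (hap : ∀ w : V, a ^ p • w = w) (hmv : ∃ w : V, a • w ≠ w)
    {A : Subgroup N} (hAn : A.Normal) (hAP : A ≤ P) (hAc : ∀ x ∈ A, ∀ y ∈ A, Commute x y)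
    (hAe : ∀ x ∈ A, x ^ p = 1) (hbig : p < Nat.card A) : Good N V a := by
  classical
  have hp := (Fact.out : p.Prime)
  haveI := hAn
  haveI : Nontrivial V := by
    obtain ⟨w, hw⟩ := hmv
    exact ⟨⟨a • w, w, hw⟩⟩
  -- no vector is fixed by `A`
  have hA0 : (fixB A : AddSubgroup V) = ⊥ := by
    refine (hirr (fixB A) fun g w hw x hx => ?_).resolve_right fun htop => ?_
    · have h1 : g⁻¹ * x * g ∈ A := by simpa using hAn.conj_mem x hx g⁻¹
      rw [← mul_smul, show x * g = g * (g⁻¹ * x * g) by group, mul_smul, hw _ h1]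
    · have hbot : A = ⊥ := (Subgroup.eq_bot_iff_forall A).mpr fun x hx => hfaith x fun w =>
        ((htop ▸ AddSubgroup.mem_top w : w ∈ fixB A)) x hx
      rw [hbot, Subgroup.card_bot] at hbig
      have := hp.one_lt
      omega
  -- a nontrivial subgroup with fixed vectors
  obtain ⟨B₀, hB₀, hB₀ne⟩ : ∃ B, IsBlock V A B ∧ B ≠ ⊥ := by
    have h0 : (fixB (⊥ : Subgroup N) : AddSubgroup V) ≠ ⊥ := by
      intro h
      obtain ⟨w, hw⟩ := exists_ne (0 : V)
      exact hw ((AddSubgroup.eq_bot_iff_forall _).mp h w fun b hb => by rw [Subgroup.mem_bot.mp hb, one_smul])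
    obtain ⟨B, -, hB⟩ := exists_block (V := V) (bot_le : (⊥ : Subgroup N) ≤ A) h0
    refine ⟨B, hB, fun hBe => ?_⟩
    subst hBe
    obtain ⟨x, hx, hx1⟩ : ∃ x ∈ A, x ≠ 1 := by
      by_contra h
      push Not at h
      rw [(Subgroup.eq_bot_iff_forall A).mpr h, Subgroup.card_bot] at hbig
      have := hp.one_lt
      omega
    have hle := Subgroup.card_le_of_le (hB.cover hcop hAc hAe hx (fun h => hx1 (Subgroup.mem_bot.mp h)))
    rw [bot_sup_eq, Nat.card_zpowers, orderOf_eq_prime (hAe x hx) hx1] at hle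
    omega
  let C₀ : AddSubgroup V := fixB B₀
  have hC₀card : Nat.card C₀ ≤ n := by
    have hne : C₀ ≠ ⊤ := fun h => hB₀ne ((Subgroup.eq_bot_iff_forall B₀).mpr fun x hx => hfaith x fun w =>
      ((h ▸ AddSubgroup.mem_top w : w ∈ C₀)) x hx)
    have h1 := C₀.card_mul_index
    have h2 : 1 < C₀.index := by
      have := C₀.index_ne_zero_of_finite
      have : C₀.index ≠ 1 := fun h => hne (AddSubgroup.index_eq_one.mp h)
      omega
    have h3 : 0 < Nat.card C₀ := Nat.card_pos
    nlinarith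
  -- the conjugates of `B₀`
  let cj : N → Subgroup N := fun g => B₀.map (MulAut.conj g).toMonoidHom
  have hcjmul : ∀ g h : N, (cj h).map (MulAut.conj g).toMonoidHom = cj (g * h) := fun g h => by
    simp only [cj, Subgroup.map_map]
    congr 1
    ext x
    simp [mul_assoc]
  have hcj1 : ∀ S : Subgroup N, S.map (MulAut.conj (1 : N)).toMonoidHom = S := fun S => by
    ext x
    simp
  have hcjA : ∀ g, cj g ≤ A := by
    rintro g _ ⟨b, hb, rfl⟩
    exact hAn.conj_mem b (hB₀.1 hb) g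
  have hcjblock : ∀ g, IsBlock V A (cj g) := by
    intro g
    refine ⟨hcjA g, fun e => ?_, fun B' hlt hB' => (AddSubgroup.eq_bot_iff_forall _).mpr fun w hw => ?_⟩
    · exact hB₀.2.1 ((AddSubgroup.eq_bot_iff_forall _).mpr fun w hw => (smul_eq_zero_iff_eq g).mp
        ((AddSubgroup.eq_bot_iff_forall _).mp e _ (smul_mem_fixB_map g hw)))
    · have h1 : B₀ < B'.map (MulAut.conj g⁻¹).toMonoidHom := by
        have h0 : B₀ = (cj g).map (MulAut.conj g⁻¹).toMonoidHom := by
          rw [hcjmul, inv_mul_cancel]; exact (hcj1 B₀).symm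
        rw [h0]
        exact (Subgroup.map_lt_map_iff_of_injective (MulEquiv.injective _)).mpr hlt
      have h2 : B'.map (MulAut.conj g⁻¹).toMonoidHom ≤ A := by
        rintro _ ⟨b, hb, rfl⟩
        exact hAn.conj_mem b (hB' hb) g⁻¹
      exact (smul_eq_zero_iff_eq g⁻¹).mp
        ((AddSubgroup.eq_bot_iff_forall _).mp (hB₀.2.2 _ h1 h2) _ (smul_mem_fixB_map g⁻¹ hw))
  let Ω := {S : Subgroup N // ∃ g, S = cj g}
  haveI : Fintype Ω := Fintype.ofFinite Ω
  letI : MulAction N Ω :=
    { smul := fun g S => ⟨S.1.map (MulAut.conj g).toMonoidHom, by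
        obtain ⟨h, hh⟩ := S.2
        exact ⟨g * h, by rw [hh, hcjmul]⟩⟩
      one_smul := fun S => Subtype.ext (hcj1 S.1)
      mul_smul := fun g h S => Subtype.ext (by
        obtain ⟨k, hk⟩ := S.2
        show S.1.map (MulAut.conj (g * h)).toMonoidHom = (S.1.map (MulAut.conj h).toMonoidHom).map (MulAut.conj g).toMonoidHom
        rw [hk, hcjmul, hcjmul, hcjmul, mul_assoc]) }
  have hsmul : ∀ (g : N) (S : Ω), (g • S).1 = S.1.map (MulAut.conj g).toMonoidHom := fun _ _ => rfl
  have hΩblock : ∀ S : Ω, IsBlock V A S.1 := fun S => by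
    obtain ⟨g, hg⟩ := S.2
    rw [hg]
    exact hcjblock g
  have hindep : ∀ f : Ω → V, (∀ S, f S ∈ fixB S.1) → ∑ S, f S = 0 → ∀ S, f S = 0 := fun f hf hs =>
    indep hcop (fun S : Ω => S.1) (fun S => (hPp.to_le ((hΩblock S).1.trans hAP)))
      (fun S T b hb b' hb' => hAc b ((hΩblock S).1 hb) b' ((hΩblock T).1 hb'))
      (fun S T hST w hw hw' => (hΩblock S).dis (hΩblock T) (fun e => hST (Subtype.ext e)) w hw hw') f hf hs
  -- a vector fixed by `x` has components permuted by `x`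
  have hperm : ∀ (x : N) (f : Ω → V), (∀ S, f S ∈ fixB S.1) → x • (∑ S, f S) = ∑ S, f S →
      ∀ S, x • f S = f (x • S) := by
    intro x f hf hx S
    have hmem : ∀ T : Ω, x • f (x⁻¹ • T) ∈ fixB T.1 := fun T => by
      have h := smul_mem_fixB_map x (hf (x⁻¹ • T))
      rwa [← hsmul, smul_inv_smul] at h
    have hsum : ∑ T, (x • f (x⁻¹ • T) - f T) = 0 := by
      rw [Finset.sum_sub_distrib, sub_eq_zero, ← hx, Finset.smul_sum]
      exact Equiv.sum_comp (MulAction.toPerm x⁻¹) fun T => x • f T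
    have h := sub_eq_zero.mp (hindep (fun T => x • f (x⁻¹ • T) - f T)
      (fun T => (fixB T.1).sub_mem (hmem T) (hf T)) hsum (x • S))
    rwa [inv_smul_smul] at h
  obtain ⟨w₀, hw₀⟩ : ∃ w, w ∈ C₀ ∧ w ≠ 0 := by
    by_contra h
    push Not at h
    exact hB₀.2.1 ((AddSubgroup.eq_bot_iff_forall _).mpr h)
  choose rep hrep using fun S : Ω => S.2
  have hrepmem : ∀ (S : Ω) (w : V), w ∈ C₀ → rep S • w ∈ fixB S.1 := fun S w hw => by
    have := smul_mem_fixB_map (rep S) hw
    rwa [show B₀.map (MulAut.conj (rep S)).toMonoidHom = S.1 from (hrep S).symm] at this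
  by_cases hfix : ∀ S : Ω, a • S = S
  swap
  · -- `a` moves a block
    obtain ⟨Γ, hΓ⟩ := CfsgLib.RegularSet.exists_set hp2 (Nat.card Ω) P hPp Ω le_rfl
    let f : Ω → V := fun S => if S ∈ Γ then rep S • w₀ else 0
    have hf : ∀ S, f S ∈ fixB S.1 := fun S => by
      by_cases h : S ∈ Γ
      · simp only [f, h, if_true]; exact hrepmem S w₀ hw₀.1
      · simp only [f, h, if_false]; exact zero_mem _
    have hf0 : ∀ S, f S = 0 ↔ S ∉ Γ := fun S => by
      by_cases h : S ∈ Γ
      · simp only [f, h, if_true, not_true, iff_false, smul_eq_zero_iff_eq]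
        exact hw₀.2
      · simp [f, h]
    refine ⟨∑ S, f S, fun y hy => hfix fun S => ?_⟩
    set x := y * a * y⁻¹ with hx
    have hxP : x ∈ P := hP.conj_mem a ha y
    have h1 := hperm x f hf hy
    have h2 : ∀ S : Ω, x • S = S := fun S => hΓ ⟨x, hxP⟩ (fun T => by
      show T ∈ Γ ↔ x • T ∈ Γ
      have h3 := hf0 T
      have h4 := hf0 (x • T)
      rw [← h1 T, smul_eq_zero_iff_eq] at h4
      tauto) S
    rw [show a = y⁻¹ * x * y by rw [hx]; group, mul_smul, mul_smul, h2, inv_smul_smul]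
  · -- `a` fixes every block
    have hsup : ∀ w : V, w ∈ ⨆ g : N, (fixB (cj g) : AddSubgroup V) := by
      have hinv : ∀ g : N, ∀ w ∈ ⨆ h : N, (fixB (cj h) : AddSubgroup V), g • w ∈ ⨆ h : N, (fixB (cj h) : AddSubgroup V) := by
        intro g w hw
        refine AddSubgroup.iSup_induction (fun h : N => (fixB (cj h) : AddSubgroup V)) (C := fun w => g • w ∈ ⨆ h : N, (fixB (cj h) : AddSubgroup V)) hw (fun h v hv => ?_) ?_ (fun v v' hv hv' => ?_)
        · refine AddSubgroup.mem_iSup_of_mem (g * h) ?_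
          rw [← hcjmul]
          exact smul_mem_fixB_map g hv
        · rw [smul_zero]; exact zero_mem _
        · rw [smul_add]; exact add_mem hv hv'
      intro w
      rcases hirr _ hinv with h | h
      · exfalso
        refine hB₀.2.1 (eq_bot_iff.mpr ?_)
        rw [← h]
        refine le_trans ?_ (le_iSup (fun g : N => (fixB (cj g) : AddSubgroup V)) 1)
        rw [show cj 1 = B₀ from hcj1 B₀]
      · rw [h]; exact AddSubgroup.mem_top w
    -- a block on which `a` acts nontrivially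
    obtain ⟨g, v, hv, hva⟩ : ∃ g : N, ∃ v ∈ (fixB (cj g) : AddSubgroup V), a • v ≠ v := by
      by_contra h
      push Not at h
      obtain ⟨w, hw⟩ := hmv
      refine hw (AddSubgroup.iSup_induction (fun g : N => (fixB (cj g) : AddSubgroup V)) (C := fun w => a • w = w) (hsup w) h (smul_zero a) fun v v' hv hv' => ?_)
      rw [smul_add, hv, hv']
    set a₀ := g⁻¹ * a * g with ha₀
    let L : Subgroup N := MulAction.stabilizer N (⟨cj 1, 1, rfl⟩ : Ω)
    have hLmem : ∀ x : N, x ∈ L ↔ cj x = B₀ := fun x => by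
      rw [MulAction.mem_stabilizer_iff, Subtype.ext_iff, hsmul, hcjmul, mul_one]
      show cj x = cj 1 ↔ cj x = B₀
      rw [show cj 1 = B₀ from hcj1 B₀]
    letI : DistribMulAction L C₀ :=
      { smul := fun x w => ⟨(x : N) • (w : V), by
          have := smul_mem_fixB_map (x : N) w.2
          rwa [show B₀.map (MulAut.conj (x : N)).toMonoidHom = B₀ from (hLmem x).mp x.2] at this⟩
        one_smul := fun w => Subtype.ext (one_smul N (w : V))
        mul_smul := fun x y w => Subtype.ext (mul_smul (x : N) (y : N) (w : V))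
        smul_zero := fun x => Subtype.ext (smul_zero (x : N))
        smul_add := fun x w w' => Subtype.ext (smul_add (x : N) (w : V) (w' : V)) }
    have hgg : cj g = (⟨cj g, g, rfl⟩ : Ω).1 := rfl
    have ha₀L : a₀ ∈ L := by
      rw [hLmem]
      have h1 : cj (a * g) = cj g := by
        rw [← hcjmul]
        exact congrArg Subtype.val (hfix ⟨cj g, g, rfl⟩)
      calc cj a₀ = (cj (a * g)).map (MulAut.conj g⁻¹).toMonoidHom := by rw [hcjmul, ha₀, mul_assoc]
        _ = cj (g⁻¹ * g) := by rw [h1, hcjmul]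
        _ = B₀ := by rw [inv_mul_cancel]; exact hcj1 B₀
    have ha₀P : a₀ ∈ P := by simpa [ha₀] using hP.conj_mem a ha g⁻¹
    have hap₀ : ∀ w : V, a₀ ^ p • w = w := fun w => by
      have e : a₀ ^ p = g⁻¹ * a ^ p * g := by
        rw [ha₀, show g⁻¹ * a * g = g⁻¹ * a * g⁻¹⁻¹ by rw [inv_inv], conj_pow, inv_inv]
      rw [e, mul_smul, mul_smul, hap, inv_smul_smul]
    haveI hPLn : (P.subgroupOf L).Normal := by
      constructor
      intro x hx y
      rw [Subgroup.mem_subgroupOf] at hx ⊢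
      exact hP.conj_mem _ hx _
    obtain ⟨u, hu⟩ := ih C₀ hC₀card (fun h => hcop (h.trans C₀.card_addSubgroup_dvd_card)) L (P.subgroupOf L)
      hPLn (IsPGroup.comap_subtype hPp) ⟨a₀, ha₀L⟩ ha₀P (fun w => Subtype.ext (hap₀ w))
      ⟨⟨g⁻¹ • v, mem_fixB_of_map g (by rw [smul_inv_smul]; exact hv)⟩, fun h => hva (by
        have h1 : a₀ • g⁻¹ • v = g⁻¹ • v := congrArg Subtype.val h
        rw [ha₀, mul_smul, mul_smul, smul_inv_smul, smul_left_cancel_iff] at h1
        exact h1)⟩
    let f : Ω → V := fun S => rep S • (u : V)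
    refine ⟨∑ S, f S, fun y hy => ?_⟩
    set x := y * a * y⁻¹ with hx
    let S : Ω := ⟨cj (y * g), y * g, rfl⟩
    have hxS : x • S = S := by
      have e := hfix (y⁻¹ • S)
      rw [hx, mul_smul, mul_smul, e, smul_inv_smul]
    have hk : (rep S)⁻¹ * (y * g) ∈ L := by
      rw [hLmem, ← hcjmul, show cj (y * g) = cj (rep S) from hrep S, hcjmul, inv_mul_cancel]
      exact hcj1 B₀
    have h1 := hperm x f (fun T => hrepmem T u u.2) hy S
    rw [hxS] at h1
    refine hu ⟨_, hk⟩ (Subtype.ext ?_)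
    show ((rep S)⁻¹ * (y * g) * a₀ * ((rep S)⁻¹ * (y * g))⁻¹) • (u : V) = u
    rw [show (rep S)⁻¹ * (y * g) * a₀ * ((rep S)⁻¹ * (y * g))⁻¹ = (rep S)⁻¹ * x * rep S by rw [ha₀, hx]; group,
      mul_smul, mul_smul, h1, inv_smul_smul]

/-- The case without such subgroups. -/
theorem good_of_cyclic (hp2 : p ≠ 2) (hcop : ¬ p ∣ Nat.card V) {P : Subgroup N} (hP : P.Normal) (hPp : IsPGroup p P)
    (hfaith : ∀ g : N, (∀ w : V, g • w = w) → g = 1)
    (hirr : ∀ W : AddSubgroup V, (∀ g : N, ∀ w ∈ W, g • w ∈ W) → W = ⊥ ∨ W = ⊤)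
    {a : N} (ha : a ∈ P) (hap : ∀ w : V, a ^ p • w = w) (hmv : ∃ w : V, a • w ≠ w)
    (hsmall : ∀ A : Subgroup N, A.Normal → A ≤ P → (∀ x ∈ A, ∀ y ∈ A, Commute x y) → (∀ x ∈ A, x ^ p = 1) →
      Nat.card A ≤ p) : Good N V a := by
  classical
  have hp := (Fact.out : p.Prime)
  obtain ⟨w₁, hw₁⟩ := hmv
  have hV : ∃ w : V, w ≠ 0 := ⟨w₁, fun h => hw₁ (by rw [h, smul_zero])⟩
  have ha1 : a ≠ 1 := fun h => hw₁ (by rw [h, one_smul])
  have hap1 : a ^ p = 1 := hfaith _ hap
  have hao : orderOf a = p := orderOf_eq_prime hap1 ha1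
  -- the central elements of order `p`
  let Z : Subgroup N :=
    { carrier := {x | x ∈ P ∧ x ^ p = 1 ∧ ∀ g ∈ P, Commute x g}
      mul_mem' := fun {x y} hx hy => ⟨mul_mem hx.1 hy.1, by
        rw [(hx.2.2 y hy.1).mul_pow, hx.2.1, hy.2.1, one_mul],
        fun g hg => (hx.2.2 g hg).mul_left (hy.2.2 g hg)⟩
      one_mem' := ⟨one_mem P, one_pow p, fun g _ => Commute.one_left g⟩
      inv_mem' := fun {x} hx => ⟨inv_mem hx.1, by rw [inv_pow, hx.2.1, inv_one],
        fun g hg => (hx.2.2 g hg).inv_left⟩ }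
  have hconjmem : ∀ g x : N, x ∈ P → g * x * g⁻¹ ∈ P := fun g x hx => hP.conj_mem x hx g
  have hconjcomm : ∀ (g x : N), (∀ h ∈ P, Commute x h) → ∀ h ∈ P, Commute (g * x * g⁻¹) h := by
    intro g x hx h hh
    have h1 : g⁻¹ * h * g ∈ P := by simpa using hconjmem g⁻¹ h hh
    have h2 := (hx _ h1).map (MulAut.conj g).toMonoidHom
    simpa [MulAut.conj_apply, mul_assoc] using h2
  have hZn : Z.Normal := ⟨fun x hx g => ⟨hconjmem g x hx.1, by rw [conj_pow, hx.2.1, mul_one, mul_inv_cancel],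
    hconjcomm g x hx.2.2⟩⟩
  have hZcard : Nat.card Z ≤ p :=
    hsmall Z hZn (fun x hx => hx.1) (fun x hx y hy => hx.2.2 y hy.1) (fun x hx => hx.2.1)
  haveI : Nontrivial P := ⟨⟨⟨a, ha⟩, 1, fun h => ha1 (congrArg Subtype.val h)⟩⟩
  obtain ⟨⟨⟨z, hzP⟩, hzc⟩, hzo⟩ : ∃ c : Subgroup.center P, orderOf c = p := by
    haveI := hPp.center_nontrivial
    obtain ⟨k, hk⟩ := (hPp.to_subgroup (Subgroup.center P)).exists_card_eq
    refine exists_prime_orderOf_dvd_card' p ?_
    rw [hk]
    refine dvd_pow_self p fun h => ?_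
    rw [h, pow_zero] at hk
    exact (Finite.one_lt_card (α := Subgroup.center P)).ne' hk
  have hzord : orderOf z = p := by
    rw [← hzo, ← Subgroup.orderOf_coe, ← Subgroup.orderOf_coe]
  have hzcomm : ∀ g ∈ P, Commute z g := fun g hg =>
    (congrArg Subtype.val (Subgroup.mem_center_iff.mp hzc ⟨g, hg⟩)).symm
  have hzZ : z ∈ Z := ⟨hzP, hzord ▸ pow_orderOf_eq_one z, hzcomm⟩
  have hZeq : Z = Subgroup.zpowers z := (Subgroup.eq_of_le_of_card_ge (Subgroup.zpowers_le.mpr hzZ)
    (by rw [Nat.card_zpowers, hzord]; exact hZcard)).symm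
  have hz1 : z ≠ 1 := fun h => hp.ne_one (by rw [← hzord, h, orderOf_one])
  have hfpf : ∀ w : V, z • w = w → w = 0 := by
    intro w hw
    rcases hirr (fixB Z) (fun g v hv x hx => by
      have h1 : g⁻¹ * x * g ∈ Z := by simpa using hZn.conj_mem x hx g⁻¹
      rw [← mul_smul, show x * g = g * (g⁻¹ * x * g) by group, mul_smul, hv _ h1]) with h | h
    · refine (AddSubgroup.eq_bot_iff_forall _).mp h w ?_
      rw [hZeq]
      exact fun b hb => MulAction.mem_stabilizer_iff.mp
        ((Subgroup.zpowers_le (H := MulAction.stabilizer N w)).mpr (MulAction.mem_stabilizer_iff.mpr hw) hb)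
    · exact absurd (hfaith z fun v => (h ▸ AddSubgroup.mem_top v : v ∈ fixB Z) z hzZ) hz1
  by_cases haz : a ∈ Subgroup.zpowers z
  · obtain ⟨w, hw⟩ := hV
    refine ⟨w, fun y hy => hw (hfpf w ?_)⟩
    have hyZ : y * a * y⁻¹ ∈ Subgroup.zpowers z := hZeq ▸ hZn.conj_mem a (hZeq ▸ haz) y
    have hle : Subgroup.zpowers (y * a * y⁻¹) = Subgroup.zpowers z := by
      refine Subgroup.eq_of_le_of_card_ge (Subgroup.zpowers_le.mpr hyZ) ?_
      rw [Nat.card_zpowers, Nat.card_zpowers, hzord, show y * a * y⁻¹ = MulAut.conj y a from rfl,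
        MulEquiv.orderOf_eq, hao]
    exact MulAction.mem_stabilizer_iff.mp ((Subgroup.zpowers_le (H := MulAction.stabilizer N w)).mpr
      (MulAction.mem_stabilizer_iff.mpr hy) (hle.symm ▸ Subgroup.mem_zpowers z))
  -- the second layer
  have hcmul : ∀ x y g : N, ⁅x * y, g⁆ = x * ⁅y, g⁆ * x⁻¹ * ⁅x, g⁆ := fun x y g => by
    simp only [commutatorElement_def]; group
  have hbil : ∀ v w : N, Commute ⁅v, w⁆ v → ∀ i : ℕ, ⁅v ^ i, w⁆ = ⁅v, w⁆ ^ i := by
    intro v w hv i
    induction i with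
    | zero => simp
    | succ i ih' =>
      rw [pow_succ', hcmul, ih', ((hv.pow_left i).symm).eq, mul_inv_cancel_right, ← pow_succ]
  let U : Subgroup N :=
    { carrier := {x | x ∈ P ∧ x ^ p = 1 ∧ ∀ g ∈ P, ∀ h ∈ P, Commute ⁅x, g⁆ h}
      one_mem' := ⟨one_mem P, one_pow p, fun g _ h _ => by
        rw [commutatorElement_one_left]; exact Commute.one_left h⟩
      mul_mem' := fun {x y} hx hy => by
        refine ⟨mul_mem hx.1 hy.1, ?_, fun g hg h hh => ?_⟩
        · have hv : Commute ⁅y, x⁆ y := hy.2.2 x hx.1 y hy.1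
          have he : ⁅y, x⁆ ^ p = 1 := by
            rw [← hbil y x hv, hy.2.1, commutatorElement_one_left]
          rw [CfsgLib.Blackburn.mul_pow_two hp2 (hy.2.2 x hx.1 x hx.1) hv he, hx.2.1, hy.2.1, one_mul]
        · rw [hcmul, ((hy.2.2 g hg x hx.1).symm).eq, mul_inv_cancel_right]
          exact (hy.2.2 g hg h hh).mul_left (hx.2.2 g hg h hh)
      inv_mem' := fun {x} hx => ⟨inv_mem hx.1, by rw [inv_pow, hx.2.1, inv_one], fun g hg h hh => by
        have e : ⁅x⁻¹, g⁆ = x⁻¹ * ⁅x, g⁆⁻¹ * x := by simp only [commutatorElement_def]; group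
        rw [e, mul_assoc, ((hx.2.2 g hg x hx.1).inv_left).eq, inv_mul_cancel_left]
        exact (hx.2.2 g hg h hh).inv_left⟩ }
  have hUn : U.Normal := ⟨fun x hx g => ⟨hconjmem g x hx.1, by rw [conj_pow, hx.2.1, mul_one, mul_inv_cancel],
    fun h hh k hk => by
      have h1 : g⁻¹ * h * g ∈ P := by simpa using hconjmem g⁻¹ h hh
      have h2 := hconjcomm g ⁅x, g⁻¹ * h * g⁆ (fun m hm => hx.2.2 _ h1 m hm) k hk
      rwa [show ⁅g * x * g⁻¹, h⁆ = g * ⁅x, g⁻¹ * h * g⁆ * g⁻¹ by simp only [commutatorElement_def]; group]⟩⟩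
  have hder : ∀ u ∈ U, ∀ g ∈ P, ⁅u, g⁆ ∈ Subgroup.zpowers z := by
    intro u hu g hg
    rw [← hZeq]
    refine ⟨mul_mem (mul_mem (mul_mem hu.1 hg) (inv_mem hu.1)) (inv_mem hg), ?_, fun h hh => hu.2.2 g hg h hh⟩
    rw [← hbil u g (hu.2.2 g hg u hu.1), hu.2.1, commutatorElement_one_left]
  have hzU : z ∈ U := ⟨hzP, hzord ▸ pow_orderOf_eq_one z, fun g hg h _ => by
    rw [commutatorElement_eq_one_iff_commute.mpr (hzcomm g hg)]; exact Commute.one_left h⟩
  have hcenter : ∀ u ∈ U, (∀ w ∈ U, Commute u w) → u ∈ Subgroup.zpowers z := by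
    intro u hu hcu
    let A : Subgroup N := U ⊓ Subgroup.centralizer (U : Set N)
    haveI := hUn
    have hAn : A.Normal := ⟨fun x hx g => ⟨hUn.conj_mem x hx.1 g, Subgroup.mem_centralizer_iff.mpr fun w hw => by
      have h1 : g⁻¹ * w * g ∈ U := by simpa using hUn.conj_mem w hw g⁻¹
      have h2 := (show Commute (g⁻¹ * w * g) x from Subgroup.mem_centralizer_iff.mp hx.2 _ h1).map (MulAut.conj g).toMonoidHom
      simpa [MulAut.conj_apply, mul_assoc] using h2.eq⟩⟩
    have hAcard := hsmall A hAn (fun x hx => hx.1.1) (fun x hx y hy =>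
      (Subgroup.mem_centralizer_iff.mp hx.2 y hy.1).symm) (fun x hx => hx.1.2.1)
    have hAz : z ∈ A := ⟨hzU, Subgroup.mem_centralizer_iff.mpr fun w hw => (hzcomm w hw.1).symm.eq⟩
    rw [Subgroup.eq_of_le_of_card_ge (Subgroup.zpowers_le.mpr hAz) (by rw [Nat.card_zpowers, hzord]; exact hAcard)]
    exact ⟨hu, Subgroup.mem_centralizer_iff.mpr fun w hw => (hcu w hw).symm.eq⟩
  have H : Heis p U z :=
    ⟨hp2, fun u hu => hu.2.1, hzU, hzord, fun u hu => hzcomm u hu.1, fun u hu w hw => hder u hu w hw.1, hcenter⟩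
  -- elements of order `p` of `P` lie in the second layer
  have hom : ∀ x ∈ P, x ^ p = 1 → x ∈ U := by
    intro x hx hxp
    obtain ⟨u, hu, hc⟩ := H.inner (x := x) (fun w hw => by
      rw [← commutatorElement_inv]
      exact inv_mem (hder w hw x hx)) (hzcomm x hx).symm
    set c := u⁻¹ * x with hcdef
    have hcP : c ∈ P := mul_mem (inv_mem hu.1) hx
    have hcp : c ^ p = 1 := by
      rw [show x = u * c by rw [hcdef]; group, ((hc u hu).symm).mul_pow, hu.2.1, one_mul] at hxp
      exact hxp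
    let C : Subgroup P := (Subgroup.centralizer (U : Set N)).subgroupOf P
    haveI hCn : C.Normal := by
      haveI := hUn
      constructor
      intro w hw g
      rw [Subgroup.mem_subgroupOf] at hw ⊢
      refine Subgroup.mem_centralizer_iff.mpr fun v hv => ?_
      have h1 : (g : N)⁻¹ * v * g ∈ U := by simpa using hUn.conj_mem v hv (g : N)⁻¹
      have h2 := (show Commute ((g : N)⁻¹ * v * g) (w : N) from Subgroup.mem_centralizer_iff.mp hw _ h1).map
        (MulAut.conj (g : N)).toMonoidHom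
      simpa [MulAut.conj_apply, mul_assoc] using h2.eq
    have hCc : IsCyclic C := by
      by_contra hnc
      obtain ⟨B, hBC, hBn, ⟨hBab, hBe⟩, hBcard⟩ := CfsgLib.CyclicMax.exists_normal_sq hPp hp2 C hnc
      haveI := hBn
      have hBU : ∀ b ∈ B, (b : N) ∈ Subgroup.zpowers z := by
        obtain ⟨Z₁, hZ₁n, hZ₁B, hZ₁⟩ := CfsgLib.PGroupRankTwo.exists_normal_card hPp B 1
          (by rw [hBcard]; exact Nat.pow_le_pow_right hp.pos (by omega))
        haveI := hZ₁n
        rw [pow_one] at hZ₁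
        intro b hb
        have hbp : (b : N) ^ p = 1 := by
          have := congrArg Subtype.val (hBe b hb)
          simpa using this
        have hbU : (b : N) ∈ U := by
          refine ⟨b.2, hbp, fun g hg h hh => ?_⟩
          have h1 := CfsgLib.PGroupRankTwo.step_central hPp hZ₁B (by rw [hBcard, hZ₁, sq]) ⟨g, hg⟩ hb
          have h2 : ∀ y ∈ Z₁, y ∈ Subgroup.center P := fun y hy => by
            refine Subgroup.mem_center_iff.mpr fun q => ?_
            have h3 := CfsgLib.PGroupRankTwo.step_central hPp (bot_le : (⊥ : Subgroup P) ≤ Z₁)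
              (by rw [hZ₁, Subgroup.card_bot, one_mul]) q hy
            rw [Subgroup.mem_bot, inv_mul_eq_one, eq_mul_inv_iff_mul_eq] at h3
            exact h3.symm
          have h4 := h2 _ h1
          have h5 : ∀ q ∈ P, Commute ((b : N)⁻¹ * (g * b * g⁻¹)) q := fun q hq =>
            (congrArg Subtype.val (Subgroup.mem_center_iff.mp h4 ⟨q, hq⟩)).symm
          have h6 := hconjcomm (b : N) _ h5 h hh
          have e : ⁅(b : N), g⁆ = ((b : N) * ((b : N)⁻¹ * (g * b * g⁻¹)) * (b : N)⁻¹)⁻¹ := by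
            simp only [commutatorElement_def]; group
          rw [e]
          exact h6.inv_left
        exact hcenter _ hbU fun w hw =>
          (Subgroup.mem_centralizer_iff.mp (Subgroup.mem_subgroupOf.mp (hBC hb)) w hw).symm
      have h1 : Nat.card B ≤ p := by
        refine (Nat.card_le_card_of_injective (fun b : B => (⟨((b : P) : N), hBU b b.2⟩ : Subgroup.zpowers z))
          fun b b' e => Subtype.ext (Subtype.ext (congrArg (fun t : Subgroup.zpowers z => (t : N)) e))).trans ?_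
        rw [Nat.card_zpowers, hzord]
      rw [hBcard] at h1
      have : p ^ 1 < p ^ 2 := Nat.pow_lt_pow_right hp.one_lt (by norm_num)
      rw [pow_one] at this
      omega
    obtain ⟨γ, hγ⟩ := (Subgroup.isCyclic_iff_exists_zpowers_eq_top (H := C)).mp hCc
    have hzC : (⟨z, hzP⟩ : P) ∈ C :=
      Subgroup.mem_subgroupOf.mpr (Subgroup.mem_centralizer_iff.mpr fun w hw => (hzcomm w hw.1).symm.eq)
    have hcC : (⟨c, hcP⟩ : P) ∈ C :=
      Subgroup.mem_subgroupOf.mpr (Subgroup.mem_centralizer_iff.mpr fun w hw => (hc w hw).symm.eq)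
    rw [← hγ] at hzC hcC
    obtain ⟨j, hj⟩ := Subgroup.mem_zpowers_iff.mp (CfsgLib.Blackburn.mem_zpowers_of_dvd hcC hzC (by
      rw [← Subgroup.orderOf_coe (⟨z, hzP⟩ : P), ← Subgroup.orderOf_coe (⟨c, hcP⟩ : P), hzord]
      exact orderOf_dvd_of_pow_eq_one hcp))
    have hcU : c ∈ U := by
      rw [show c = z ^ j from (congrArg Subtype.val hj).symm]
      exact zpow_mem hzU j
    have := mul_mem hu hcU
    rwa [hcdef, mul_inv_cancel_left] at this
  obtain ⟨w, hw⟩ := H.avoid hcop hfpf hV (hom a ha hap1) haz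
  refine ⟨w, fun y => hw _ (hom _ (hconjmem y a ha) (by rw [conj_pow, hap1, mul_one, mul_inv_cancel])) fun hmem => haz ?_⟩
  rw [← hZeq] at hmem ⊢
  have := hZn.conj_mem _ hmem y⁻¹
  simpa [mul_assoc] using this

/-- The theorem. -/
theorem stmt (hp2 : p ≠ 2) : ∀ n, Stmt.{u} p n := by
  intro n
  induction n with
  | zero =>
    intro V _ _ hn
    exact absurd hn (Nat.not_le.mpr Nat.card_pos)
  | succ n ih =>
    intro V _ _ hn hcop N _ _ _ P hP hPp a ha hap hmv
    classical
    let φ : N →* (AddMonoid.End V)ˣ := (DistribMulAction.toAddMonoidEnd N V).toHomUnits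
    let a' : φ.range := φ.rangeRestrict a
    haveI : Finite φ.range := Finite.of_surjective _ φ.rangeRestrict_surjective
    have hφ : ∀ (x : N) (w : V), φ.rangeRestrict x • w = x • w := fun x w => rfl
    have hP' : (P.map φ.rangeRestrict).Normal := hP.map _ φ.rangeRestrict_surjective
    have hPp' : IsPGroup p (P.map φ.rangeRestrict) := hPp.map _
    have hap' : ∀ w : V, a' ^ p • w = w := fun w => by
      rw [← map_pow, hφ]; exact hap w
    have hfaith : ∀ g : φ.range, (∀ w : V, g • w = w) → g = 1 := fun g hg =>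
      Subtype.ext (Units.ext (AddMonoidHom.ext hg))
    have ha' : a' ∈ P.map φ.rangeRestrict := Subgroup.mem_map_of_mem _ ha
    have hmv' : ∃ w : V, a' • w ≠ w := hmv
    suffices h : Good φ.range V a' by
      obtain ⟨w, hw⟩ := h
      refine ⟨w, fun y => ?_⟩
      have := hw (φ.rangeRestrict y)
      rwa [← map_inv, ← map_mul, ← map_mul, hφ] at this
    by_cases hirr : ∀ W : AddSubgroup V, (∀ g : φ.range, ∀ w ∈ W, g • w ∈ W) → W = ⊥ ∨ W = ⊤
    · by_cases hA : ∃ A : Subgroup φ.range, A.Normal ∧ A ≤ P.map φ.rangeRestrict ∧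
          (∀ x ∈ A, ∀ y ∈ A, Commute x y) ∧ (∀ x ∈ A, x ^ p = 1) ∧ p < Nat.card A
      · obtain ⟨A, hAn, hAP, hAc, hAe, hbig⟩ := hA
        exact good_of_blocks ih hp2 hn hcop hP' hPp' hfaith hirr ha' hap' hmv' hAn hAP hAc hAe hbig
      · push Not at hA
        exact good_of_cyclic hp2 hcop hP' hPp' hfaith hirr ha' hap' hmv' hA
    push Not at hirr
    obtain ⟨W, hW, hWbot, hWtop⟩ := hirr
    have h1 := W.card_mul_index
    have h2 : 1 < W.index := by
      have := W.index_ne_zero_of_finite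
      have : W.index ≠ 1 := fun h => hWtop (AddSubgroup.index_eq_one.mp h)
      omega
    have h3 : 1 < Nat.card W := by
      haveI : Nontrivial W := (AddSubgroup.nontrivial_iff_ne_bot W).mpr hWbot
      exact Finite.one_lt_card
    by_cases hWa : ∃ w ∈ W, a' • w ≠ w
    · exact good_of_sub ih hcop hP' hPp' ha' hap' W hW (by nlinarith) hWa
    refine good_of_quot ih hcop hP' hPp' ha' hap' W hW (by
      rw [← AddSubgroup.index_eq_card]; nlinarith) ?_
    push Not at hWa
    by_contra hq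
    push Not at hq
    obtain ⟨w, hw⟩ := hmv'
    apply hw
    set δ := a' • w - w with hδ
    have hpow : ∀ i : ℕ, a' ^ i • w = w + i • δ := by
      intro i
      induction i with
      | zero => simp
      | succ i ih' =>
        rw [pow_succ', mul_smul, ih', smul_add, hWa _ (W.nsmul_mem (hq w) i), succ_nsmul, hδ]
        abel
    have h4 := hpow p
    rw [hap', left_eq_add] at h4
    exact sub_eq_zero.mp (eq_zero_of_pow_nsmul hcop 1 (by rwa [pow_one]))

end CfsgLib.Avoid
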