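import Mathlib

/-!
An odd `p`-group of permutations fixes no set of a suitable kind unless trivial (Gluck).
-/

set_option autoImplicit false

namespace CfsgLib.RegularSet

universe uP uΩ

variable {p : ℕ} [Fact p.Prime]

theorem exists_set (hp2 : p ≠ 2) : ∀ (n : ℕ) (P : Type uP) [Group P] [Finite P], IsPGroup p P →
    ∀ (Ω : Type uΩ) [Finite Ω] [MulAction P Ω], Nat.card Ω ≤ n →
      ∃ Γ : Set Ω, ∀ x : P, (∀ w, w ∈ Γ ↔ x • w ∈ Γ) → ∀ w : Ω, x • w = w := by
  intro n
  induction n with
  | zero =>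
    intro P _ _ _ Ω _ _ hc
    haveI : IsEmpty Ω := by
      rw [← not_nonempty_iff]
      intro hne
      have := @Nat.card_pos Ω hne _
      omega
    exact ⟨∅, fun x _ w => isEmptyElim w⟩
  | succ n ih =>
    intro P _ _ hP Ω _ _ hc
    classical
    rcases isEmpty_or_nonempty Ω with he | ⟨⟨w₀⟩⟩
    · exact ⟨∅, fun x _ w => isEmptyElim w⟩
    by_cases htr : ∀ w : Ω, w ∈ MulAction.orbit P w₀
    swap
    · -- intransitive
      push Not at htr
      obtain ⟨w₁, hw₁⟩ := htr
      let O₁ : SubMulAction P Ω :=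
        { carrier := MulAction.orbit P w₀, smul_mem' := fun x w hw => MulAction.mem_orbit_of_mem_orbit x hw }
      let O₂ : SubMulAction P Ω :=
        { carrier := (MulAction.orbit P w₀)ᶜ
          smul_mem' := fun x w hw h => hw (by simpa using MulAction.mem_orbit_of_mem_orbit x⁻¹ h) }
      have h1 : Nat.card O₁ ≤ n := by
        have := Finite.card_subtype_lt (p := fun w => w ∈ MulAction.orbit P w₀) hw₁
        have e : Nat.card O₁ = Nat.card {w // w ∈ MulAction.orbit P w₀} := rfl
        omega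
      have h2 : Nat.card O₂ ≤ n := by
        have := Finite.card_subtype_lt (p := fun w => w ∈ (MulAction.orbit P w₀)ᶜ) (x := w₀)
          (fun h => h (MulAction.mem_orbit_self w₀))
        have e : Nat.card O₂ = Nat.card {w // w ∈ (MulAction.orbit P w₀)ᶜ} := rfl
        omega
      obtain ⟨Γ₁, hΓ₁⟩ := ih P hP O₁ h1
      obtain ⟨Γ₂, hΓ₂⟩ := ih P hP O₂ h2
      refine ⟨{w | (∃ h : w ∈ O₁, (⟨w, h⟩ : O₁) ∈ Γ₁) ∨ (∃ h : w ∈ O₂, (⟨w, h⟩ : O₂) ∈ Γ₂)}, fun x hx w => ?_⟩
      by_cases hw : w ∈ O₁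
      · refine congrArg Subtype.val (hΓ₁ x (fun u => ?_) ⟨w, hw⟩)
        constructor
        · intro hu
          rcases (hx u.1).mp (Or.inl ⟨u.2, hu⟩) with ⟨_, h'⟩ | ⟨h', _⟩
          · exact h'
          · exact absurd (O₁.smul_mem x u.2) h'
        · intro hu
          rcases (hx u.1).mpr (Or.inl ⟨O₁.smul_mem x u.2, hu⟩) with ⟨_, h'⟩ | ⟨h', _⟩
          · exact h'
          · exact absurd u.2 h'
      · refine congrArg Subtype.val (hΓ₂ x (fun u => ?_) ⟨w, hw⟩)
        constructor
        · intro hu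
          rcases (hx u.1).mp (Or.inr ⟨u.2, hu⟩) with ⟨h', _⟩ | ⟨_, h'⟩
          · exact absurd h' (O₂.smul_mem x u.2)
          · exact h'
        · intro hu
          rcases (hx u.1).mpr (Or.inr ⟨O₂.smul_mem x u.2, hu⟩) with ⟨h', _⟩ | ⟨_, h'⟩
          · exact absurd h' u.2
          · exact h'
    -- transitive
    set S := MulAction.stabilizer P w₀
    by_cases hS : S = ⊤
    · refine ⟨∅, fun x _ w => ?_⟩
      obtain ⟨g, rfl⟩ := htr w
      have hg : ∀ y : P, y • w₀ = w₀ := fun y => by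
        refine MulAction.mem_stabilizer_iff.mp ?_
        show y ∈ S
        rw [hS]; exact Subgroup.mem_top y
      show x • g • w₀ = g • w₀
      rw [hg g, hg x]
    obtain ⟨M, hM, hSM⟩ := (eq_top_or_exists_le_coatom S).resolve_left hS
    haveI : Group.IsNilpotent P := hP.isNilpotent
    haveI hMn : M.Normal := Subgroup.NormalizerCondition.normal_of_coatom M normalizerCondition_of_isNilpotent hM
    -- the map to the blocks
    choose g hg using htr
    have hg' : ∀ w, g w • w₀ = w := hg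
    let κ : Ω → P ⧸ M := fun w => QuotientGroup.mk (g w)
    have hκ : ∀ (y : P), κ (y • w₀) = QuotientGroup.mk y := fun y =>
      QuotientGroup.eq.mpr (hSM (MulAction.mem_stabilizer_iff.mpr (by
        rw [mul_smul, inv_smul_eq_iff, hg'])))
    have hκs : ∀ (x : P) (w : Ω), κ (x • w) = QuotientGroup.mk x * κ w := fun x w => by
      conv_lhs => rw [← hg' w, ← mul_smul, hκ, QuotientGroup.mk_mul]
    let O : SubMulAction M Ω :=
      { carrier := {w | κ w = 1}
        smul_mem' := fun m w hw => by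
          show κ ((m : P) • w) = 1
          rw [hκs, (QuotientGroup.eq_one_iff (m : P)).mpr m.2, one_mul]
          exact hw }
    obtain ⟨y₀, hy₀⟩ : ∃ y, y ∉ M := by
      by_contra h
      push Not at h
      exact hM.1 (eq_top_iff.mpr fun y _ => h y)
    have hy₀O : κ (y₀ • w₀) ≠ 1 := by
      rw [hκ, Ne, QuotientGroup.eq_one_iff]
      exact hy₀
    have hcard : Nat.card O ≤ n := by
      have := Finite.card_subtype_lt (p := fun w => κ w = 1) hy₀O
      have e : Nat.card O = Nat.card {w // κ w = 1} := rfl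
      omega
    obtain ⟨Γ₀, hΓ₀⟩ := ih M (hP.to_subgroup M) O hcard
    let sec : P ⧸ M → P := Quotient.out
    have hsec : ∀ q, QuotientGroup.mk (sec q) = q := fun q => QuotientGroup.out_eq' q
    have hmem : ∀ w, (sec (κ w))⁻¹ • w ∈ O := fun w => by
      show κ _ = 1
      rw [hκs, QuotientGroup.mk_inv, hsec, inv_mul_cancel]
    refine ⟨{w | (⟨_, hmem w⟩ : O) ∈ Γ₀ ↔ κ w = 1}, fun x hx => ?_⟩
    have key : ∀ (q q' : P ⧸ M), QuotientGroup.mk x * q = q' → ∀ m : M, (m : P) = (sec q')⁻¹ * x * sec q →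
        ∀ u : O, ((u ∈ Γ₀ ↔ q = 1) ↔ (m • u ∈ Γ₀ ↔ q' = 1)) := by
      intro q q' hqq m hm u
      have h0 : κ (u : Ω) = 1 := u.2
      have h1 : κ (sec q • (u : Ω)) = q := by rw [hκs, hsec, h0, mul_one]
      have h2 : κ (x • sec q • (u : Ω)) = q' := by rw [hκs, h1, hqq]
      have e := hx (sec q • (u : Ω))
      simp only [Set.mem_ofPred_eq] at e
      have e1 : (⟨_, hmem (sec q • (u : Ω))⟩ : O) = u := Subtype.ext (by
        show (sec (κ (sec q • (u : Ω))))⁻¹ • sec q • (u : Ω) = u
        rw [h1, inv_smul_smul])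
      have e2 : (⟨_, hmem (x • sec q • (u : Ω))⟩ : O) = m • u := Subtype.ext (by
        show (sec (κ (x • sec q • (u : Ω))))⁻¹ • x • sec q • (u : Ω) = (m : P) • (u : Ω)
        rw [h2, hm, mul_smul, mul_smul])
      rwa [e1, e2, h1, h2] at e
    have hmemM : ∀ q q' : P ⧸ M, QuotientGroup.mk x * q = q' → (sec q')⁻¹ * x * sec q ∈ M := by
      intro q q' hqq
      rw [← QuotientGroup.eq_one_iff, QuotientGroup.mk_mul, QuotientGroup.mk_mul, QuotientGroup.mk_inv, hsec, hsec,
        mul_assoc, hqq, inv_mul_cancel]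
    have hxM : (QuotientGroup.mk x : P ⧸ M) = 1 := by
      by_contra hxM
      set m : M := ⟨_, hmemM 1 (QuotientGroup.mk x) (mul_one _)⟩ with hmdef
      have e0 : ∀ u : O, u ∈ Γ₀ ↔ ¬ m • u ∈ Γ₀ := fun u => by
        simpa [hxM] using key 1 _ (mul_one _) m rfl u
      have hm2 : ∀ u : O, (m * m) • u = u := hΓ₀ (m * m) fun u => by
        rw [mul_smul, e0 u, e0 (m • u)]
        tauto
      have hm : ∀ u : O, m • u = u := by
        obtain ⟨k, hk⟩ := (hP.to_subgroup M) m
        obtain ⟨j, hj⟩ : Odd (p ^ k) := ((Fact.out : p.Prime).odd_of_ne_two hp2).pow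
        have hpow : ∀ i : ℕ, ∀ u : O, (m * m) ^ i • u = u := by
          intro i
          induction i with
          | zero => simp
          | succ i ih' => intro u; rw [pow_succ, mul_smul, hm2, ih']
        intro u
        have e : (m * m) ^ (j + 1) = m := by
          rw [← pow_two, ← pow_mul, show 2 * (j + 1) = p ^ k + 1 by omega, pow_succ, hk, one_mul]
        conv_lhs => rw [← e]
        exact hpow _ u
      have hne : κ w₀ = 1 := by simpa using hκ 1
      have := e0 ⟨w₀, hne⟩
      rw [hm] at this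
      tauto
    intro w
    set q := κ w with hq
    have hqq : QuotientGroup.mk x * q = q := by rw [hxM, one_mul]
    set m : M := ⟨_, hmemM q q hqq⟩ with hmdef
    have hm : ∀ u : O, m • u = u := hΓ₀ m fun u => by
      have := key q q hqq m rfl u
      by_cases h : q = 1 <;> simpa [h, not_iff_not] using this
    have := congrArg Subtype.val (hm ⟨_, hmem w⟩)
    change ((sec q)⁻¹ * x * sec q) • (sec q)⁻¹ • w = (sec q)⁻¹ • w at this
    rwa [mul_smul, mul_smul, smul_inv_smul, smul_left_cancel_iff] at this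

end CfsgLib.RegularSet
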