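import Mathlib
import Cfsg.Agent.Lib.PGroup.RegularSet
import Cfsg.Agent.Lib.PGroup.CyclicMax
import Cfsg.Agent.Lib.PGroup.RankTwoNormal
import Cfsg.Agent.Lib.PGroup.Blackburn.Metacyclic

/-!
Fixed point sets of subgroups of a finite group acting on a finite abelian group of coprime order.
-/

set_option autoImplicit false
set_option linter.unusedSectionVars false

namespace CfsgLib.Avoid

universe u v

variable {N : Type u} [Group N] [Finite N] {V : Type v} [AddCommGroup V] [Finite V] [DistribMulAction N V]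

/-- The fixed points of a subgroup. -/
def fixB (B : Subgroup N) : AddSubgroup V where
  carrier := {w | ∀ b ∈ B, b • w = w}
  add_mem' := fun {x y} hx hy b hb => by rw [smul_add, hx b hb, hy b hb]
  zero_mem' := fun b _ => smul_zero b
  neg_mem' := fun {x} hx b hb => by rw [smul_neg, hx b hb]

theorem mem_fixB {B : Subgroup N} {w : V} : w ∈ fixB B ↔ ∀ b ∈ B, b • w = w := Iff.rfl

theorem fixB_anti {B B' : Subgroup N} (h : B ≤ B') : (fixB B' : AddSubgroup V) ≤ fixB B :=
  fun _ hw b hb => hw b (h hb)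

theorem fixB_sup {B B' : Subgroup N} {w : V} (h : w ∈ fixB B) (h' : w ∈ fixB B') : w ∈ fixB (B ⊔ B') := by
  have : B ⊔ B' ≤ MulAction.stabilizer N w :=
    sup_le (fun b hb => MulAction.mem_stabilizer_iff.mpr (h b hb))
      fun b hb => MulAction.mem_stabilizer_iff.mpr (h' b hb)
  exact fun b hb => MulAction.mem_stabilizer_iff.mp (this hb)

theorem smul_mem_fixB_map (g : N) {B : Subgroup N} {w : V} (hw : w ∈ fixB B) :
    g • w ∈ fixB (B.map (MulAut.conj g).toMonoidHom) := by
  rintro _ ⟨b, hb, rfl⟩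
  show (g * b * g⁻¹) • g • w = g • w
  rw [← mul_smul, inv_mul_cancel_right, mul_smul, hw b hb]

theorem mem_fixB_of_map (g : N) {B : Subgroup N} {w : V} (hw : g • w ∈ fixB (B.map (MulAut.conj g).toMonoidHom)) :
    w ∈ fixB B := fun b hb => by
  have h : (g * b * g⁻¹) • g • w = g • w := hw _ ⟨b, hb, rfl⟩
  rwa [← mul_smul, inv_mul_cancel_right, mul_smul, smul_left_cancel_iff] at h

/-- The sum over a subgroup. -/
noncomputable def avg (B : Subgroup N) (w : V) : V :=
  letI := Fintype.ofFinite B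
  ∑ b : B, (b : N) • w

theorem avg_mem (B : Subgroup N) (w : V) : avg B w ∈ fixB B := by
  intro c hc
  letI := Fintype.ofFinite B
  show c • ∑ b : B, (b : N) • w = ∑ b : B, (b : N) • w
  rw [Finset.smul_sum]
  exact Fintype.sum_equiv (Equiv.mulLeft (⟨c, hc⟩ : B)) _ _ fun b => (mul_smul c (b : N) w).symm

theorem avg_mem_of_comm {B B' : Subgroup N} (hc : ∀ b ∈ B, ∀ b' ∈ B', Commute b b') {w : V} (hw : w ∈ fixB B') :
    avg B w ∈ fixB B' := by
  intro c hc'
  letI := Fintype.ofFinite B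
  show c • ∑ b : B, (b : N) • w = ∑ b : B, (b : N) • w
  rw [Finset.smul_sum]
  refine Finset.sum_congr rfl fun b _ => ?_
  rw [← mul_smul, ← (hc b b.2 c hc').eq, mul_smul, hw c hc']

theorem avg_of_fixed {B : Subgroup N} {w : V} (hw : w ∈ fixB B) : avg B w = Nat.card B • w := by
  letI := Fintype.ofFinite B
  show ∑ b : B, (b : N) • w = _
  rw [Finset.sum_congr rfl (fun (b : B) _ => hw b b.2), Finset.sum_const, Finset.card_univ,
    Nat.card_eq_fintype_card]

theorem avg_sum {ι : Type*} (B : Subgroup N) (s : Finset ι) (f : ι → V) :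
    avg B (∑ i ∈ s, f i) = ∑ i ∈ s, avg B (f i) := by
  letI := Fintype.ofFinite B
  show ∑ b : B, (b : N) • (∑ i ∈ s, f i) = ∑ i ∈ s, ∑ b : B, (b : N) • f i
  simp only [Finset.smul_sum]
  exact Finset.sum_comm

variable {p : ℕ} [Fact p.Prime]

theorem eq_zero_of_pow_nsmul (hcop : ¬ p ∣ Nat.card V) (j : ℕ) {w : V} (h : p ^ j • w = 0) : w = 0 := by
  have h1 : addOrderOf w ∣ p ^ j := addOrderOf_dvd_of_nsmul_eq_zero h
  have h2 : addOrderOf w ∣ Nat.card V := addOrderOf_dvd_natCard w
  exact AddMonoid.addOrderOf_eq_one_iff.mp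
    (Nat.eq_one_of_dvd_coprimes ((((Fact.out : p.Prime).coprime_iff_not_dvd).mpr hcop).pow_left j) h1 h2)

/-- Components fixed by distinct subgroups with no common fixed vector are independent. -/
theorem indep (hcop : ¬ p ∣ Nat.card V) {ι : Type*} [Fintype ι] [DecidableEq ι] (B : ι → Subgroup N)
    (hB : ∀ i, IsPGroup p (B i)) (hcomm : ∀ i j, ∀ b ∈ B i, ∀ b' ∈ B j, Commute b b')
    (hdis : ∀ i j, i ≠ j → ∀ w : V, w ∈ fixB (B i) → w ∈ fixB (B j) → w = 0)
    (f : ι → V) (hf : ∀ i, f i ∈ fixB (B i)) (hsum : ∑ i, f i = 0) : ∀ i, f i = 0 := by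
  intro i
  have h0 : avg (B i) (0 : V) = 0 := by simp [avg]
  have h := congrArg (avg (B i)) hsum
  rw [avg_sum, h0, Finset.sum_eq_single i (fun j _ hj => hdis i j (Ne.symm hj) _ (avg_mem _ _)
    (avg_mem_of_comm (hcomm i j) (hf j))) (fun hni => absurd (Finset.mem_univ i) hni), avg_of_fixed (hf i)] at h
  obtain ⟨k, hk⟩ := (hB i).exists_card_eq
  rw [hk] at h
  exact eq_zero_of_pow_nsmul hcop k h

theorem sum_fix {x : N} (hx : x ^ p = 1) (w : V) :
    x • (∑ i ∈ Finset.range p, x ^ i • w) = ∑ i ∈ Finset.range p, x ^ i • w := by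
  rw [Finset.smul_sum]
  simp only [← mul_smul, ← pow_succ']
  have h := Finset.sum_range_succ' (fun i => x ^ i • w) p
  rw [Finset.sum_range_succ] at h
  simp only [hx, pow_zero] at h
  exact (add_right_cancel h).symm

/-- A vector is a combination of vectors fixed by the lines of a rank two group without fixed vectors. -/
theorem line_decomp {x y : N} (hxy : Commute x y) (hx : x ^ p = 1) (hy : y ^ p = 1) (B : Subgroup N)
    (hBx : ∀ b ∈ B, Commute b x) (hBy : ∀ b ∈ B, Commute b y)
    (h0 : ∀ w : V, w ∈ fixB B → x • w = w → y • w = w → w = 0) {w : V} (hw : w ∈ fixB B) :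
    ∃ (f : ℕ → V) (g : V), (∀ j, f j ∈ fixB B ∧ (x * y ^ j) • f j = f j) ∧ (g ∈ fixB B ∧ y • g = g) ∧
      p • w = (∑ j ∈ Finset.range p, f j) + g := by
  classical
  have hp := (Fact.out : p.Prime)
  have hmemB : ∀ z : N, (∀ b ∈ B, Commute b z) → z • w ∈ fixB B := fun z hz b hb => by
    rw [← mul_smul, (hz b hb).eq, mul_smul, hw b hb]
  have hfB : ∀ j, (∑ i ∈ Finset.range p, (x * y ^ j) ^ i • w) ∈ fixB B := fun j =>
    AddSubgroup.sum_mem _ fun i _ => hmemB _ fun b hb => ((hBx b hb).mul_right ((hBy b hb).pow_right j)).pow_right i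
  have hgB : (∑ i ∈ Finset.range p, y ^ i • w) ∈ fixB B :=
    AddSubgroup.sum_mem _ fun i _ => hmemB _ fun b hb => (hBy b hb).pow_right i
  have hfx : ∀ j, (x * y ^ j) ^ p = 1 := fun j => by
    rw [(hxy.pow_right j).mul_pow, hx, one_mul, ← pow_mul, mul_comm, pow_mul, hy, one_pow]
  refine ⟨fun j => ∑ i ∈ Finset.range p, (x * y ^ j) ^ i • w, ∑ i ∈ Finset.range p, y ^ i • w,
    fun j => ⟨hfB j, sum_fix (hfx j) w⟩, ⟨hgB, sum_fix hy w⟩, ?_⟩
  -- the sum over the whole group vanishes
  have hall : ∑ i ∈ Finset.range p, x ^ i • (∑ k ∈ Finset.range p, y ^ k • w) = 0 := by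
    set s := ∑ k ∈ Finset.range p, y ^ k • w
    refine h0 _ (AddSubgroup.sum_mem _ fun i _ => fun b hb => ?_) (sum_fix hx s) ?_
    · rw [← mul_smul, ((hBx b hb).pow_right i).eq, mul_smul, hgB b hb]
    · rw [Finset.smul_sum]
      refine Finset.sum_congr rfl fun i _ => ?_
      rw [← mul_smul, ((hxy.pow_left i).symm).eq, mul_smul, sum_fix hy w]
  -- periodicity
  have hyper : ∀ k : ℕ, y ^ (k % p) = y ^ k := fun k => by
    conv_rhs => rw [← Nat.mod_add_div k p, pow_add, pow_mul, hy, one_pow, mul_one]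
  have hrow : ∀ i ∈ (Finset.range p).erase 0,
      ∑ j ∈ Finset.range p, (x * y ^ j) ^ i • w = x ^ i • (∑ k ∈ Finset.range p, y ^ k • w) := by
    intro i hi
    rw [Finset.mem_erase, Finset.mem_range] at hi
    have hterm : ∀ j, (x * y ^ j) ^ i • w = x ^ i • y ^ (j * i % p) • w := fun j => by
      rw [(hxy.pow_right j).mul_pow, ← pow_mul, hyper, mul_smul]
    simp only [hterm, Finset.smul_sum]
    have hcop : Nat.Coprime p i := (hp.coprime_iff_not_dvd).mpr fun h => by
      have := Nat.le_of_dvd (Nat.pos_of_ne_zero hi.1) h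
      omega
    have himg : (Finset.range p).image (fun j => j * i % p) = Finset.range p := by
      refine Finset.eq_of_subset_of_card_le (fun z hz => ?_) ?_
      · obtain ⟨j, -, rfl⟩ := Finset.mem_image.mp hz
        exact Finset.mem_range.mpr (Nat.mod_lt _ hp.pos)
      · rw [Finset.card_image_of_injOn, Finset.card_range]
        intro a ha b hb hab
        rw [Finset.coe_range, Set.mem_Iio] at ha hb
        have h1 : a % p = b % p := Nat.ModEq.cancel_right_of_coprime hcop (show a * i ≡ b * i [MOD p] from hab)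
        rwa [Nat.mod_eq_of_lt ha, Nat.mod_eq_of_lt hb] at h1
    conv_rhs => rw [← himg, Finset.sum_image (fun a ha b hb hab => by
      rw [Finset.coe_range, Set.mem_Iio] at ha hb
      have h1 : a % p = b % p := Nat.ModEq.cancel_right_of_coprime hcop (show a * i ≡ b * i [MOD p] from hab)
      rwa [Nat.mod_eq_of_lt ha, Nat.mod_eq_of_lt hb] at h1)]
  have hzero : (0 : ℕ) ∈ Finset.range p := Finset.mem_range.mpr hp.pos
  rw [Finset.sum_comm, ← Finset.add_sum_erase _ _ hzero, Finset.sum_congr rfl hrow]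
  rw [← Finset.add_sum_erase _ _ hzero, pow_zero, one_smul] at hall
  simp only [pow_zero, one_smul, Finset.sum_const, Finset.card_range]
  rw [add_assoc, add_comm (∑ i ∈ (Finset.range p).erase 0, _), hall, add_zero]

end CfsgLib.Avoid
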