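import Cfsg.Agent.Lib.PGroup.AvoidFixedBasic

/-!
Vectors avoided by the noncentral elements of a group with centre and derived group of order `p`.
-/

set_option autoImplicit false
set_option linter.unusedSectionVars false
set_option maxHeartbeats 1000000

namespace CfsgLib.Avoid

open scoped commutatorElement

universe u v

variable {N : Type u} [Group N] [Finite N] {V : Type v} [AddCommGroup V] [Finite V] [DistribMulAction N V]
variable {p : ℕ} [Fact p.Prime]

/-- A maximal subgroup of `A` with a fixed vector. -/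
def IsBlock (V : Type v) [AddCommGroup V] [DistribMulAction N V] (A B : Subgroup N) : Prop :=
  B ≤ A ∧ (fixB B : AddSubgroup V) ≠ ⊥ ∧ ∀ B' : Subgroup N, B < B' → B' ≤ A → (fixB B' : AddSubgroup V) = ⊥

theorem exists_block {A B : Subgroup N} (hB : B ≤ A) (h : (fixB B : AddSubgroup V) ≠ ⊥) :
    ∃ B₀, B ≤ B₀ ∧ IsBlock V A B₀ := by
  obtain ⟨B₀, ⟨hle, hA, hne⟩, hmax⟩ :=
    (Set.toFinite {C : Subgroup N | B ≤ C ∧ C ≤ A ∧ (fixB C : AddSubgroup V) ≠ ⊥}).exists_maximal
      ⟨B, le_rfl, hB, h⟩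
  refine ⟨B₀, hle, hA, hne, fun B' hlt hA' => ?_⟩
  by_contra hne'
  exact hlt.not_ge (hmax (y := B') ⟨hle.trans hlt.le, hA', hne'⟩ hlt.le)

theorem IsBlock.dis {A B B' : Subgroup N} (h : IsBlock V A B) (h' : IsBlock V A B') (hne : B ≠ B') (w : V)
    (hw : w ∈ fixB B) (hw' : w ∈ fixB B') : w = 0 := by
  rcases lt_or_eq_of_le (le_sup_left : B ≤ B ⊔ B') with hlt | heq
  · exact (AddSubgroup.eq_bot_iff_forall _).mp (h.2.2 _ hlt (sup_le h.1 h'.1)) w (fixB_sup hw hw')
  · rcases lt_or_eq_of_le (le_sup_right : B' ≤ B ⊔ B') with hlt' | heq'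
    · exact (AddSubgroup.eq_bot_iff_forall _).mp (h'.2.2 _ hlt' (sup_le h.1 h'.1)) w (fixB_sup hw hw')
    · exact absurd (heq.trans heq'.symm) hne

/-- A block has index at most `p`. -/
theorem IsBlock.cover (hcop : ¬ p ∣ Nat.card V) {A B : Subgroup N} (hA : ∀ x ∈ A, ∀ y ∈ A, Commute x y)
    (hexp : ∀ x ∈ A, x ^ p = 1) (h : IsBlock V A B) {x : N} (hx : x ∈ A) (hxB : x ∉ B) :
    A ≤ B ⊔ Subgroup.zpowers x := by
  intro y hy
  by_contra hyC
  have hCA : B ⊔ Subgroup.zpowers x ≤ A := sup_le h.1 (Subgroup.zpowers_le.mpr hx)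
  have hlt : B < B ⊔ Subgroup.zpowers x :=
    lt_of_le_of_ne le_sup_left fun e => hxB (e ▸ Subgroup.mem_sup_right (Subgroup.mem_zpowers x))
  have hstep : ∀ g ∈ A, ∀ w : V, w ∈ fixB B → g • w = w → g ∉ B → w = 0 := by
    intro g hg w hw hgw hgB
    have hlt' : B < B ⊔ Subgroup.zpowers g :=
      lt_of_le_of_ne le_sup_left fun e => hgB (e ▸ Subgroup.mem_sup_right (Subgroup.mem_zpowers g))
    refine (AddSubgroup.eq_bot_iff_forall _).mp (h.2.2 _ hlt' (sup_le h.1 (Subgroup.zpowers_le.mpr hg))) w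
      (fixB_sup hw ?_)
    exact fun b hb => MulAction.mem_stabilizer_iff.mp
      ((Subgroup.zpowers_le (H := MulAction.stabilizer N w)).mpr (MulAction.mem_stabilizer_iff.mpr hgw) hb)
  apply h.2.1
  rw [AddSubgroup.eq_bot_iff_forall]
  intro w hw
  obtain ⟨f, g, hf, hg, hsum⟩ := line_decomp (hA x hx y hy) (hexp x hx) (hexp y hy) B
    (fun b hb => hA b (h.1 hb) x hx) (fun b hb => hA b (h.1 hb) y hy)
    (fun w hw hxw _ => hstep x hx w hw hxw hxB) hw
  have hyB : y ∉ B := fun e => hyC (Subgroup.mem_sup_left e)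
  have hg0 : g = 0 := hstep y hy g hg.1 hg.2 hyB
  have hf0 : ∀ j ∈ Finset.range p, f j = 0 := by
    intro j hj
    refine hstep _ (mul_mem hx (pow_mem hy j)) (f j) (hf j).1 (hf j).2 fun hmem => ?_
    rcases Nat.eq_zero_or_pos j with h0 | hpos
    · subst h0
      exact hxB (by simpa using hmem)
    · apply hyC
      have h1 : y ^ j ∈ B ⊔ Subgroup.zpowers x := by
        have := mul_mem (inv_mem (Subgroup.mem_sup_right (Subgroup.mem_zpowers x) :
          x ∈ B ⊔ Subgroup.zpowers x)) (Subgroup.mem_sup_left hmem : x * y ^ j ∈ B ⊔ Subgroup.zpowers x)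
        rwa [inv_mul_cancel_left] at this
      have hcop' : j.Coprime (orderOf y) := by
        refine Nat.Coprime.coprime_dvd_right (orderOf_dvd_of_pow_eq_one (hexp y hy)) ?_
        refine ((Fact.out : p.Prime).coprime_iff_not_dvd.mpr fun hd => ?_).symm
        have := Nat.le_of_dvd hpos hd
        have := Finset.mem_range.mp hj
        omega
      obtain ⟨k, hk⟩ := exists_pow_eq_self_of_coprime hcop'
      rw [← hk]
      exact pow_mem h1 k
  rw [Finset.sum_eq_zero hf0, hg0, add_zero] at hsum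
  exact eq_zero_of_pow_nsmul hcop 1 (by rw [pow_one]; exact hsum)

/-- Characters of an abelian group. -/
theorem card_homs {Q : Type u} [Group Q] [Finite Q] (h : ∀ a b : Q, a * b = b * a) :
    Nat.card (Q →* ℂˣ) = Nat.card Q := by
  letI : CommGroup Q := { (inferInstance : Group Q) with mul_comm := h }
  haveI : NeZero (Monoid.exponent Q) := ⟨Monoid.exponent_ne_zero_of_finite⟩
  haveI : NeZero ((Monoid.exponent Q : ℕ) : ℂ) := ⟨by simp [Monoid.exponent_ne_zero_of_finite]⟩
  exact CommGroup.card_monoidHom_of_hasEnoughRootsOfUnity Q ℂ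

/-- Characters killing a normal subgroup with abelian quotient. -/
theorem finite_homs {G : Type u} [Group G] [Finite G] (K : Subgroup G) [K.Normal]
    (h : ∀ a b : G, ⁅a, b⁆ ∈ K) :
    Finite {f : G →* ℂˣ // K ≤ f.ker} ∧ Nat.card {f : G →* ℂˣ // K ≤ f.ker} ≤ Nat.card (G ⧸ K) := by
  have hQ : ∀ a b : G ⧸ K, a * b = b * a := by
    intro a b
    obtain ⟨a, rfl⟩ := QuotientGroup.mk'_surjective K a
    obtain ⟨b, rfl⟩ := QuotientGroup.mk'_surjective K b
    have := (QuotientGroup.eq_one_iff ⁅a, b⁆).mpr (h a b)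
    rw [← commutatorElement_eq_one_iff_mul_comm, ← map_commutatorElement]
    exact this
  have hpos : 0 < Nat.card ((G ⧸ K) →* ℂˣ) := by rw [card_homs hQ]; exact Nat.card_pos
  haveI : Finite ((G ⧸ K) →* ℂˣ) := Nat.finite_of_card_ne_zero hpos.ne'
  have hinj : Function.Injective fun f : {f : G →* ℂˣ // K ≤ f.ker} => QuotientGroup.lift K f.1 f.2 := by
    intro f g hfg
    refine Subtype.ext (MonoidHom.ext fun x => ?_)
    exact DFunLike.congr_fun hfg (QuotientGroup.mk x)
  exact ⟨Finite.of_injective _ hinj, (Nat.card_le_card_of_injective _ hinj).trans (card_homs hQ).le⟩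

/-- The hypotheses. -/
structure Heis (p : ℕ) (U : Subgroup N) (z : N) : Prop where
  two : p ≠ 2
  exp : ∀ u ∈ U, u ^ p = 1
  mem : z ∈ U
  order : orderOf z = p
  comm : ∀ u ∈ U, Commute z u
  derived : ∀ u ∈ U, ∀ w ∈ U, ⁅u, w⁆ ∈ Subgroup.zpowers z
  center : ∀ u ∈ U, (∀ w ∈ U, Commute u w) → u ∈ Subgroup.zpowers z

variable {U : Subgroup N} {z : N} (H : Heis p U z)
include H

theorem Heis.exists_iota : ∃ ι : Subgroup.zpowers z →* ℂˣ, Function.Injective ι := by
  have hp := (Fact.out : p.Prime)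
  have hcard : Nat.card (Subgroup.zpowers z) = p := by rw [Nat.card_zpowers, H.order]
  have h := card_homs (Q := Subgroup.zpowers z) fun a b => mul_comm' a b
  haveI : Finite (Subgroup.zpowers z →* ℂˣ) := Nat.finite_of_card_ne_zero (by rw [h, hcard]; exact hp.ne_zero)
  haveI : Nontrivial (Subgroup.zpowers z →* ℂˣ) :=
    Finite.one_lt_card_iff_nontrivial.mp (by rw [h, hcard]; exact hp.one_lt)
  obtain ⟨ι, hι⟩ := exists_ne (1 : Subgroup.zpowers z →* ℂˣ)
  refine ⟨ι, (MonoidHom.ker_eq_bot_iff ι).mp ?_⟩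
  haveI : Fact (Nat.card (Subgroup.zpowers z)).Prime := ⟨hcard.symm ▸ hp⟩
  refine (Subgroup.eq_bot_or_eq_top_of_prime_card ι.ker).resolve_right fun h' => hι ?_
  exact MonoidHom.ext fun x => (h'.symm ▸ Subgroup.mem_top x : x ∈ ι.ker)

/-- The character attached to an element acting on `U` by elements of the line. -/
theorem Heis.exists_psi {x : N} (hx : ∀ w ∈ U, ⁅x, w⁆ ∈ Subgroup.zpowers z) :
    ∃ f : U →* Subgroup.zpowers z, ∀ w : U, (f w : N) = ⁅x, (w : N)⁆ := by
  refine ⟨MonoidHom.mk' (fun w => ⟨⁅x, (w : N)⁆, hx w w.2⟩) fun a b => Subtype.ext ?_, fun w => rfl⟩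
  show ⁅x, (a : N) * (b : N)⁆ = ⁅x, (a : N)⁆ * ⁅x, (b : N)⁆
  obtain ⟨i, hi⟩ := Subgroup.mem_zpowers_iff.mp (hx b b.2)
  have hc : Commute (a : N) ⁅x, (b : N)⁆ := hi ▸ ((H.comm a a.2).symm.zpow_right i)
  rw [show ⁅x, (a : N) * (b : N)⁆ = ⁅x, (a : N)⁆ * ((a : N) * ⁅x, (b : N)⁆ * (a : N)⁻¹) by
    simp only [commutatorElement_def]; group, hc.eq, mul_inv_cancel_right]

/-- An element acting on `U` by elements of the line acts as an element of `U`. -/
theorem Heis.inner {x : N} (hx : ∀ w ∈ U, ⁅x, w⁆ ∈ Subgroup.zpowers z) (hxz : Commute x z) :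
    ∃ u ∈ U, ∀ w ∈ U, Commute (u⁻¹ * x) w := by
  classical
  obtain ⟨ι, hι⟩ := H.exists_iota
  set Z := (Subgroup.zpowers z).subgroupOf U with hZ
  haveI hZn : Z.Normal := ⟨fun w hw g => by
    rw [Subgroup.mem_subgroupOf] at hw ⊢
    obtain ⟨i, hi⟩ := Subgroup.mem_zpowers_iff.mp hw
    have hc : Commute (g : N) (w : N) := hi ▸ ((H.comm g g.2).symm.zpow_right i)
    show (g : N) * (w : N) * (g : N)⁻¹ ∈ _
    rw [hc.eq, mul_inv_cancel_right]
    exact hw⟩
  have hder : ∀ a b : U, ⁅a, b⁆ ∈ Z := fun a b => by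
    rw [Subgroup.mem_subgroupOf]
    exact H.derived a a.2 b b.2
  obtain ⟨hfin, hcard⟩ := finite_homs Z hder
  haveI := hfin
  have hker : ∀ (y : N) (f : U →* Subgroup.zpowers z), (∀ w : U, (f w : N) = ⁅y, (w : N)⁆) →
      Commute y z → Z ≤ (ι.comp f).ker := by
    intro y f hf hyz w hw
    rw [Subgroup.mem_subgroupOf] at hw
    obtain ⟨i, hi⟩ := Subgroup.mem_zpowers_iff.mp hw
    rw [MonoidHom.mem_ker, MonoidHom.comp_apply,
      show f w = 1 from Subtype.ext (by
        rw [hf w, ← hi, OneMemClass.coe_one]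
        exact commutatorElement_eq_one_iff_commute.mpr (hyz.zpow_right i)), map_one]
  obtain ⟨fx, hfx⟩ := H.exists_psi hx
  choose f hf using fun u : U => H.exists_psi (x := (u : N)) (fun w hw => H.derived u u.2 w hw)
  let Φ : U → {g : U →* ℂˣ // Z ≤ g.ker} := fun u => ⟨ι.comp (f u), hker u (f u) (hf u) (H.comm u u.2).symm⟩
  -- the fibres are cosets of the line
  have hfib : ∀ u u' : U, Φ u = Φ u' → (u : N)⁻¹ * (u' : N) ∈ Subgroup.zpowers z := by
    intro u u' e
    refine H.center _ (mul_mem (inv_mem u.2) u'.2) fun w hw => ?_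
    have e1 : ⁅(u : N), w⁆ = ⁅(u' : N), w⁆ := by
      rw [← hf u ⟨w, hw⟩, ← hf u' ⟨w, hw⟩]
      exact congrArg Subtype.val (hι (DFunLike.congr_fun (congrArg Subtype.val e) ⟨w, hw⟩))
    show (u : N)⁻¹ * (u' : N) * w = w * ((u : N)⁻¹ * (u' : N))
    simp only [commutatorElement_def] at e1
    have e2 : (u : N) * w * (u : N)⁻¹ = (u' : N) * w * (u' : N)⁻¹ := mul_right_cancel e1
    calc (u : N)⁻¹ * (u' : N) * w = (u : N)⁻¹ * ((u' : N) * w * (u' : N)⁻¹) * (u' : N) := by group
      _ = _ := by rw [← e2]; group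
  have hsurj : Function.Surjective Φ := by
    let Φb : U ⧸ Z → {g : U →* ℂˣ // Z ≤ g.ker} := fun q => Φ q.out
    have hinj : Function.Injective Φb := by
      intro a b e
      rw [← QuotientGroup.out_eq' a, ← QuotientGroup.out_eq' b, QuotientGroup.eq, Subgroup.mem_subgroupOf]
      exact hfib _ _ e
    have hb := (Nat.bijective_iff_injective_and_card Φb).mpr
      ⟨hinj, le_antisymm (Nat.card_le_card_of_injective Φb hinj) hcard⟩
    exact fun g => let ⟨q, hq⟩ := hb.2 g; ⟨q.out, hq⟩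
  obtain ⟨u, hu⟩ := hsurj ⟨ι.comp fx, hker x fx hfx hxz⟩
  refine ⟨u, u.2, fun w hw => ?_⟩
  have e1 : ⁅(u : N), w⁆ = ⁅x, w⁆ := by
    rw [← hf u ⟨w, hw⟩, ← hfx ⟨w, hw⟩]
    exact congrArg Subtype.val (hι (DFunLike.congr_fun (congrArg Subtype.val hu) ⟨w, hw⟩))
  simp only [commutatorElement_def] at e1
  have e2 : (u : N) * w * (u : N)⁻¹ = x * w * x⁻¹ := mul_right_cancel e1
  show (u : N)⁻¹ * x * w = w * ((u : N)⁻¹ * x)
  calc (u : N)⁻¹ * x * w = (u : N)⁻¹ * (x * w * x⁻¹) * x := by group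
    _ = _ := by rw [← e2]; group

omit H in
/-- The numerical inequality. -/
theorem count_ineq {p m W : ℕ} (hp : 3 ≤ p) (hm : 1 ≤ m) (hW : (p + 1) ^ p ^ m ≤ W ^ p) :
    p ^ (2 * m + 1) < (p - 1) * W ^ (p - 1) := by
  obtain ⟨n, rfl⟩ : ∃ n, m = n + 1 := ⟨m - 1, by omega⟩
  have h1 : (p + 1) ^ p ^ n ≤ W := by
    rw [pow_succ, pow_mul] at hW
    exact (Nat.pow_le_pow_iff_left (by omega)).mp hW
  have h2 : 2 * ((p + 1) ^ p ^ n) ^ (p - 1) ≤ (p - 1) * W ^ (p - 1) :=
    Nat.mul_le_mul (by omega) (Nat.pow_le_pow_left h1 _)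
  refine lt_of_lt_of_le ?_ h2
  rw [← pow_mul]
  rcases Nat.eq_zero_or_pos n with rfl | hn
  · rw [pow_zero, one_mul, show 2 * (0 + 1) + 1 = 3 by norm_num]
    rcases eq_or_lt_of_le hp with rfl | h4
    · norm_num
    · calc p ^ 3 ≤ p ^ (p - 1) := Nat.pow_le_pow_right (by omega) (by omega)
        _ < (p + 1) ^ (p - 1) := Nat.pow_lt_pow_left (by omega) (by omega)
        _ ≤ _ := Nat.le_mul_of_pos_left _ (by norm_num)
  · have h5 : n + 2 ≤ p ^ n := by
      have h3 : ∀ n, 1 ≤ n → n + 2 ≤ 3 ^ n := by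
        intro n hn
        induction n with
        | zero => omega
        | succ n ih =>
          rcases Nat.eq_zero_or_pos n with rfl | h
          · norm_num
          · have := ih h; rw [pow_succ]; omega
      exact (h3 n hn).trans (Nat.pow_le_pow_left hp n)
    have h6 : 2 * (n + 1) + 1 ≤ p ^ n * (p - 1) := by
      have h7 : p ^ n * 2 ≤ p ^ n * (p - 1) := Nat.mul_le_mul_left _ (by omega)
      omega
    calc p ^ (2 * (n + 1) + 1) ≤ p ^ (p ^ n * (p - 1)) := Nat.pow_le_pow_right (by omega) h6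
      _ < (p + 1) ^ (p ^ n * (p - 1)) := Nat.pow_lt_pow_left (by omega) (by omega)
      _ ≤ _ := Nat.le_mul_of_pos_left _ (by norm_num)

theorem Heis.mem_of_fixed (hfpf : ∀ w : V, z • w = w → w = 0) {x : N} {w : V}
    (hw : x • w = w) (hne : x ∈ Subgroup.zpowers z) (hx1 : x ≠ 1) : w = 0 := by
  refine hfpf w ?_
  have hle : Subgroup.zpowers x = Subgroup.zpowers z := by
    refine Subgroup.eq_of_le_of_card_ge (Subgroup.zpowers_le.mpr hne) ?_
    rw [Nat.card_zpowers, Nat.card_zpowers, H.order, orderOf_eq_prime (H.exp x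
      ((Subgroup.zpowers_le.mpr H.mem) hne)) hx1]
  have : z ∈ MulAction.stabilizer N w := by
    have h1 : Subgroup.zpowers x ≤ MulAction.stabilizer N w :=
      Subgroup.zpowers_le.mpr (MulAction.mem_stabilizer_iff.mpr hw)
    exact h1 (hle.symm ▸ Subgroup.mem_zpowers z)
  exact MulAction.mem_stabilizer_iff.mp this

/-- The fixed points of a noncentral element. -/
theorem Heis.card_fixed (hcop : ¬ p ∣ Nat.card V) (hfpf : ∀ w : V, z • w = w → w = 0) {x : N} (hx : x ∈ U)
    (hxz : x ∉ Subgroup.zpowers z) :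
    Nat.card (fixB (Subgroup.zpowers x) : AddSubgroup V) ^ p = Nat.card V := by
  classical
  have hp := (Fact.out : p.Prime)
  -- an element moving `x`
  obtain ⟨u, hu, hux⟩ : ∃ u ∈ U, ¬ Commute x u := by
    by_contra h
    push Not at h
    exact hxz (H.center x hx h)
  set c := ⁅u, x⁆ with hc
  have hcZ : c ∈ Subgroup.zpowers z := H.derived u hu x hx
  have hc1 : c ≠ 1 := fun e => hux (commutatorElement_eq_one_iff_commute.mp e).symm
  have hcU : c ∈ U := (Subgroup.zpowers_le.mpr H.mem) hcZ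
  have hcomm : ∀ w ∈ U, Commute c w := by
    intro w hw
    obtain ⟨i, hi⟩ := Subgroup.mem_zpowers_iff.mp hcZ
    exact hi ▸ ((H.comm w hw).zpow_left i)
  have hux' : u * x * u⁻¹ = x * c := by
    rw [← (hcomm x hx).eq, hc, commutatorElement_def]; group
  have hpow : ∀ j : ℕ, u ^ j * x * (u ^ j)⁻¹ = x * c ^ j := by
    intro j
    induction j with
    | zero => simp
    | succ j ih =>
      calc u ^ (j + 1) * x * (u ^ (j + 1))⁻¹ = u * (u ^ j * x * (u ^ j)⁻¹) * u⁻¹ := by rw [pow_succ']; group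
        _ = (u * x * u⁻¹) * (u * c ^ j * u⁻¹) := by rw [ih]; group
        _ = x * c * c ^ j := by rw [hux', ((hcomm u hu).pow_left j).symm.eq, mul_inv_cancel_right]
        _ = _ := by rw [mul_assoc, pow_succ']
  let C : AddSubgroup V := fixB (Subgroup.zpowers x)
  let Bf : Fin p → Subgroup N := fun j => Subgroup.zpowers (x * c ^ (j : ℕ))
  have hmap : ∀ j : Fin p, (Subgroup.zpowers x).map (MulAut.conj (u ^ (j : ℕ))).toMonoidHom = Bf j := by
    intro j
    rw [MonoidHom.map_zpowers]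
    show Subgroup.zpowers (u ^ (j : ℕ) * x * (u ^ (j : ℕ))⁻¹) = _
    rw [hpow]
  have hfixj : ∀ (y : N) (w : V), w ∈ fixB (Subgroup.zpowers y) ↔ y • w = w := fun y w =>
    ⟨fun h => h y (Subgroup.mem_zpowers y), fun h b hb => MulAction.mem_stabilizer_iff.mp
      ((Subgroup.zpowers_le (H := MulAction.stabilizer N w)).mpr (MulAction.mem_stabilizer_iff.mpr h) hb)⟩
  let Ψ : (Fin p → C) → V := fun f => ∑ j : Fin p, u ^ (j : ℕ) • (f j : V)
  have hord : orderOf c = p := orderOf_eq_prime (H.exp c hcU) hc1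
  have hinj : Function.Injective Ψ := by
    intro f f' e
    funext j
    refine Subtype.ext (sub_eq_zero.mp ((smul_eq_zero_iff_eq (u ^ (j : ℕ))).mp ?_))
    refine indep hcop Bf (fun i => ?_) (fun i k b hb b' hb' => ?_) (fun i k hik w hwi hwk => ?_)
      (fun i : Fin p => u ^ (i : ℕ) • ((f i : V) - f' i)) (fun i => ?_) ?_ j
    · rintro ⟨b, hb⟩
      refine ⟨1, Subtype.ext ?_⟩
      rw [pow_one]
      exact H.exp b ((Subgroup.zpowers_le.mpr (mul_mem hx (pow_mem hcU _))) hb)
    · obtain ⟨r, rfl⟩ := Subgroup.mem_zpowers_iff.mp hb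
      obtain ⟨s, rfl⟩ := Subgroup.mem_zpowers_iff.mp hb'
      refine Commute.zpow_zpow ?_ r s
      exact ((Commute.refl x).mul_right ((hcomm x hx).pow_left _).symm).mul_left
        (((hcomm x hx).pow_left _).mul_right ((Commute.refl c).pow_pow _ _))
    · rw [hfixj] at hwi hwk
      have hmem : ∀ i : Fin p, (x * c ^ (i : ℕ)) • w = w → x * c ^ (i : ℕ) ∈ MulAction.stabilizer N w := fun i h =>
        MulAction.mem_stabilizer_iff.mpr h
      have h1 := mul_mem (inv_mem (hmem i hwi)) (hmem k hwk)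
      rw [show (x * c ^ (i : ℕ))⁻¹ * (x * c ^ (k : ℕ)) = (c ^ (i : ℕ))⁻¹ * c ^ (k : ℕ) by group] at h1
      refine H.mem_of_fixed hfpf (MulAction.mem_stabilizer_iff.mp h1)
        (mul_mem (inv_mem (pow_mem hcZ _)) (pow_mem hcZ _)) (fun e => hik ?_)
      rw [inv_mul_eq_one] at e
      exact Fin.ext (pow_injOn_Iio_orderOf (by rw [Set.mem_Iio, hord]; exact i.2)
        (by rw [Set.mem_Iio, hord]; exact k.2) e)
    · rw [← hmap i]
      exact smul_mem_fixB_map _ (C.sub_mem (f i).2 (f' i).2)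
    · simp only [smul_sub, Finset.sum_sub_distrib]
      simp only [Ψ] at e
      exact sub_eq_zero.mpr e
  have hsurj : Function.Surjective Ψ := by
    intro w
    -- multiples by `p` exhaust the group
    obtain ⟨w', rfl⟩ : ∃ w', p • w' = w := by
      refine (Finite.injective_iff_surjective.mp (fun a b e => ?_)) w
      refine sub_eq_zero.mp (eq_zero_of_pow_nsmul hcop 1 ?_)
      rw [pow_one, nsmul_sub]
      exact sub_eq_zero.mpr e
    obtain ⟨f, g, hf, hg, hsum⟩ := line_decomp (hcomm x hx).symm (H.exp x hx) (H.exp c hcU) (⊥ : Subgroup N)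
      (fun b hb => by rw [Subgroup.mem_bot.mp hb]; exact Commute.one_left _)
      (fun b hb => by rw [Subgroup.mem_bot.mp hb]; exact Commute.one_left _)
      (fun v _ _ hv => H.mem_of_fixed hfpf hv hcZ hc1)
      (w := w') (fun b hb => by rw [Subgroup.mem_bot.mp hb, one_smul])
    have hg0 : g = 0 := H.mem_of_fixed hfpf hg.2 hcZ hc1
    refine ⟨fun j => ⟨(u ^ (j : ℕ))⁻¹ • f j, ?_⟩, ?_⟩
    · refine mem_fixB_of_map (u ^ (j : ℕ)) ?_
      rw [smul_inv_smul, hmap j]
      exact (hfixj _ _).mpr (hf j).2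
    · simp only [Ψ]
      rw [hsum, hg0, add_zero, ← Fin.sum_univ_eq_sum_range]
      exact Finset.sum_congr rfl fun j _ => smul_inv_smul _ _
  have h := Nat.card_eq_of_bijective Ψ ⟨hinj, hsurj⟩
  rwa [Nat.card_fun, Nat.card_fin] at h

/-- The lower bound. -/
theorem Heis.bounds (hcop : ¬ p ∣ Nat.card V) (hfpf : ∀ w : V, z • w = w → w = 0) (hV : ∃ w : V, w ≠ 0)
    {a : N} (ha : a ∈ U) (haz : a ∉ Subgroup.zpowers z) :
    ∃ m : ℕ, 1 ≤ m ∧ (p + 1) ^ p ^ m ≤ Nat.card V ∧ Nat.card U ≤ p ^ (2 * m + 1) := by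
  classical
  have hp := (Fact.out : p.Prime)
  obtain ⟨A, ⟨hAU, hzA, hAc⟩, hmax⟩ := (Set.toFinite {A : Subgroup N | A ≤ U ∧ z ∈ A ∧
    ∀ x ∈ A, ∀ y ∈ A, Commute x y}).exists_maximal ⟨Subgroup.zpowers z, Subgroup.zpowers_le.mpr H.mem,
      Subgroup.mem_zpowers z, fun x hx y hy => by
        obtain ⟨i, rfl⟩ := Subgroup.mem_zpowers_iff.mp hx
        obtain ⟨j, rfl⟩ := Subgroup.mem_zpowers_iff.mp hy
        exact (Commute.refl z).zpow_zpow i j⟩
  have hself : ∀ u ∈ U, (∀ x ∈ A, Commute u x) → u ∈ A := by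
    intro u hu hcu
    set A' := A ⊔ Subgroup.zpowers u
    have hA' : A' ∈ {A : Subgroup N | A ≤ U ∧ z ∈ A ∧ ∀ x ∈ A, ∀ y ∈ A, Commute x y} := by
      refine ⟨sup_le hAU (Subgroup.zpowers_le.mpr hu), Subgroup.mem_sup_left hzA, ?_⟩
      have hle : ∀ y, (y ∈ A ∨ y = u) → A' ≤ Subgroup.centralizer ({y} : Set N) := by
        intro y hy
        refine sup_le (fun x hx => Subgroup.mem_centralizer_singleton_iff.mpr ?_)
          (Subgroup.zpowers_le.mpr (Subgroup.mem_centralizer_singleton_iff.mpr ?_))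
        · rcases hy with hy | rfl
          · exact hAc x hx y hy
          · exact (hcu x hx).symm
        · rcases hy with hy | rfl
          · exact hcu y hy
          · rfl
      intro x hx y hy
      have h2 : A' ≤ Subgroup.centralizer ({x} : Set N) := by
        refine sup_le (fun w hw => Subgroup.mem_centralizer_singleton_iff.mpr
          (Subgroup.mem_centralizer_singleton_iff.mp (hle w (Or.inl hw) hx)).symm) ?_
        exact Subgroup.zpowers_le.mpr (Subgroup.mem_centralizer_singleton_iff.mpr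
          (Subgroup.mem_centralizer_singleton_iff.mp (hle u (Or.inr rfl) hx)).symm)
      exact (Subgroup.mem_centralizer_singleton_iff.mp (h2 hy)).symm
    exact hmax (y := A') hA' le_sup_left (Subgroup.mem_sup_right (Subgroup.mem_zpowers u))
  have hZA : Subgroup.zpowers z ≤ A := Subgroup.zpowers_le.mpr hzA
  set A₀ := A.subgroupOf U with hA₀
  haveI hA₀n : A₀.Normal := ⟨fun w hw g => by
    rw [Subgroup.mem_subgroupOf] at hw ⊢
    show (g : N) * (w : N) * (g : N)⁻¹ ∈ A
    rw [show (g : N) * (w : N) * (g : N)⁻¹ = ⁅(g : N), (w : N)⁆ * (w : N) by rw [commutatorElement_def]; group]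
    exact mul_mem (hZA (H.derived g g.2 w w.2)) hw⟩
  obtain ⟨hfin, hcard⟩ := finite_homs A₀ (fun x y => by
    rw [Subgroup.mem_subgroupOf]
    exact hZA (H.derived x x.2 y y.2))
  haveI := hfin
  have hpU : IsPGroup p U := fun w => ⟨1, Subtype.ext (by rw [pow_one]; exact H.exp w w.2)⟩
  obtain ⟨m, hm⟩ := (hpU.to_quotient A₀).exists_card_eq
  have hAcard : Nat.card A₀ ≤ p * p ^ m := by
    obtain ⟨ι, hι⟩ := H.exists_iota
    choose f hf using fun w : A₀ => H.exists_psi (x := ((w : U) : N)) (fun y hy => H.derived _ (w : U).2 y hy)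
    let Φ : A₀ → {g : U →* ℂˣ // A₀ ≤ g.ker} := fun w => ⟨ι.comp (f w), fun y hy => by
      rw [MonoidHom.mem_ker, MonoidHom.comp_apply, show f w y = 1 from Subtype.ext (by
        rw [hf w y, OneMemClass.coe_one]
        exact commutatorElement_eq_one_iff_commute.mpr
          (hAc _ (Subgroup.mem_subgroupOf.mp w.2) _ (Subgroup.mem_subgroupOf.mp hy))), map_one]⟩
    -- fibres have at most `p` elements
    set L := (Subgroup.zpowers z).subgroupOf U
    let K := L.subgroupOf A₀
    have hK : Nat.card K ≤ p := by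
      refine (Nat.card_le_card_of_injective (fun w : K => (⟨((w : A₀) : U).1, w.2⟩ : Subgroup.zpowers z))
        fun a b e => ?_).trans (by rw [Nat.card_zpowers, H.order])
      have e' : (((a : A₀) : U) : N) = (((b : A₀) : U) : N) := congrArg (fun t : Subgroup.zpowers z => (t : N)) e
      exact Subtype.ext (Subtype.ext (Subtype.ext e'))
    let Φb : A₀ ⧸ K → {g : U →* ℂˣ // A₀ ≤ g.ker} := fun q => Φ q.out
    have hinj : Function.Injective Φb := by
      intro q q' e
      rw [← QuotientGroup.out_eq' q, ← QuotientGroup.out_eq' q', QuotientGroup.eq, Subgroup.mem_subgroupOf,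
        Subgroup.mem_subgroupOf]
      show ((((q.out : A₀) : U) : N))⁻¹ * (((q'.out : A₀) : U) : N) ∈ Subgroup.zpowers z
      refine H.center _ (mul_mem (inv_mem (q.out : U).2) (q'.out : U).2) fun w hw => ?_
      have e1 : ⁅((q.out : U) : N), w⁆ = ⁅((q'.out : U) : N), w⁆ := by
        rw [← hf q.out ⟨w, hw⟩, ← hf q'.out ⟨w, hw⟩]
        exact congrArg Subtype.val (hι (DFunLike.congr_fun (congrArg Subtype.val e) ⟨w, hw⟩))
      simp only [commutatorElement_def] at e1
      have e2 : ((q.out : U) : N) * w * ((q.out : U) : N)⁻¹ = ((q'.out : U) : N) * w * ((q'.out : U) : N)⁻¹ :=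
        mul_right_cancel e1
      show ((q.out : U) : N)⁻¹ * ((q'.out : U) : N) * w = w * (((q.out : U) : N)⁻¹ * ((q'.out : U) : N))
      calc ((q.out : U) : N)⁻¹ * ((q'.out : U) : N) * w
          = ((q.out : U) : N)⁻¹ * (((q'.out : U) : N) * w * ((q'.out : U) : N)⁻¹) * ((q'.out : U) : N) := by group
        _ = _ := by rw [← e2]; group
    have h1 := (Nat.card_le_card_of_injective Φb hinj).trans hcard
    rw [hm] at h1
    rw [← K.card_mul_index]
    exact Nat.mul_le_mul hK h1
  have hm1 : 1 ≤ m := by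
    by_contra h0
    have hm0 : A₀ = ⊤ := Subgroup.index_eq_one.mp (by
      rw [Subgroup.index_eq_card, hm, show m = 0 by omega, pow_zero])
    refine haz (H.center a ha fun w hw => ?_)
    exact hAc a (Subgroup.mem_subgroupOf.mp (hm0.symm ▸ Subgroup.mem_top (⟨a, ha⟩ : U)))
      w (Subgroup.mem_subgroupOf.mp (hm0.symm ▸ Subgroup.mem_top (⟨w, hw⟩ : U)))
  refine ⟨m, hm1, ?_, ?_⟩
  swap
  · rw [← A₀.card_mul_index, Subgroup.index_eq_card, hm, show p ^ (2 * m + 1) = p * p ^ m * p ^ m by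
      rw [pow_succ, two_mul, pow_add]; ring]
    exact Nat.mul_le_mul hAcard le_rfl
  -- a block and its translates
  obtain ⟨w₀, hw₀⟩ := hV
  obtain ⟨B, -, hB⟩ := exists_block (V := V) (A := A) (B := ⊥) bot_le (fun e => hw₀
    ((AddSubgroup.eq_bot_iff_forall _).mp e w₀ fun b hb => by rw [Subgroup.mem_bot.mp hb, one_smul]))
  have hBz : ∀ b ∈ B, b ∈ Subgroup.zpowers z → b = 1 := by
    intro b hb hbz
    by_contra hb1
    exact hB.2.1 ((AddSubgroup.eq_bot_iff_forall _).mpr fun w hw => H.mem_of_fixed hfpf (hw b hb) hbz hb1)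
  have hzB : z ∉ B := fun h => by
    have := hBz z h (Subgroup.mem_zpowers z)
    exact (Fact.out : p.Prime).ne_one (by rw [← H.order, this, orderOf_one])
  have hcov := hB.cover hcop hAc (fun x hx => H.exp x (hAU hx)) hzA hzB
  have hstab : ∀ u ∈ U, (∀ b ∈ B, u * b * u⁻¹ ∈ B) → u ∈ A := by
    intro u hu hub
    refine hself u hu fun x hx => ?_
    have hle : B ⊔ Subgroup.zpowers z ≤ Subgroup.centralizer ({u} : Set N) := by
      refine sup_le (fun b hb => Subgroup.mem_centralizer_singleton_iff.mpr ?_)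
        (Subgroup.zpowers_le.mpr (Subgroup.mem_centralizer_singleton_iff.mpr (H.comm u hu).eq))
      have h1 : ⁅u, b⁆ = 1 := hBz _ (mul_mem (hub b hb) (inv_mem hb))
        (H.derived u hu b (hAU (hB.1 hb)))
      exact (commutatorElement_eq_one_iff_commute.mp h1).symm.eq
    exact ((Subgroup.mem_centralizer_singleton_iff.mp (hle (hcov hx)) : Commute x u)).symm
  haveI : Fintype (U ⧸ A₀) := Fintype.ofFinite _
  let rep : U ⧸ A₀ → N := fun q => ((q.out : U) : N)
  let Bq : U ⧸ A₀ → Subgroup N := fun q => B.map (MulAut.conj (rep q)).toMonoidHom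
  have hrep : ∀ q, rep q ∈ U := fun q => (q.out : U).2
  have hBqA : ∀ q, Bq q ≤ A := by
    rintro q _ ⟨b, hb, rfl⟩
    show rep q * b * (rep q)⁻¹ ∈ A
    rw [show rep q * b * (rep q)⁻¹ = ⁅rep q, b⁆ * b by rw [commutatorElement_def]; group]
    exact mul_mem (hZA (H.derived _ (hrep q) b (hAU (hB.1 hb)))) (hB.1 hb)
  have hdist : ∀ q q', Bq q = Bq q' → q = q' := by
    intro q q' e
    have hmem : (rep q)⁻¹ * rep q' ∈ A := by
      refine hstab _ (mul_mem (inv_mem (hrep q)) (hrep q')) fun b hb => ?_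
      have h1 : rep q' * b * (rep q')⁻¹ ∈ Bq q := e ▸ ⟨b, hb, rfl⟩
      obtain ⟨b', hb', hbe⟩ := h1
      have hbe' : rep q * b' * (rep q)⁻¹ = rep q' * b * (rep q')⁻¹ := hbe
      rw [show (rep q)⁻¹ * rep q' * b * ((rep q)⁻¹ * rep q')⁻¹ = (rep q)⁻¹ * (rep q' * b * (rep q')⁻¹) * rep q by group,
        ← hbe', show (rep q)⁻¹ * (rep q * b' * (rep q)⁻¹) * rep q = b' by group]
      exact hb'
    rw [← QuotientGroup.out_eq' q, ← QuotientGroup.out_eq' q', QuotientGroup.eq, Subgroup.mem_subgroupOf]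
    exact hmem
  have hblock : ∀ q, IsBlock V A (Bq q) := by
    intro q
    refine ⟨hBqA q, fun e => ?_, fun B' hlt hB' => (AddSubgroup.eq_bot_iff_forall _).mpr fun w hw => ?_⟩
    · exact hB.2.1 ((AddSubgroup.eq_bot_iff_forall _).mpr fun w hw => (smul_eq_zero_iff_eq (rep q)).mp
        ((AddSubgroup.eq_bot_iff_forall _).mp e _ (smul_mem_fixB_map (rep q) hw)))
    · -- pull back by the representative
      have h1 : B < B'.map (MulAut.conj (rep q)⁻¹).toMonoidHom := by
        refine lt_of_le_of_ne (fun b hb => ?_) fun e' => ?_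
        · refine ⟨rep q * b * (rep q)⁻¹, hlt.le ⟨b, hb, rfl⟩, ?_⟩
          show (rep q)⁻¹ * (rep q * b * (rep q)⁻¹) * (rep q)⁻¹⁻¹ = b
          group
        · refine hlt.not_ge fun b' hb' => ⟨(rep q)⁻¹ * b' * (rep q)⁻¹⁻¹, ?_, ?_⟩
          · rw [e']; exact ⟨b', hb', rfl⟩
          · show rep q * ((rep q)⁻¹ * b' * (rep q)⁻¹⁻¹) * (rep q)⁻¹ = b'
            group
      have h2 : B'.map (MulAut.conj (rep q)⁻¹).toMonoidHom ≤ A := by
        rintro _ ⟨b, hb, rfl⟩
        show (rep q)⁻¹ * b * (rep q)⁻¹⁻¹ ∈ A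
        rw [show (rep q)⁻¹ * b * (rep q)⁻¹⁻¹ = ⁅(rep q)⁻¹, b⁆ * b by rw [commutatorElement_def]; group]
        exact mul_mem (hZA (H.derived _ (inv_mem (hrep q)) b (hAU (hB' hb)))) (hB' hb)
      have := (AddSubgroup.eq_bot_iff_forall _).mp (hB.2.2 _ h1 h2) _ (smul_mem_fixB_map (rep q)⁻¹ hw)
      exact (smul_eq_zero_iff_eq _).mp this
  let C : AddSubgroup V := fixB B
  let Ψ : (U ⧸ A₀ → C) → V := fun f => ∑ q, rep q • (f q : V)
  have hinjΨ : Function.Injective Ψ := by
    intro f f' e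
    funext j
    refine Subtype.ext (sub_eq_zero.mp ((smul_eq_zero_iff_eq (rep j)).mp ?_))
    refine indep hcop Bq (fun i => ?_) (fun i k b hb b' hb' => hAc b (hBqA i hb) b' (hBqA k hb'))
      (fun i k hik w hwi hwk => (hblock i).dis (hblock k) (fun e' => hik (hdist _ _ e')) w hwi hwk)
      (fun i : U ⧸ A₀ => rep i • ((f i : V) - f' i))
      (fun i => smul_mem_fixB_map _ (C.sub_mem (f i).2 (f' i).2)) ?_ j
    · rintro ⟨b, hb⟩
      exact ⟨1, Subtype.ext (by rw [pow_one]; exact H.exp b (hAU (hBqA i hb)))⟩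
    · simp only [Ψ] at e
      simp only [smul_sub, Finset.sum_sub_distrib]
      exact sub_eq_zero.mpr e
  have hC : p + 1 ≤ Nat.card C := by
    letI : MulAction (Subgroup.zpowers z) C :=
      { smul := fun x w => ⟨(x : N) • (w : V), fun b hb => by
          obtain ⟨i, hi⟩ := Subgroup.mem_zpowers_iff.mp x.2
          rw [← mul_smul, ← hi, (((H.comm b (hAU (hB.1 hb))).zpow_left i).symm).eq, mul_smul, w.2 b hb]⟩
        one_smul := fun w => Subtype.ext (one_smul N (w : V))
        mul_smul := fun x y w => Subtype.ext (mul_smul (x : N) (y : N) (w : V)) }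
    have hpz : IsPGroup p (Subgroup.zpowers z) := IsPGroup.of_card (n := 1) (by
      rw [Nat.card_zpowers, H.order, pow_one])
    have hfix : Nat.card (MulAction.fixedPoints (Subgroup.zpowers z) C) = 1 := by
      rw [Nat.card_eq_one_iff_unique]
      refine ⟨⟨fun x y => ?_⟩, ⟨⟨0, fun g => Subtype.ext (smul_zero (g : N))⟩⟩⟩
      have hz0 : ∀ t : MulAction.fixedPoints (Subgroup.zpowers z) C, ((t : C) : V) = 0 := fun t =>
        hfpf _ (congrArg Subtype.val (t.2 ⟨z, Subgroup.mem_zpowers z⟩))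
      exact Subtype.ext (Subtype.ext ((hz0 x).trans (hz0 y).symm))
    have hmod := hpz.card_modEq_card_fixedPoints (α := C)
    rw [hfix] at hmod
    have hone : 1 < Nat.card C := by
      haveI : Nontrivial C := AddSubgroup.nontrivial_iff_ne_bot C |>.mpr hB.2.1
      exact Finite.one_lt_card
    have h2 := (Nat.modEq_iff_dvd' hone.le).mp hmod.symm
    have := Nat.le_of_dvd (by omega) h2
    omega
  calc (p + 1) ^ p ^ m ≤ Nat.card C ^ p ^ m := Nat.pow_le_pow_left hC _
    _ = Nat.card (U ⧸ A₀ → C) := by rw [Nat.card_fun, hm]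
    _ ≤ _ := Nat.card_le_card_of_injective Ψ hinjΨ

/-- **Avoidance.** Some vector is fixed by no element outside the line. -/
theorem Heis.avoid (hcop : ¬ p ∣ Nat.card V) (hfpf : ∀ w : V, z • w = w → w = 0) (hV : ∃ w : V, w ≠ 0)
    {a : N} (ha : a ∈ U) (haz : a ∉ Subgroup.zpowers z) :
    ∃ w : V, ∀ x ∈ U, x ∉ Subgroup.zpowers z → x • w ≠ w := by
  classical
  have hp := (Fact.out : p.Prime)
  by_contra hbad
  push Not at hbad
  obtain ⟨m, hm, hVm, hUm⟩ := H.bounds hcop hfpf hV ha haz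
  set W := Nat.card (fixB (Subgroup.zpowers a) : AddSubgroup V) with hW
  have hWV : W ^ p = Nat.card V := H.card_fixed hcop hfpf ha haz
  have hineq := count_ineq (p := p) (m := m) (W := W) (by have := hp.two_le; have := H.two; omega) hm
    (by rw [hWV]; exact hVm)
  haveI := Fintype.ofFinite V
  haveI := Fintype.ofFinite N
  let S : Finset N := Finset.univ.filter fun x => x ∈ U ∧ x ∉ Subgroup.zpowers z
  let T : Finset (N × V) := (S ×ˢ Finset.univ).filter fun xv => xv.1 • xv.2 = xv.2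
  have hlow : (p - 1) * Nat.card V ≤ T.card := by
    rw [Nat.card_eq_fintype_card, ← Finset.card_univ]
    refine Finset.mul_card_image_le_card_of_maps_to (f := fun xv : N × V => xv.2) (s := T) (t := Finset.univ) (fun _ _ => Finset.mem_univ _)
      (p - 1) fun w _ => ?_
    obtain ⟨x, hx, hxz, hxw⟩ := hbad w
    have hxp := H.exp x hx
    have hx1 : x ≠ 1 := fun e => hxz (e ▸ one_mem _)
    have hord : orderOf x = p := orderOf_eq_prime hxp hx1
    have hsub : (Finset.Ico 1 p).image (fun i => (x ^ i, w)) ⊆ T.filter fun xv => xv.2 = w := by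
      intro t ht
      obtain ⟨i, hi, rfl⟩ := Finset.mem_image.mp ht
      rw [Finset.mem_Ico] at hi
      have hiz : x ^ i ∉ Subgroup.zpowers z := by
        intro hmem
        apply hxz
        obtain ⟨k, hk⟩ := exists_pow_eq_self_of_coprime (show i.Coprime (orderOf x) by
          rw [hord]
          refine (hp.coprime_iff_not_dvd.mpr fun hd => ?_).symm
          have := Nat.le_of_dvd (by omega) hd
          omega)
        rw [← hk]
        exact pow_mem hmem k
      have hfix : x ^ i • w = w := MulAction.mem_stabilizer_iff.mp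
        (pow_mem (MulAction.mem_stabilizer_iff.mpr hxw) i)
      simp [T, S, pow_mem hx i, hiz, hfix]
    refine le_trans ?_ (Finset.card_le_card hsub)
    rw [Finset.card_image_of_injOn, Nat.card_Ico]
    intro i hi j hj e
    rw [Finset.coe_Ico, Set.mem_Ico] at hi hj
    exact pow_injOn_Iio_orderOf (by rw [Set.mem_Iio, hord]; exact hi.2) (by rw [Set.mem_Iio, hord]; exact hj.2)
      (congrArg Prod.fst e)
  have hup : T.card ≤ S.card * W := by
    refine Finset.card_le_mul_card_image_of_maps_to (f := fun xv : N × V => xv.1) (t := S) (fun xv hxv => ?_) W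
      (fun x hx => ?_) |>.trans (le_of_eq (mul_comm _ _))
    · simp only [T, Finset.mem_filter, Finset.mem_product] at hxv
      exact hxv.1.1
    · simp only [S, Finset.mem_filter] at hx
      have hWx : Nat.card (fixB (Subgroup.zpowers x) : AddSubgroup V) = W := by
        have := H.card_fixed hcop hfpf hx.2.1 hx.2.2
        rw [← hWV] at this
        exact Nat.pow_left_injective hp.ne_zero this
      rw [← hWx, ← Fintype.card_coe, ← Nat.card_eq_fintype_card]
      refine Nat.card_le_card_of_injective (fun t => (⟨t.1.2, fun b hb => ?_⟩ : (fixB (Subgroup.zpowers x) : AddSubgroup V)))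
        fun t t' e => ?_
      · have h1 := t.2
        simp only [T, Finset.mem_filter] at h1
        have h2 : x • t.1.2 = t.1.2 := by
          have h3 := h1.1.2
          rwa [h1.2] at h3
        exact MulAction.mem_stabilizer_iff.mp
          ((Subgroup.zpowers_le (H := MulAction.stabilizer N t.1.2)).mpr (MulAction.mem_stabilizer_iff.mpr h2) hb)
      · have h1 := t.2
        have h1' := t'.2
        simp only [Finset.mem_filter] at h1 h1'
        exact Subtype.ext (Prod.ext (h1.2.trans h1'.2.symm) (congrArg Subtype.val e))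
  have hScard : S.card ≤ p ^ (2 * m + 1) := by
    refine le_trans ?_ hUm
    rw [← Fintype.card_coe, ← Nat.card_eq_fintype_card]
    refine Nat.card_le_card_of_injective (fun t => (⟨t.1, ?_⟩ : U)) fun t t' e => Subtype.ext (congrArg (fun s : U => (s : N)) e)
    have h1 := t.2
    simp only [S, Finset.mem_filter] at h1
    exact h1.2.1
  have hW0 : 0 < W := Nat.card_pos
  have h1 : (p - 1) * W ^ (p - 1) * W ≤ p ^ (2 * m + 1) * W := by
    rw [mul_assoc, ← pow_succ, show p - 1 + 1 = p by have := hp.two_le; omega, hWV]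
    exact hlow.trans (hup.trans (Nat.mul_le_mul_right _ hScard))
  have := Nat.le_of_mul_le_mul_right h1 hW0
  omega

end CfsgLib.Avoid
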