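import Mathlib

/-!
The power formula in class at most three.
-/

set_option autoImplicit false
set_option linter.unusedSectionVars false

namespace CfsgLib.PGroup3

variable {G : Type*} [Group G] {u v c d e : G}

theorem conj_pow_right (hc : c * u = u * c * d) (hdc : Commute d c) (k : ℕ) : c ^ k * u = u * c ^ k * d ^ k := by
  induction k with
  | zero => simp
  | succ k ih =>
    calc c ^ (k + 1) * u = c * (c ^ k * u) := by rw [pow_succ', mul_assoc]
      _ = c * u * (c ^ k * d ^ k) := by rw [ih]; group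
      _ = u * c * (d * c ^ k) * d ^ k := by rw [hc]; group
      _ = u * c * (c ^ k * d) * d ^ k := by rw [(hdc.pow_right k).eq]
      _ = u * c ^ (k + 1) * d ^ (k + 1) := by rw [pow_succ' c, pow_succ' d]; group

theorem pow_swap_left (h : v * u = u * v * c) (hd : c * v = v * c * d) (hdv : Commute d v) (hdc : Commute d c)
    (j : ℕ) : v ^ j * u = u * v ^ j * c ^ j * d ^ j.choose 2 := by
  induction j with
  | zero => simp
  | succ j ih =>
    have hcv : c * v ^ j = v ^ j * c * d ^ j := by
      clear ih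
      induction j with
      | zero => simp
      | succ j ih =>
        calc c * v ^ (j + 1) = c * v ^ j * v := by rw [pow_succ, mul_assoc]
          _ = v ^ j * c * (d ^ j * v) := by rw [ih]; group
          _ = v ^ j * c * (v * d ^ j) := by rw [(hdv.pow_left j).eq]
          _ = v ^ j * (c * v) * d ^ j := by group
          _ = v ^ (j + 1) * c * d ^ (j + 1) := by rw [hd, pow_succ v, pow_succ' d]; group
    calc v ^ (j + 1) * u = v * (v ^ j * u) := by rw [pow_succ', mul_assoc]
      _ = (v * u) * v ^ j * c ^ j * d ^ j.choose 2 := by rw [ih]; group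
      _ = u * v * (c * v ^ j) * c ^ j * d ^ j.choose 2 := by rw [h]; group
      _ = u * v * v ^ j * c * (d ^ j * c ^ j) * d ^ j.choose 2 := by rw [hcv]; group
      _ = u * v * v ^ j * c * (c ^ j * d ^ j) * d ^ j.choose 2 := by rw [(hdc.pow_pow j j).eq]
      _ = u * v ^ (j + 1) * c ^ (j + 1) * d ^ (j + 1).choose 2 := by
        rw [Nat.choose_succ_succ, Nat.choose_one_right, pow_succ' v, pow_succ' c, pow_add d]; group

theorem pow_swap_right (h : v * u = u * v * c) (hc : c * u = u * c * d) (hdu : Commute d u) (hdc : Commute d c)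
    (j : ℕ) : v * u ^ j = u ^ j * v * c ^ j * d ^ j.choose 2 := by
  induction j with
  | zero => simp
  | succ j ih =>
    calc v * u ^ (j + 1) = (v * u ^ j) * u := by rw [pow_succ, mul_assoc]
      _ = u ^ j * v * c ^ j * (d ^ j.choose 2 * u) := by rw [ih]; group
      _ = u ^ j * v * c ^ j * (u * d ^ j.choose 2) := by rw [(hdu.pow_left _).eq]
      _ = u ^ j * v * (c ^ j * u) * d ^ j.choose 2 := by group
      _ = u ^ j * (v * u) * c ^ j * d ^ j * d ^ j.choose 2 := by rw [conj_pow_right hc hdc]; group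
      _ = u ^ j * u * v * (c * c ^ j) * (d ^ j * d ^ j.choose 2) := by rw [h]; group
      _ = u ^ (j + 1) * v * c ^ (j + 1) * d ^ (j + 1).choose 2 := by
        rw [Nat.choose_succ_succ, Nat.choose_one_right, pow_succ u, pow_succ' c, pow_add d]

theorem mul_pow_class_three (h : v * u = u * v * c) (hc : c * u = u * c * d) (hd : c * v = v * c * e)
    (hdu : Commute d u) (hdv : Commute d v) (hdc : Commute d c)
    (heu : Commute e u) (hev : Commute e v) (hec : Commute e c) (n : ℕ) :
    (u * v) ^ n = u ^ n * v ^ n * c ^ n.choose 2 * d ^ n.choose 3 * e ^ (n.choose 2 + 2 * n.choose 3) := by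
  induction n with
  | zero => simp
  | succ n ih =>
    set F := n.choose 3
    set A := n.choose 2
    set Gn := A + 2 * F
    have hde : Commute d e := by
      -- `e` is a word in `c` and `v`
      have he : e = c⁻¹ * v⁻¹ * (c * v) := by rw [hd]; group
      rw [he]
      exact ((hdc.inv_right.mul_right hdv.inv_right).mul_right (hdc.mul_right hdv))
    have hD : ∀ i j : ℕ, Commute (d ^ i * e ^ j) (u * v) := fun i j =>
      ((hdu.mul_right hdv).pow_left i).mul_left ((heu.mul_right hev).pow_left j)
    calc (u * v) ^ (n + 1) = u ^ n * v ^ n * c ^ A * ((d ^ F * e ^ Gn) * (u * v)) := by rw [pow_succ, ih]; group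
      _ = u ^ n * v ^ n * c ^ A * ((u * v) * (d ^ F * e ^ Gn)) := by rw [(hD F Gn).eq]
      _ = u ^ n * v ^ n * (c ^ A * u) * v * (d ^ F * e ^ Gn) := by group
      _ = u ^ n * (v ^ n * u) * c ^ A * (d ^ A * v) * (d ^ F * e ^ Gn) := by rw [conj_pow_right hc hdc]; group
      _ = u ^ n * (v ^ n * u) * c ^ A * (v * d ^ A) * (d ^ F * e ^ Gn) := by rw [(hdv.pow_left A).eq]
      _ = u ^ n * u * v ^ n * c ^ n * (e ^ A * c ^ A) * v * d ^ A * (d ^ F * e ^ Gn) := by
        rw [pow_swap_left h hd hev hec, show n.choose 2 = A from rfl]; group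
      _ = u ^ n * u * v ^ n * c ^ n * (c ^ A * e ^ A) * v * d ^ A * (d ^ F * e ^ Gn) := by
        rw [(hec.pow_pow A A).eq]
      _ = u ^ n * u * v ^ n * (c ^ (n + A) * (e ^ A * v)) * d ^ A * (d ^ F * e ^ Gn) := by rw [pow_add]; group
      _ = u ^ n * u * v ^ n * (c ^ (n + A) * (v * e ^ A)) * d ^ A * (d ^ F * e ^ Gn) := by
        rw [(hev.pow_left A).eq]
      _ = u ^ n * u * v ^ n * (c ^ (n + A) * v) * e ^ A * (d ^ A * d ^ F) * e ^ Gn := by group
      _ = u ^ n * u * v ^ n * v * c ^ (n + A) * (e ^ (n + A) * e ^ A * d ^ (A + F)) * e ^ Gn := by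
        rw [conj_pow_right hd hec, pow_add d]; group
      _ = u ^ n * u * v ^ n * v * c ^ (n + A) * (d ^ (A + F) * (e ^ (n + A) * e ^ A)) * e ^ Gn := by
        rw [((hde.symm.pow_pow (n + A) (A + F)).mul_left (hde.symm.pow_pow A (A + F))).eq]
      _ = u ^ (n + 1) * v ^ (n + 1) * c ^ (n + 1).choose 2 * d ^ (n + 1).choose 3 *
          e ^ ((n + 1).choose 2 + 2 * (n + 1).choose 3) := by
        rw [Nat.choose_succ_succ n 1, Nat.choose_succ_succ n 2, Nat.choose_one_right,
          show n.choose 2 = A from rfl, show n.choose 3 = F from rfl, show n + A + 2 * (A + F) = (n + A) + (A + Gn) by simp only [Gn]; ring, pow_succ u, pow_succ v,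
          pow_add e (n + A), pow_add e A]
        simp only [Gn]
        group

end CfsgLib.PGroup3
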